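import Groth.Agent.RedSub.H657.FacLoc
import Groth.Agent.Sga3B.PinModel

/-!
# Factoring through a monomorphism may be checked on affine pieces lying over affine opens of the base
-/

set_option autoImplicit false
universe u

open CategoryTheory MonoidalCategory CartesianMonoidalCategory MonObj GrpObj AlgebraicGeometry Limits

namespace K196.Cov

open Groth.Agent.Sga3B Groth.Agent.Sga3B.PinMod Groth.Agent.RedSub

variable {S : Scheme.{u}}

/-- every point of an `S`-scheme has an affine open neighbourhood lying over an affine open of `S` -/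
theorem exists_affine (X : Over S) (p : X.left) :
    ∃ (R : Type u) (_ : CommRing R) (s : Spec (CommRingCat.of R) ⟶ S) (_ : IsOpenImmersion s)
      (B : Type u) (_ : CommRing B) (_ : Algebra R B) (ψ : tB s B ⟶ X),
      IsOpenImmersion ψ.left ∧ p ∈ Set.range ψ.left := by
  let c := S.affineOpenCover
  obtain ⟨j, q, hq⟩ := c.openCover.exists_eq (X.hom p)
  let s : Spec (CommRingCat.of (c.X j)) ⟶ S := c.f j
  have hs : IsOpenImmersion s := inferInstanceAs (IsOpenImmersion (c.f j))
  have hq' : s q = X.hom p := hq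
  obtain ⟨w, hw1, hw2⟩ := Scheme.Pullback.exists_preimage_pullback (f := X.hom) (g := s) p q hq'.symm
  let W := pullback X.hom s
  let d := W.affineOpenCover
  obtain ⟨k, r, hr⟩ := d.openCover.exists_eq w
  let f : Spec (CommRingCat.of (d.X k)) ⟶ W := d.f k
  have hf : IsOpenImmersion f := inferInstanceAs (IsOpenImmersion (d.f k))
  have hr' : f r = w := hr
  obtain ⟨φ, hφ⟩ := Spec.map_surjective (f ≫ pullback.snd X.hom s)
  let _ : Algebra (c.X j) (d.X k) := φ.hom.toAlgebra
  have hφ' : Spec.map (CommRingCat.ofHom (algebraMap (c.X j) (d.X k))) = f ≫ pullback.snd X.hom s := hφ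
  have h1 : IsOpenImmersion (pullback.fst X.hom s) := inferInstance
  refine ⟨c.X j, inferInstance, s, hs, d.X k, inferInstance, inferInstance,
    Over.homMk (f ≫ pullback.fst X.hom s) ?_, ?_, ⟨r, ?_⟩⟩
  · change (f ≫ pullback.fst X.hom s) ≫ X.hom = Spec.map (CommRingCat.ofHom (algebraMap (c.X j) (d.X k))) ≫ s
    rw [hφ', Category.assoc, Category.assoc, pullback.condition]
  · change IsOpenImmersion (f ≫ pullback.fst X.hom s)
    infer_instance
  · change (f ≫ pullback.fst X.hom s) r = p
    rw [Scheme.Hom.comp_apply, hr', hw1]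

/-- A morphism factors through a monomorphism as soon as it does on affine pieces lying over affine opens. -/
theorem exists_fac {X K G : Over S} (k : K ⟶ G) [Mono k.left] (g : X ⟶ G)
    (h : ∀ {R : Type u} [CommRing R] (s : Spec (CommRingCat.of R) ⟶ S) [IsOpenImmersion s] {B : Type u}
      [CommRing B] [Algebra R B] (ψ : tB s B ⟶ X), IsOpenImmersion ψ.left → ∃ v : tB s B ⟶ K, v ≫ k = ψ ≫ g) :
    ∃ v : X ⟶ K, v ≫ k = g := by
  obtain ⟨z, hz⟩ := H657.FacLoc.exists_fac_of_local g.left k.left fun p => by
    obtain ⟨R, _, s, _, B, _, _, ψ, hψ, hp⟩ := exists_affine X p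
    obtain ⟨v, hv⟩ := h s ψ hψ
    refine ⟨_, ψ.left, inferInstance, inferInstance, hp, v.left, ?_⟩
    rw [← Over.comp_left, hv, Over.comp_left]
  refine ⟨Over.homMk z ?_, ?_⟩
  · rw [← Over.w k, ← Category.assoc, hz, Over.w g]
  · ext1
    exact hz

end K196.Cov
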