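import Groth.Agent.RedSub.K199.RootCmp
import Groth.Agent.RedSub.H643.TypeRTorus
import Groth.Agent.RedSub.H635.Uniq
import Groth.Agent.RedSub.H648.TypeR

/-!
# Conjugation of subgroups containing the torus of a splitting by a section normalising the torus

`D : Red.SplitRed G`, `n` a section of `G` acting on the torus through an endomorphism `w` of the characters
(`Acts D n w`, the form used in `Red.SplitRed.refl`).

* `isRootHom_conj`: the conjugate of `D.u b` by `n` is a root homomorphism for `w⁻¹ (D.P.root b)`;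
* `exists_lift_iff`: `D.u c` factors through the conjugate by `n` iff `D.u b` factors through `H`, `root c = w⁻¹ (root b)`;
* `E_conj`: the same for the sets `H635.Uniq.E`;
* `isTypeR_conj`, `conjEq_conj`.
* `conj_refl`: the case of the section given by `D.refl a`.
-/

set_option autoImplicit false
universe u

open CategoryTheory MonoidalCategory CartesianMonoidalCategory MonObj GrpObj AlgebraicGeometry Limits

namespace K196.ConjAct

open Groth.Agent Groth.Agent.Sga3B DSPts GaPts IsoFam IsomCore IsomDefs Cell PinMod IsomHd848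
  Groth.Agent.RedSub.H643.TypeRTorus RedIso Groth.Agent.RedSub.H635.Uniq

variable {S : Scheme.{u}} {G H : Over S} [GrpObj G]

/-- the section `n` acts on the torus of the splitting through the endomorphism `w` of the characters -/
def Acts (D : Red.SplitRed G) (n : 𝟙_ (Over S) ⟶ G) (w : D.M →+ D.M) : Prop :=
  ∀ (X : Over S) (t : X ⟶ D.T), (toUnit X ≫ n) * (t ≫ D.i) * (toUnit X ≫ n)⁻¹ =
    t ≫ D.split.hom.hom.hom ≫ Red.DSmap S w ≫ D.split.inv.hom.hom ≫ D.i

variable (D : Red.SplitRed G)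

/-- the endomorphism of the torus given by an endomorphism of the characters -/
noncomputable def sT (w : D.M →+ D.M) : D.T ⟶ D.T :=
  D.split.hom.hom.hom ≫ Red.DSmap S w ≫ D.split.inv.hom.hom

lemma split_hom_inv : D.split.hom.hom.hom ≫ D.split.inv.hom.hom = 𝟙 _ :=
  congrArg (fun k => k.hom.hom) D.split.hom_inv_id

lemma split_inv_hom : D.split.inv.hom.hom ≫ D.split.hom.hom.hom = 𝟙 _ :=
  congrArg (fun k => k.hom.hom) D.split.inv_hom_id

lemma sT_comp (w w' : D.M →+ D.M) : sT D w ≫ sT D w' = sT D (w.comp w') := by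
  rw [sT, sT, sT, Category.assoc, Category.assoc, reassoc_of% (split_inv_hom D)]
  have h := Trans894.DSmap_comp (S := S) w' w
  rw [← h]
  simp only [Category.assoc]

lemma sT_id : sT D (AddMonoidHom.id _) = 𝟙 _ := by
  rw [sT, Trans894.DSmap_id, Category.id_comp, split_hom_inv]

instance (w : D.M →+ D.M) : IsMonHom (sT D w) := by
  have h1 : IsMonHom D.split.hom.hom.hom := inferInstance
  have h2 : IsMonHom (Red.DSmap S w) := inferInstance
  have h3 : IsMonHom D.split.inv.hom.hom := inferInstance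
  exact inferInstanceAs (IsMonHom (_ ≫ _ ≫ _))

lemma sT_chi (w : D.M →+ D.M) (m : D.M) :
    sT D w ≫ D.split.hom.hom.hom ≫ Red.chi S m = D.split.hom.hom.hom ≫ Red.chi S (w m) := by
  rw [sT, Category.assoc, Category.assoc, reassoc_of% (split_inv_hom D), K199.RootCmp.chi_comp]

variable {D}

lemma acts_iff {n : 𝟙_ (Over S) ⟶ G} {w : D.M →+ D.M} : Acts D n w ↔
    ∀ (X : Over S) (t : X ⟶ D.T), (toUnit X ≫ n) * (t ≫ D.i) * (toUnit X ≫ n)⁻¹ = (t ≫ sT D w) ≫ D.i := by
  have h : ∀ (X : Over S) (t : X ⟶ D.T),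
      (t ≫ sT D w) ≫ D.i = t ≫ D.split.hom.hom.hom ≫ Red.DSmap S w ≫ D.split.inv.hom.hom ≫ D.i := by
    intro X t
    simp only [sT, Category.assoc]
  constructor
  · intro h' X t
    rw [h, h' X t]
  · intro h' X t
    rw [h' X t, h]

lemma Acts.inv {n : 𝟙_ (Over S) ⟶ G} {w w' : D.M →+ D.M} (hn : Acts D n w)
    (hw : w'.comp w = AddMonoidHom.id _) : Acts D n⁻¹ w' := by
  rw [acts_iff] at hn ⊢
  intro X t
  have h1 := hn X (t ≫ sT D w')
  have h2 : (t ≫ sT D w') ≫ sT D w = t := by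
    rw [Category.assoc, sT_comp, hw, sT_id, Category.comp_id]
  rw [h2] at h1
  rw [GrpObj.comp_inv, ← h1]
  group

lemma Acts.mul {n n' : 𝟙_ (Over S) ⟶ G} {w w' : D.M →+ D.M} (hn : Acts D n w) (hn' : Acts D n' w') :
    Acts D (n * n') (w'.comp w) := by
  rw [acts_iff] at hn hn' ⊢
  intro X t
  rw [← sT_comp, ← Category.assoc t, ← hn, ← hn', MonObj.comp_mul]
  group

lemma Acts.one : Acts D (1 : 𝟙_ (Over S) ⟶ G) (AddMonoidHom.id _) := by
  rw [acts_iff]
  intro X t
  rw [sT_id, Category.comp_id, MonObj.comp_one, _root_.one_mul, _root_.inv_one, _root_.mul_one]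

lemma acts_T (t₀ : 𝟙_ (Over S) ⟶ D.T) : Acts D (t₀ ≫ D.i) (AddMonoidHom.id _) := by
  rw [acts_iff]
  intro X t
  have hmon : IsMonHom D.i := D.maximalTorus.1
  have hm1 : IsMonHom D.split.hom.hom.hom := inferInstance
  have hm2 : IsMonHom D.split.inv.hom.hom := inferInstance
  have hcomm : ∀ a b : X ⟶ D.T, a * b = b * a := by
    intro a b
    have h1 : ∀ c : X ⟶ D.T, c = (c ≫ D.split.hom.hom.hom) ≫ D.split.inv.hom.hom := by
      intro c
      rw [Category.assoc, split_hom_inv, Category.comp_id]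
    have h2 : (a * b) ≫ D.split.hom.hom.hom = (b * a) ≫ D.split.hom.hom.hom := by
      have e1 : (a * b) ≫ D.split.hom.hom.hom = (a ≫ D.split.hom.hom.hom) * (b ≫ D.split.hom.hom.hom) :=
        MonObj.mul_comp _ _ _
      have e2 : (b * a) ≫ D.split.hom.hom.hom = (b ≫ D.split.hom.hom.hom) * (a ≫ D.split.hom.hom.hom) :=
        MonObj.mul_comp _ _ _
      rw [e1, e2]
      apply (dsEquiv X D.M).symm.injective
      rw [map_mul, map_mul, mul_comm]
    rw [h1 (a * b), h1 (b * a), h2]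
  rw [sT_id, Category.comp_id, ← Category.assoc, ← MonObj.mul_comp, ← GrpObj.inv_comp, ← MonObj.mul_comp,
    hcomm (toUnit X ≫ t₀) t, mul_inv_cancel_right]

lemma Acts.comp_inv {n : 𝟙_ (Over S) ⟶ G} {w w' : D.M →+ D.M} (hn : Acts D n w)
    (hw : w'.comp w = AddMonoidHom.id _) (X : Over S) (t : X ⟶ D.T) :
    (toUnit X ≫ n)⁻¹ * (t ≫ D.i) * (toUnit X ≫ n) = (t ≫ sT D w') ≫ D.i := by
  have h := (acts_iff.1 (hn.inv hw)) X t
  rw [GrpObj.comp_inv, _root_.inv_inv] at h
  exact h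

/-- the conjugate of a root homomorphism -/
theorem isRootHom_conj {n : 𝟙_ (Over S) ⟶ G} {w w' : D.M →+ D.M} (hn : Acts D n w)
    (hw : w'.comp w = AddMonoidHom.id _) (b : D.idx) :
    Red.IsRootHom D.i (D.split.hom.hom.hom ≫ Red.chi S (w' (D.P.root b))) (D.u b ≫ (und (inn n)).hom) := by
  obtain ⟨h1, h2, h3⟩ := D.rootHom b
  refine ⟨inferInstance, ?_, fun X t x => ?_⟩
  · rw [Over.comp_left]
    infer_instance
  · obtain ⟨y, hy, hy'⟩ := h3 X (t ≫ sT D w') x
    refine ⟨y, ?_, ?_⟩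
    · rw [← Category.assoc, ← Category.assoc, comp_inn, comp_inn, hy, ← hn.comp_inv hw]
      group
    · rw [hy', Category.assoc, sT_chi]

lemma inn_inv_comp (n : 𝟙_ (Over S) ⟶ G) {X : Over S} (x : X ⟶ G) :
    (x ≫ (und (inn n⁻¹)).hom) ≫ (und (inn n)).hom = x := by
  rw [comp_inn, comp_inn, GrpObj.comp_inv]
  group

lemma inn_comp_inv (n : 𝟙_ (Over S) ⟶ G) {X : Over S} (x : X ⟶ G) :
    (x ≫ (und (inn n)).hom) ≫ (und (inn n⁻¹)).hom = x := by
  rw [comp_inn, comp_inn, GrpObj.comp_inv]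
  group

/-- root groups of the conjugate subgroup -/
theorem exists_lift_iff [Nonempty S] {n : 𝟙_ (Over S) ⟶ G} {w w' : D.M →+ D.M} (hn : Acts D n w)
    (hw : w'.comp w = AddMonoidHom.id _) (hw' : w.comp w' = AddMonoidHom.id _) (h : H ⟶ G) [Mono h] {b c : D.idx}
    (hbc : D.P.root c = w' (D.P.root b)) :
    (∃ v, v ≫ (h ≫ (und (inn n)).hom) = D.u c) ↔ ∃ v, v ≫ h = D.u b := by
  constructor
  · rintro ⟨v, hv⟩
    have h1 := isRootHom_conj hn hw b
    rw [← hbc] at h1
    obtain ⟨v', hv'⟩ := K199.RootCmp.lift_of_isRootHom D h1 (h ≫ (und (inn n)).hom) ⟨v, hv⟩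
    refine ⟨v', ?_⟩
    have h2 : (v' ≫ (h ≫ (und (inn n)).hom)) ≫ (und (inn n⁻¹)).hom =
        (D.u b ≫ (und (inn n)).hom) ≫ (und (inn n⁻¹)).hom := by rw [hv']
    rw [inn_comp_inv, ← Category.assoc v', inn_comp_inv] at h2
    exact h2
  · intro hv
    have h1 := isRootHom_conj (hn.inv hw) hw' c
    have h3 : w (D.P.root c) = D.P.root b := by
      rw [hbc]
      exact DFunLike.congr_fun hw' (D.P.root b)
    rw [h3] at h1
    obtain ⟨v', hv'⟩ := K199.RootCmp.lift_of_isRootHom D h1 h hv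
    refine ⟨v', ?_⟩
    rw [← Category.assoc, hv', inn_inv_comp]

/-- tangent vectors of root homomorphisms -/
theorem tg_of_isRootHom {a : D.idx} {v : Red.Ga S ⟶ G}
    (hv : Red.IsRootHom D.i (D.split.hom.hom.hom ≫ Red.chi S (D.P.root a)) v) (h : H ⟶ G)
    (K : Type u) [Field K] (x : Spec (CommRingCat.of K) ⟶ S) (ht : Tg D h a K x) :
    ∃ z : tB x (TrivSqZeroExt K K) ⟶ H, z ≫ h = gaPt (tB x (TrivSqZeroExt K K)) (fnOf x (TrivSqZeroExt.inr 1)) ≫ v := by
  have : Nonempty S := ⟨x (⊥ : PrimeSpectrum K)⟩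
  have hred : D.P.IsReduced := SplitReduced415.isReduced D
  have hvm := hv.1
  obtain ⟨r, hr⟩ := rootUniqAt D x a (fun B _ _ y => gaPt (tB x B) (fnOf x y) ≫ v)
    (fun {B C} _ _ _ _ φ y => by rw [← Category.assoc, tMap_gaPt])
    (fun B _ _ => by
      have h0 : fnOf x (0 : B) = 0 := fnOf_zero x
      rw [h0, gaPt_zero, MonObj.one_comp])
    (fun {B} _ _ t y => by
      obtain ⟨z, hz, hz'⟩ := hv.2.2 (tB x B) (dsEquiv (tB x B) D.M (chΓ x t) ≫ D.split.inv.hom.hom)
        (gaPt (tB x B) (fnOf x y))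
      have h2 : (dsEquiv (tB x B) D.M (chΓ x t) ≫ D.split.inv.hom.hom) ≫ D.split.hom.hom.hom ≫
          Red.chi S (D.P.root a) = dsEquiv (tB x B) D.M (chΓ x t) ≫ Red.chi S (D.P.root a) := by
        rw [Category.assoc, ← Category.assoc D.split.inv.hom.hom, split_inv_hom, Category.id_comp]
      rw [h2, gmFn_chi, gaFn_gaPt, dsChar_dsEquiv] at hz'
      have h3 : z = gaPt (tB x B) (fnOf x (TPt.ch (D.P.root a) t * y)) := by
        apply gaFn_injective
        rw [hz', gaFn_gaPt, IsomHd848.fnOf_mul]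
        rfl
      have h1 : (dsEquiv (tB x B) D.M (chΓ x t) ≫ D.split.inv.hom.hom) ≫ D.i =
        dT D (dsEquiv (tB x B) D.M (chΓ x t)) := Category.assoc _ _ _
      rw [h1] at hz
      rw [← hz, h3])
  obtain ⟨z₀, hz₀⟩ := ht
  let φ : TrivSqZeroExt K K →ₐ[K] TrivSqZeroExt K K := TrivSqZeroExt.map (r • LinearMap.id)
  refine ⟨tMap x φ ≫ z₀, ?_⟩
  have h5 : φ (TrivSqZeroExt.inr 1) = algebraMap K (TrivSqZeroExt K K) r * TrivSqZeroExt.inr 1 := by
    apply TrivSqZeroExt.ext
    · simp [φ]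
    · simp [φ]
      rfl
  rw [Category.assoc, hz₀, ← Category.assoc, tMap_gaPt, h5]
  exact (hr _).symm

/-- the points of the base at which a root is tangent to the conjugate subgroup -/
theorem E_conj {n : 𝟙_ (Over S) ⟶ G} {w w' : D.M →+ D.M} (hn : Acts D n w)
    (hw : w'.comp w = AddMonoidHom.id _) (hw' : w.comp w' = AddMonoidHom.id _) (h : H ⟶ G) {b c : D.idx}
    (hbc : D.P.root c = w' (D.P.root b)) : E D (h ≫ (und (inn n)).hom) c = E D h b := by
  have key : ∀ (K : Type u) [Field K] (x : Spec (CommRingCat.of K) ⟶ S),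
      Tg D (h ≫ (und (inn n)).hom) c K x ↔ Tg D h b K x := by
    intro K _ x
    constructor
    · intro ht
      have h1 := isRootHom_conj hn hw b
      rw [← hbc] at h1
      obtain ⟨z, hz⟩ := tg_of_isRootHom h1 (h ≫ (und (inn n)).hom) K x ht
      refine ⟨z, ?_⟩
      have h2 : (z ≫ (h ≫ (und (inn n)).hom)) ≫ (und (inn n⁻¹)).hom =
          ((gaPt (tB x (TrivSqZeroExt K K)) (fnOf x (TrivSqZeroExt.inr 1)) ≫ D.u b) ≫ (und (inn n)).hom) ≫
            (und (inn n⁻¹)).hom := by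
        rw [hz]
        simp only [Category.assoc]
      rw [inn_comp_inv, ← Category.assoc z, inn_comp_inv] at h2
      exact h2
    · intro ht
      have h1 := isRootHom_conj (hn.inv hw) hw' c
      have h3 : w (D.P.root c) = D.P.root b := by
        rw [hbc]
        exact DFunLike.congr_fun hw' (D.P.root b)
      rw [h3] at h1
      obtain ⟨z, hz⟩ := tg_of_isRootHom h1 h K x ht
      refine ⟨z, ?_⟩
      rw [← Category.assoc, hz, Category.assoc, Category.assoc]
      congr 1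
      rw [← Category.assoc, inn_inv_comp]
  ext σ
  constructor
  · rintro ⟨K, _, x, hx, ht⟩
    exact ⟨K, _, x, hx, (key K x).1 ht⟩
  · rintro ⟨K, _, x, hx, ht⟩
    exact ⟨K, _, x, hx, (key K x).2 ht⟩

/-- the conjugate subgroup contains the torus -/
theorem exists_torus_conj {n : 𝟙_ (Over S) ⟶ G} {w w' : D.M →+ D.M} (hn : Acts D n w)
    (hw : w'.comp w = AddMonoidHom.id _) (h : H ⟶ G) (t : D.T ⟶ H) (ht : t ≫ h = D.i) :
    ∃ t' : D.T ⟶ H, t' ≫ (h ≫ (und (inn n)).hom) = D.i := by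
  refine ⟨sT D w' ≫ t, ?_⟩
  have h1 := acts_iff.1 hn D.T (sT D w')
  rw [sT_comp, hw, sT_id, Category.id_comp] at h1
  rw [← Category.assoc, Category.assoc (sT D w'), ht, comp_inn]
  exact h1

/-- the conjugate of a subgroup of type (R) -/
theorem isTypeR_conj [GrpObj H] (n : 𝟙_ (Over S) ⟶ G) {h : H ⟶ G} (hH : RedSub.IsTypeR h) :
    RedSub.IsTypeR (h ≫ (und (inn n)).hom) :=
  Groth.Agent.RedSub.H648.TypeR.isTypeR_of_arrow (Iso.refl (Grp.mk H)) (inn n) (Category.id_comp _).symm hH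

/-- the conjugate subgroup is the conjugate subgroup -/
theorem conjEq_conj (n : 𝟙_ (Over S) ⟶ G) (h : H ⟶ G) : RedSub.ConjEq h (h ≫ (und (inn n)).hom) n := by
  intro X' x
  have hx : x ≫ n = toUnit X' ≫ n := by rw [toUnit_unique x (toUnit X')]
  refine ⟨fun a => ⟨a, ?_⟩, fun a => ⟨a, ?_⟩⟩
  · rw [hx, ← Category.assoc, comp_inn]
  · rw [hx, ← Category.assoc, comp_inn]
    group

section refl

lemma reflection_comp (a : D.idx) : (D.P.reflection a).toLinearMap.toAddMonoidHom.comp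
    (D.P.reflection a).toLinearMap.toAddMonoidHom = AddMonoidHom.id _ := by
  ext m
  exact D.P.reflection_same a m

/-- **Conjugation by the section of a reflection.** -/
theorem conj_refl (a : D.idx) {n : 𝟙_ (Over S) ⟶ G}
    (hn : Acts D n (D.P.reflection a).toLinearMap.toAddMonoidHom) [GrpObj H] {h : H ⟶ G} (hH : RedSub.IsTypeR h)
    (t : D.T ⟶ H) (ht : t ≫ h = D.i) :
    RedSub.IsTypeR (h ≫ (und (inn n)).hom) ∧ RedSub.ConjEq h (h ≫ (und (inn n)).hom) n ∧
      (∃ t' : D.T ⟶ H, t' ≫ (h ≫ (und (inn n)).hom) = D.i) ∧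
      ∀ b, E D (h ≫ (und (inn n)).hom) (D.P.reflectionPerm a b) = E D h b := by
  refine ⟨isTypeR_conj n hH, conjEq_conj n h, exists_torus_conj hn (reflection_comp a) h t ht, fun b => ?_⟩
  exact E_conj hn (reflection_comp a) (reflection_comp a) h (by
    rw [D.P.root_reflectionPerm]
    rfl)

end refl

end K196.ConjAct
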