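import Groth.Agent.RedSub.K196.ConjAct
import Groth.Agent.Red.K213.NormT
import Groth.Agent.Sga3B.RG.BrHc2
import Groth.Agent.Sga3B.BorTor988
import Groth.Agent.S0351

/-!
# Conjugate subgroups of type (R) containing the same maximal torus, over an algebraically closed field

* `exists_word_of_acts`: a point normalising the torus acts on the characters through a product of reflections;
* `exists_word`: two subgroups of type (R) which contain the torus and are conjugate have root sets conjugate under a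
  product of reflections.
-/

set_option autoImplicit false
universe u

open CategoryTheory MonoidalCategory CartesianMonoidalCategory MonObj GrpObj AlgebraicGeometry Limits
open scoped TensorProduct

namespace K196.ConjWord

open Groth.Agent Groth.Agent.Sga3B Groth.Agent.Sga3B.Cell Groth.Agent.Sga3B.Cell.Datum
  Groth.Agent.Sga3B.PinMod DSPts GaPts Groth.Agent.RedSub.H643.TypeRTorus RedIso K196.ConjAct
  Groth.Agent.Sga3B.InfConj Groth.Agent.Sga3B.DSRigid RG.BrHc

variable {K : Type u} [Field K] {G : Over (Spec (CommRingCat.of K))} [GrpObj G]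

section perm

variable {S : Scheme.{u}} {G : Over S} [GrpObj G] {D : Red.SplitRed G}

/-- a section normalising the torus permutes the roots -/
theorem exists_perm_of_acts [Nonempty S] {n : 𝟙_ (Over S) ⟶ G} {w w' : D.M →+ D.M} (hn : Acts D n w)
    (hw : w'.comp w = AddMonoidHom.id _) (hw' : w.comp w' = AddMonoidHom.id _) :
    ∃ e : Equiv.Perm D.idx, ∀ c, w (D.P.root c) = D.P.root (e c) := by
  have hred : D.P.IsReduced := SplitReduced415.isReduced D
  apply K213.Norm.exists_perm
  intro a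
  have hne : w' (D.P.root a) ≠ 0 := by
    intro h0
    have h1 := DFunLike.congr_fun hw' (D.P.root a)
    have h2 : w (w' (D.P.root a)) = D.P.root a := h1
    rw [h0, map_zero] at h2
    exact D.P.ne_zero a h2.symm
  obtain ⟨c, hc⟩ := RootSplit876.exists_root D hne (isRootHom_conj hn hw a)
  refine ⟨c, ?_⟩
  rw [hc]
  exact DFunLike.congr_fun hw' (D.P.root a)

/-- the action of a product of sections of reflections -/
lemma acts_prod {nr : D.idx → (𝟙_ (Over S) ⟶ G)}
    (hnr : ∀ a, Acts D (nr a) (D.P.reflection a).toLinearMap.toAddMonoidHom) (l : List D.idx) :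
    Acts D (l.map nr).prod (K213.Norm.wl D.P l)⁻¹.toLinearMap.toAddMonoidHom := by
  induction l with
  | nil => exact Acts.one
  | cons a l ih =>
    have h1 := (hnr a).mul ih
    rw [List.map_cons, List.prod_cons]
    have h2 : (K213.Norm.wl D.P (a :: l))⁻¹.toLinearMap.toAddMonoidHom =
        (K213.Norm.wl D.P l)⁻¹.toLinearMap.toAddMonoidHom.comp (D.P.reflection a).toLinearMap.toAddMonoidHom := by
      rw [K213.Norm.wl_cons, _root_.mul_inv_rev]
      have h3 : (D.P.reflection a)⁻¹ = D.P.reflection a := D.P.reflection_inv a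
      rw [h3]
      rfl
    rw [h2]
    exact h1

end perm

/-- **A point normalising the torus acts on the characters through a product of reflections.** -/
theorem exists_word_of_acts [IsAlgClosed K] (D : Red.SplitRed G) {n : 𝟙_ (Over (Spec (CommRingCat.of K))) ⟶ G}
    {w w' : D.M →+ D.M} (hn : Acts D n w)
    (hw : w'.comp w = AddMonoidHom.id _) (hw' : w.comp w' = AddMonoidHom.id _) :
    ∃ l : List D.idx, ∀ m, w' m = K213.Norm.wl D.P l m := by
  classical
  have hred : D.P.IsReduced := SplitReduced415.isReduced D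
  obtain ⟨b⟩ := BaseZ.nonempty_base D.P
  obtain ⟨e, he⟩ := exists_perm_of_acts hn hw hw'
  obtain ⟨l, -, hl'⟩ := K213.Norm.exists_word_pos b w e he
  choose nr hnr using D.refl
  have hnr' : ∀ a, Acts D (nr a) (D.P.reflection a).toLinearMap.toAddMonoidHom := hnr
  let wL : D.M →+ D.M := (K213.Norm.wl D.P l).toLinearMap.toAddMonoidHom
  let wLi : D.M →+ D.M := (K213.Norm.wl D.P l)⁻¹.toLinearMap.toAddMonoidHom
  have hL : wL.comp wLi = AddMonoidHom.id _ := by
    ext m
    change K213.Norm.wl D.P l ((K213.Norm.wl D.P l)⁻¹ m) = m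
    rw [← LinearEquiv.mul_apply, mul_inv_cancel]
    rfl
  have hL' : wLi.comp wL = AddMonoidHom.id _ := by
    ext m
    change (K213.Norm.wl D.P l)⁻¹ (K213.Norm.wl D.P l m) = m
    rw [← LinearEquiv.mul_apply, inv_mul_cancel]
    rfl
  let n' : 𝟙_ (Over (Spec (CommRingCat.of K))) ⟶ G := ((l.map nr).prod)⁻¹ * n
  have hn' : Acts D n' (w.comp wL) := ((acts_prod hnr' l).inv hL).mul hn
  have e1 : (wLi.comp w').comp (w.comp wL) = AddMonoidHom.id _ := by
    have h1 : (wLi.comp w').comp (w.comp wL) = wLi.comp ((w'.comp w).comp wL) := rfl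
    rw [h1, hw]
    exact hL'
  have e2 : (w.comp wL).comp (wLi.comp w') = AddMonoidHom.id _ := by
    have h1 : (w.comp wL).comp (wLi.comp w') = w.comp ((wL.comp wLi).comp w') := rfl
    rw [h1, hL]
    exact hw'
  obtain ⟨e', he'⟩ := exists_perm_of_acts hn' e1 e2
  obtain ⟨lam, hlam, hlam'⟩ := K213.Norm.exists_inv_functional b (w.comp wL) e' he' (fun i hi => by
    have h1 := hl' i hi
    have h2 : e' i = e (K213.Norm.gi' D.P l i) := by
      apply D.P.root.injective
      rw [← he', ← he, ← K213.Norm.wl_root]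
      rfl
    rwa [h2])
  -- the ring level
  let s : Spec (CommRingCat.of K) ⟶ Spec (CommRingCat.of K) := 𝟙 _
  obtain ⟨c⟩ := K213.PtKit.exists_chart' D K s
  let P' : Red.Pinning G := { toSplitRed := D, base := b }
  obtain ⟨p, hp⟩ := (c.pts K).surjective (toUnit (tB s K) ≫ n')
  have hacts : K213.Norm.ActsS P' (c.pts K p) (w.comp wL) := by
    intro X' x t
    rw [hp, ← Category.assoc, toUnit_unique (x ≫ toUnit _) (toUnit X')]
    exact (acts_iff.1 hn') X' t
  have hB := K213.Norm.actsB_of (D := P') c hacts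
  have hsm : Smooth G.hom := D.reductive.2.1
  have hsm' : Algebra.Smooth K c.A := ChartFib.smooth_of_isPullback c.isPullback
  have hft : Algebra.FiniteType K c.A := inferInstance
  have hdom : IsDomain (K ⊗[K] c.A) := ChartFib.isDomain D.reductive c.isPullback K
  obtain ⟨τ, hτ, -⟩ := exists_eq_i_of_conj (PinModelOf.good D c) lam hlam p
    (θ' := (c.datum D).cochar (lam.comp (w.comp wL))) (by
      intro a
      rw [ch_cochar]
      exact congrArg LaurentPolynomial.T (hlam' a)) (by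
      rw [hB _ (lC K K)]
      congr 1
      apply TPt.ext_ch
      intro m
      rw [K213.Norm.ch_pre, ch_cochar, ch_cochar]
      rfl)
  have hB' : K213.Norm.ActsB (c.datum D) p (AddMonoidHom.id _) := by
    rw [hτ]
    exact K213.Norm.ActsB.i τ
  have hid : w.comp wL = AddMonoidHom.id _ := hB.unique hB'
  refine ⟨l, fun m => ?_⟩
  have h1 : w (wL m) = m := DFunLike.congr_fun hid m
  have h2 : w' (w (wL m)) = wL m := DFunLike.congr_fun hw (wL m)
  rw [h1] at h2
  exact h2

/-- **Conjugate subgroups of type (R) containing the torus have conjugate root sets.** -/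
theorem exists_word [IsAlgClosed K] (D : Red.SplitRed G) {H₁ H₂ : Over (Spec (CommRingCat.of K))} [GrpObj H₁]
    [GrpObj H₂] (h₁ : H₁ ⟶ G) (h₂ : H₂ ⟶ G) (hR₂ : RedSub.IsTypeR h₂) [Mono h₁]
    (t₁ : D.T ⟶ H₁) (ht₁ : t₁ ≫ h₁ = D.i) (t₂ : D.T ⟶ H₂) (ht₂ : t₂ ≫ h₂ = D.i)
    (g : 𝟙_ (Over (Spec (CommRingCat.of K))) ⟶ G) (hg : RedSub.ConjEq h₁ h₂ g) :
    ∃ w : List D.idx, ∀ a, (∃ v, v ≫ h₁ = D.u a) ↔ ∃ v, v ≫ h₂ = D.u ((w.map D.P.reflectionPerm).prod a) := by
  obtain ⟨⟨hm, himm⟩, hsm, -, hconn, -⟩ := hR₂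
  have hGo := AlgBc.isReductive_iff.1 D.reductive
  have hmono : Mono h₂ := Over.mono_of_mono_left h₂
  have hcl0 : IsClosedImmersion h₂.left := Groth.Agent.S0351.result K H₂ G h₂
  have hGaff : IsAffine G.left := hGo.1
  have hHaff : IsAffine H₂.left := isAffine_of_isAffineHom h₂.left
  have hc : ConnectedSpace H₂.left := by
    have h1 := hconn (⊥ : PrimeSpectrum K)
    rw [connectedSpace_iff_univ]
    convert h1 using 1
    ext z
    constructor
    · intro _
      exact Subsingleton.elim (α := PrimeSpectrum K) _ _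
    · intro _
      trivial
  obtain ⟨i', hi'⟩ := (hg D.T (toUnit _)).1 t₁
  have hi'1 : i' ≫ h₂ = D.i ≫ (und (inn g)).hom := by
    rw [comp_inn, ← ht₁]
    exact hi'.symm
  have hmt : Red.IsMaximalTorus (i' ≫ h₂) := by
    rw [hi'1]
    exact (SplitIso848.splitOfIso (inn g) D).maximalTorus
  have h01 : IsMonHom (i' ≫ h₂) := hmt.1
  have h02 : IsMonHom (t₂ ≫ h₂) := by rw [ht₂]; exact D.maximalTorus.1
  have htm : IsMonHom i' := MaxTorusCrit.isMonHom_of_comp_mono i' h₂
  have htm' : IsMonHom t₂ := MaxTorusCrit.isMonHom_of_comp_mono t₂ h₂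
  have hT := BorTor988.isMaximalTorus_of_comp h₂ i' hmt
  have hT' := BorTor988.isMaximalTorus_of_comp h₂ t₂ (by rw [ht₂]; exact D.maximalTorus)
  obtain ⟨κ, f, hf, hfκ⟩ := RG.BrHc2.exists_conj_iso H₂ i' t₂ hT hT'
  have hcomp : ∀ {X : Over (Spec (CommRingCat.of K))} (c : 𝟙_ (Over (Spec (CommRingCat.of K))) ⟶ H₂) (v : X ⟶ H₂),
      conjHom c v ≫ h₂ = conjHom (c ≫ h₂) (v ≫ h₂) := fun c v => by
    rw [conjHom, conjHom, MonObj.mul_comp, MonObj.mul_comp, GrpObj.inv_comp]
    simp only [Category.assoc]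
  let n : 𝟙_ (Over (Spec (CommRingCat.of K))) ⟶ G := (κ ≫ h₂) * g
  have hmul : ∀ {X : Over (Spec (CommRingCat.of K))} (x : X ⟶ G), conjHom n x = conjHom (κ ≫ h₂) (conjHom g x) := by
    intro X x
    simp only [conjHom, n, MonObj.comp_mul]
    group
  have hfi : f.hom ≫ D.i = conjHom n D.i := by
    rw [← ht₂, ← Category.assoc, hfκ, hcomp, hi'1, comp_inn, ht₂, hmul]
    rfl
  -- the action on the characters
  have e1 : IsIso D.split.inv.hom.hom := (RedIso.und D.split).isIso_inv
  have e2 : IsIso D.split.hom.hom.hom := (RedIso.und D.split).isIso_hom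
  let φ : Red.DS (Spec (CommRingCat.of K)) D.M ⟶ Red.DS (Spec (CommRingCat.of K)) D.M :=
    D.split.inv.hom.hom ≫ f.hom ≫ D.split.hom.hom.hom
  have hφ1 : IsMonHom φ := inferInstance
  have hφ2 : IsIso φ := inferInstance
  obtain ⟨θ, hθ⟩ := TorConj.exists_addEquiv φ
  have hfθ : f.hom = sT D θ.toAddMonoidHom := by
    rw [sT, ← hθ]
    simp only [φ, Category.assoc]
    rw [split_hom_inv, Category.comp_id, reassoc_of% (split_hom_inv D)]
  have hn : Acts D n θ.toAddMonoidHom := by
    rw [acts_iff]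
    intro X t
    rw [← hfθ, Category.assoc, hfi, comp_conjHom]
  have hw : θ.symm.toAddMonoidHom.comp θ.toAddMonoidHom = AddMonoidHom.id _ := by
    ext m
    exact θ.symm_apply_apply m
  have hw' : θ.toAddMonoidHom.comp θ.symm.toAddMonoidHom = AddMonoidHom.id _ := by
    ext m
    exact θ.apply_symm_apply m
  obtain ⟨l, hl⟩ := exists_word_of_acts D hn hw hw'
  refine ⟨l, fun a => ?_⟩
  have hgi : ∀ (l : List D.idx) (a : D.idx), (l.map D.P.reflectionPerm).prod a = K213.Norm.gi' D.P l a := by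
    intro l
    induction l with
    | nil => intro a; rfl
    | cons d l ih =>
      intro a
      rw [List.map_cons, List.prod_cons, Equiv.Perm.mul_apply, ih]
      rfl
  have hroot : D.P.root ((l.map D.P.reflectionPerm).prod a) = θ.symm.toAddMonoidHom (D.P.root a) := by
    rw [hgi, ← K213.Norm.wl_root, hl]
  rw [← exists_lift_iff hn hw hw' h₁ hroot]
  have hinn : ∀ {X : Over (Spec (CommRingCat.of K))} (x : X ⟶ G), x ≫ (und (inn n)).hom = conjHom n x :=
    fun x => comp_inn n x
  constructor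
  · rintro ⟨v, hv⟩
    obtain ⟨v', hv'⟩ := (hg _ (toUnit _)).1 v
    refine ⟨conjHom κ v', ?_⟩
    rw [hcomp, ← hv', ← hv, ← Category.assoc, hinn, hmul]
    rfl
  · rintro ⟨v, hv⟩
    obtain ⟨v', hv'⟩ := (hg _ (toUnit _)).2 (conjHom κ⁻¹ v)
    refine ⟨v', ?_⟩
    have h3 : conjHom g (v' ≫ h₁) = conjHom κ⁻¹ v ≫ h₂ := by
      rw [← hv', conjHom]
      group
    rw [← Category.assoc, hinn, hmul, h3, hcomp, GrpObj.inv_comp, conjHom_conjHom_inv, hv]

/-- the same for two subgroups of type (R) -/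
theorem main [IsAlgClosed K] (D : Red.SplitRed G) {H₁ H₂ : Over (Spec (CommRingCat.of K))} [GrpObj H₁]
    [GrpObj H₂] (h₁ : H₁ ⟶ G) (h₂ : H₂ ⟶ G) (hR₁ : RedSub.IsTypeR h₁) (hR₂ : RedSub.IsTypeR h₂)
    (t₁ : D.T ⟶ H₁) (ht₁ : t₁ ≫ h₁ = D.i) (t₂ : D.T ⟶ H₂) (ht₂ : t₂ ≫ h₂ = D.i)
    (g : 𝟙_ (Over (Spec (CommRingCat.of K))) ⟶ G) (hg : RedSub.ConjEq h₁ h₂ g) :
    ∃ w : List D.idx, ∀ a, (∃ v, v ≫ h₁ = D.u a) ↔ ∃ v, v ≫ h₂ = D.u ((w.map D.P.reflectionPerm).prod a) := by
  have himm := hR₁.1.2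
  have hmono : Mono h₁ := Over.mono_of_mono_left h₁
  exact exists_word D h₁ h₂ hR₂ t₁ ht₁ t₂ ht₂ g hg

end K196.ConjWord
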