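import Groth.Agent.Red.K213.RkOneR
import Groth.Agent.Red.K213.CommSplit

/-!
# Elements of the big cell acting trivially on the Lie algebra (chart form)

Roots divisible by `2` in the character lattice are mutually strongly orthogonal (`Ev`), and an element of the big cell
which commutes with all infinitesimal points is a torus element killed by all roots (`main`).
-/

set_option autoImplicit false
set_option linter.unusedSectionVars false
universe u

namespace K196.AdKer

section comb

open K213.CommSplit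

variable {κ M N : Type*} [Finite κ] [AddCommGroup M] [AddCommGroup N] (P : RootPairing κ ℤ M N)

/-- the root is divisible by `2` -/
def Ev (c : κ) : Prop := ∃ m : M, P.root c = (2 : ℤ) • m

variable {P}

omit [Finite κ] in
lemma Ev.pairing {c : κ} (h : Ev P c) (d : κ) : (2 : ℤ) ∣ P.pairing c d := by
  obtain ⟨m, hm⟩ := h
  have h1 := P.root_coroot'_eq_pairing d c
  rw [hm, map_smul] at h1
  exact ⟨_, h1.symm⟩

omit [Finite κ] in
lemma Ev.neg {c : κ} (h : Ev P c) : Ev P (P.reflectionPerm c c) := by
  obtain ⟨m, hm⟩ := h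
  exact ⟨-m, by rw [smul_neg, ← hm]; simp⟩

lemma Ev.pairing_eq_zero [P.IsReduced] {c d : κ} (hc : Ev P c) (hd : Ev P d) (h : c ≠ d)
    (h' : P.root c ≠ -P.root d) : P.pairing c d = 0 := by
  have h1 := P.pairingIn_pairingIn_mem_set_of_isCrystal_of_isRed' c d (fun h2 => h (P.root.injective h2)) h'
  rw [pairingIn_eq, pairingIn_eq] at h1
  have h2 := hc.pairing d
  have h3 := hd.pairing c
  simp only [Set.mem_insert_iff, Set.mem_singleton_iff, Prod.mk.injEq] at h1
  omega

/-- roots divisible by `2` are strongly orthogonal -/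
theorem Ev.add_notMem [P.IsReduced] {c d : κ} (hc : Ev P c) (hd : Ev P d) (h : c ≠ d)
    (h' : P.root c ≠ -P.root d) : P.root c + P.root d ∉ Set.range P.root := by
  rintro ⟨f, hf⟩
  have h0 := hc.pairing_eq_zero hd h h'
  have hfe : Ev P f := by
    obtain ⟨m, hm⟩ := hc
    obtain ⟨n, hn⟩ := hd
    exact ⟨m + n, by rw [hf, hm, hn, smul_add]⟩
  have h1 : P.pairing f d = 2 := by
    have h2 := P.root_coroot'_eq_pairing d f
    rw [hf, map_add, P.root_coroot'_eq_pairing, P.root_coroot'_eq_pairing, h0, P.pairing_same] at h2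
    omega
  have h3 := hfe.pairing_eq_zero hd (by
    rintro rfl
    exact P.ne_zero c (by simpa using hf)) (by
    intro h2
    rw [h2] at hf
    have h4 : P.root c = (-2 : ℤ) • P.root d := by
      rw [← sub_eq_zero, neg_smul, two_smul, sub_neg_eq_add]
      have h5 : P.root c + (P.root d + P.root d) = (P.root c + P.root d) + P.root d := by abel
      rw [h5, ← hf, neg_add_cancel]
    have h5 := P.root_coroot'_eq_pairing d c
    rw [h4, map_smul, P.root_coroot'_eq_pairing, P.pairing_same, h0] at h5
    norm_num at h5)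
  omega

end comb

open Groth.Agent.Sga3B.Cell Groth.Agent.Sga3B.Cell.Datum Groth.Agent.Sga3B K213.RkOneR

section lists

variable {Γ : Type*} [Group Γ] {κ : Type*}

lemma list_comm {L : List κ} {f : κ → Γ} {w : Γ} (h : ∀ d ∈ L, f d * w = w * f d) :
    (L.map f).prod * w = w * (L.map f).prod :=
  (Commute.list_prod_left _ _ (by
    intro x hx
    obtain ⟨d, hd, rfl⟩ := List.mem_map.1 hx
    exact h d hd)).eq

/-- the product over a list, up to elements commuting with all factors except one -/
lemma list_single {L : List κ} (hL : L.Nodup) {a : κ} (ha : a ∈ L) {f : κ → Γ} {w w' : Γ}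
    (h : ∀ d ∈ L, d ≠ a → f d * w = w * f d) (h' : ∀ d ∈ L, d ≠ a → f d * w' = w' * f d)
    (hw : (L.map f).prod * w' = w * (L.map f).prod) : f a * w' = w * f a := by
  obtain ⟨L₁, L₂, rfl⟩ := List.append_of_mem ha
  have h1 : ∀ d ∈ L₁, d ≠ a := by
    rintro d hd rfl
    exact (List.nodup_append.1 hL).2.2 d hd d (by simp) rfl
  have h2 : ∀ d ∈ L₂, d ≠ a := by
    rintro d hd rfl
    have := (List.nodup_append.1 hL).2.1
    exact (List.nodup_cons.1 this).1 hd
  rw [List.map_append, List.prod_append, List.map_cons, List.prod_cons] at hw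
  have e1 := list_comm (L := L₁) (f := f) (w := w) fun d hd => h d (by simp [hd]) (h1 d hd)
  have e2 := list_comm (L := L₂) (f := f) (w := w') fun d hd => h' d (by simp [hd]) (h2 d hd)
  have h3 : (L₁.map f).prod * (f a * w') * (L₂.map f).prod = (L₁.map f).prod * (w * f a) * (L₂.map f).prod := by
    calc (L₁.map f).prod * (f a * w') * (L₂.map f).prod
        = (L₁.map f).prod * (f a * (w' * (L₂.map f).prod)) := by group
      _ = (L₁.map f).prod * (f a * ((L₂.map f).prod * w')) := by rw [e2]
      _ = (L₁.map f).prod * (f a * (L₂.map f).prod) * w' := by group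
      _ = w * ((L₁.map f).prod * (f a * (L₂.map f).prod)) := hw
      _ = (w * (L₁.map f).prod) * f a * (L₂.map f).prod := by group
      _ = ((L₁.map f).prod * w) * f a * (L₂.map f).prod := by rw [e1]
      _ = (L₁.map f).prod * (w * f a) * (L₂.map f).prod := by group
  exact mul_left_cancel (mul_right_cancel h3)

end lists

section datum

variable {R A : Type u} [CommRing R] [CommRing A] [Algebra R A] [PtGrp R A] {D : Datum R A}

/-- the rank one relation up to a unit -/
def Rk (D : Datum R A) (P : RootPairing D.idx ℤ D.M (Module.Dual ℤ D.M)) (a : D.idx) : Prop :=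
  ∃ c : Rˣ, ∀ {B : Type u} [CommRing B] [Algebra R B] (x y : B) (v : Bˣ),
    (v : B) = 1 + x * y → D.uu a B x * D.uu (P.reflectionPerm a a) B (algebraMap R B c * y) =
      D.uu (P.reflectionPerm a a) B (algebraMap R B c * ((v⁻¹ : Bˣ) * y)) * D.i B (TPt.cow (P.coroot a) v) *
        D.uu a B ((v⁻¹ : Bˣ) * x)

variable (P : RootPairing D.idx ℤ D.M (Module.Dual ℤ D.M)) (hP : ∀ a, P.root a = D.root a)
  (hpe : P.toLinearMap = Module.Dual.eval ℤ D.M) (hG : D.Good)

/-- the relation for `-a` gives the one for `a` -/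
lemma Rk.of_neg {a : D.idx} (h : Rk D P (P.reflectionPerm a a)) : Rk D P a := by
  obtain ⟨c, hc⟩ := h
  refine ⟨c, fun {B} _ _ x y v hv => ?_⟩
  have h1 := hc (-(algebraMap R B c * y)) (-(algebraMap R B (c⁻¹ : Rˣ) * x)) v (by
    rw [hv]
    have : algebraMap R B c * algebraMap R B (c⁻¹ : Rˣ) = 1 := by rw [← map_mul, Units.mul_inv, map_one]
    linear_combination (-(x * y)) * this)
  have h2 := congrArg (fun g => g⁻¹) h1
  have hcor : P.coroot (P.reflectionPerm a a) = -P.coroot a := by simp
  have e1 : algebraMap R B c * algebraMap R B (c⁻¹ : Rˣ) = 1 := by rw [← map_mul, Units.mul_inv, map_one]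
  have hcow : (D.i B (TPt.cow (P.coroot (P.reflectionPerm a a)) v))⁻¹ = D.i B (TPt.cow (P.coroot a) v) := by
    rw [hcor, ← _root_.map_inv]
    congr 1
    apply TPt.ext_ch
    intro m
    rw [← cow_inv, TPt.ch_cow, TPt.ch_cow]
    simp
  rw [neg_neg' P] at h2
  simp only [mul_inv_rev, ← D.uu_neg, hcow] at h2
  have e2 : ∀ z : B, -(algebraMap R B c * -(algebraMap R B (c⁻¹ : Rˣ) * z)) = z := by
    intro z
    linear_combination z * e1
  have e3 : ∀ z w : B, -(algebraMap R B c * (w * -(algebraMap R B (c⁻¹ : Rˣ) * z))) = w * z := by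
    intro z w
    linear_combination (w * z) * e1
  rw [e2, e3, neg_neg] at h2
  have e4 : ∀ z w : B, -(w * -(algebraMap R B c * z)) = algebraMap R B c * (w * z) := by
    intro z w
    ring
  rw [e4] at h2
  rw [h2, mul_assoc]

include hP hpe in
/-- a root not divisible by `2` -/
lemma eq_zero_of_not_ev {B : Type u} [CommRing B] {x : B} {a : D.idx} (ha : ¬ Ev P a)
    (h : ∀ f : Module.Dual ℤ D.M, ((f (D.root a) : ℤ) : B) * x = 0) : x = 0 := by
  have h2 : ((2 : ℤ) : B) * x = 0 := by
    have h1 := h (P.coroot a)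
    rw [coroot_root' P hP hpe, P.pairing_same] at h1
    exact h1
  obtain ⟨f, hf⟩ : ∃ f : Module.Dual ℤ D.M, ¬ (2 : ℤ) ∣ f (D.root a) := by
    by_contra hcon
    push Not at hcon
    apply ha
    let bs := Module.Free.chooseBasis ℤ D.M
    choose k hk using fun i => hcon (bs.coord i)
    refine ⟨bs.repr.symm (Finsupp.equivFunOnFinite.symm k), ?_⟩
    apply bs.repr.injective
    rw [map_smul, LinearEquiv.apply_symm_apply]
    ext i
    rw [hP]
    exact hk i
  have h3 : f (D.root a) = 2 * (f (D.root a) / 2) + 1 := by omega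
  have h4 := h f
  rw [h3, Int.cast_add, Int.cast_mul, Int.cast_one, add_mul, _root_.one_mul] at h4
  have h5 : ((2 : ℤ) : B) * ((f (D.root a) / 2 : ℤ) : B) * x = 0 := by
    rw [mul_comm ((2 : ℤ) : B), mul_assoc, h2, mul_zero]
  rw [h5, zero_add] at h4
  exact h4

include hP hpe hG in
/-- the rank one computation -/
lemma eq_zero_of_rk {a : D.idx} (hr : Rk D P a) (hev : Ev P a) {C : Type u} [CommRing C] [Algebra R C]
    {x e w : C} (hw : e * e = 0) (h : D.uu a C x * D.uu (P.reflectionPerm a a) C e =
      D.uu (P.reflectionPerm a a) C w * D.uu a C x) : x * e = 0 := by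
  obtain ⟨c, hc⟩ := hr
  obtain ⟨m, hm⟩ := hev
  have hm1 : P.coroot a m = 1 := by
    have h1 := coroot_root P hpe a a
    rw [hm, map_smul, P.pairing_same, smul_eq_mul] at h1
    omega
  have e1 : algebraMap R C c * algebraMap R C (c⁻¹ : Rˣ) = 1 := by rw [← map_mul, Units.mul_inv, map_one]
  set y : C := algebraMap R C (c⁻¹ : Rˣ) * e with hy
  have hxy : (x * y) * (x * y) = 0 := by
    rw [hy]
    linear_combination (x * algebraMap R C (c⁻¹ : Rˣ)) ^ 2 * hw
  have h1 := hc x y (un1 (x * y) hxy) rfl
  have e2 : algebraMap R C c * y = e := by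
    rw [hy, ← mul_assoc, e1, _root_.one_mul]
  rw [e2, h] at h1
  have h2 : D.uu (P.reflectionPerm a a) C w * D.uu a C x =
    D.uu (P.reflectionPerm a a) C w * D.i C 1 * D.uu a C x := by rw [map_one, _root_.mul_one]
  rw [h2] at h1
  obtain ⟨-, h3, -⟩ := rk1_inj P hP hG h1
  have h4 := congrArg (TPt.ch m) h3
  rw [TPt.ch_one, TPt.ch_cow, hm1, zpow_one] at h4
  have h5 : (1 : C) = 1 + x * y := h4
  have h6 : x * y = 0 := by linear_combination -h5
  have h7 : algebraMap R C c * (x * y) = 0 := by rw [h6, mul_zero]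
  rw [← e2]
  linear_combination h7

lemma un1_zpow {C : Type u} [CommRing C] (e : C) (he : e * e = 0) (n : ℤ) :
    ((un1 e he ^ n : Cˣ) : C) = 1 + n * e := by
  induction n using Int.induction_on with
  | zero => simp
  | succ n ih =>
    rw [zpow_add_one, Units.val_mul, ih]
    change (1 + _ * e) * (1 + e) = _
    push_cast
    linear_combination (n : C) * he
  | pred n ih =>
    rw [zpow_sub_one, Units.val_mul, ih]
    change (1 + _ * e) * (1 - e) = _
    push_cast
    linear_combination (n : C) * he

variable [P.IsReduced] (hrk : ∀ a, Rk D P a)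
  {B C : Type u} [CommRing B] [Algebra R B] [CommRing C] [Algebra R C] (ι : B →ₐ[R] C) (e : C) (he : e * e = 0)
  (hι : ∀ b : B, ι b * e = 0 → b = 0)

include hP hpe hG hrk he hι in
/-- one half of the argument -/
lemma one_side {L : List D.idx} (hL : L.Nodup) {x : D.idx → B} (hx : ∀ a, ¬ Ev P a → x a = 0)
    {a : D.idx} (ha : a ∈ L) (hev : Ev P a) (hopp : P.reflectionPerm a a ∉ L) (t : TPt D.M C)
    (h : (L.map (fun d => D.uu d C (ι (x d)))).prod * D.uu (P.reflectionPerm a a) C (TPt.ch (D.root (P.reflectionPerm a a)) t * e) =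
      D.uu (P.reflectionPerm a a) C e * (L.map (fun d => D.uu d C (ι (x d)))).prod) : x a = 0 := by
  have hcomm : ∀ (w : C), ∀ d ∈ L, d ≠ a → D.uu d C (ι (x d)) * D.uu (P.reflectionPerm a a) C w =
      D.uu (P.reflectionPerm a a) C w * D.uu d C (ι (x d)) := by
    intro w d hd hda
    by_cases hde : Ev P d
    · have h1 : d ≠ P.reflectionPerm a a := fun h => hopp (h ▸ hd)
      have h2 : P.root d ≠ -P.root (P.reflectionPerm a a) := by
        intro h
        apply hda
        apply P.root.injective
        rw [h]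
        simp
      refine K213.CommSplit.comm_ring P hP hpe hG ?_ (hde.add_notMem hev.neg h1 h2) _ _
      intro h3
      exact h2 (eq_neg_of_add_eq_zero_left h3)
    · rw [hx d hde, map_zero, D.uu_zero, _root_.one_mul, _root_.mul_one]
  have h1 := list_single (f := fun d => D.uu d C (ι (x d))) hL ha (hcomm _) (hcomm _) h
  have h2 := eq_zero_of_rk P hP hpe hG (hrk a) hev (by
    rw [show ∀ z : C, (z * e) * (z * e) = z * z * (e * e) from fun z => by ring, he, mul_zero]) h1
  apply hι
  have h3 := (TPt.isUnit_ch (D.root (P.reflectionPerm a a)) t)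
  rw [← mul_assoc, mul_comm (ι (x a)), mul_assoc] at h2
  exact h3.mul_right_eq_zero.1 h2

include hP hpe hG hrk hι in
/-- **elements of the big cell acting trivially on the Lie algebra** -/
theorem main {Ln Lp : List D.idx} (hnd : (Ln ++ Lp).Nodup) (hall : ∀ a, a ∈ Ln ++ Lp)
    (hn : ∀ a ∈ Ln, P.reflectionPerm a a ∈ Lp) (hp : ∀ a ∈ Lp, P.reflectionPerm a a ∈ Ln)
    (hinj : D.CellInj (Ln ++ Lp)) {x : D.idx → B} {t : TPt D.M B}
    (H1 : ∀ f : Module.Dual ℤ D.M, Pt.map ι (D.cell (Ln ++ Lp) x t) * D.i C (TPt.cow f (un1 e he)) =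
      D.i C (TPt.cow f (un1 e he)) * Pt.map ι (D.cell (Ln ++ Lp) x t))
    (H2 : ∀ a, Pt.map ι (D.cell (Ln ++ Lp) x t) * D.uu a C e = D.uu a C e * Pt.map ι (D.cell (Ln ++ Lp) x t)) :
    (∀ a, x a = 0) ∧ ∀ a, TPt.ch (D.root a) t = 1 := by
  have hx1 : ∀ a, ¬ Ev P a → x a = 0 := by
    intro a ha
    refine eq_zero_of_not_ev P hP hpe ha fun f => ?_
    have h1 := H1 f
    rw [cell_nat, cell_mul_i, i_mul_cell] at h1
    have h2 := congrFun (hinj h1).1 a
    rw [TPt.ch_cow, un1_zpow] at h2
    apply hι
    rw [map_mul, map_intCast]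
    linear_combination -h2
  -- the conjugation relation
  let U : List D.idx → Pt R A C := fun L => (L.map (fun d => D.uu d C (ι (x d)))).prod
  have hgen : ∀ c, U Ln * U Lp * D.uu c C (TPt.ch (D.root c) (TPt.map ι t) * e) =
      D.uu c C e * (U Ln * U Lp) := by
    intro c
    have h1 := H2 c
    rw [cell_nat] at h1
    unfold cell at h1
    rw [List.map_append, List.prod_append, mul_assoc] at h1
    have h2 : D.i C (TPt.map ι t) * D.uu c C e =
        D.uu c C (TPt.ch (D.root c) (TPt.map ι t) * e) * D.i C (TPt.map ι t) := by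
      rw [← D.rel]
      group
    rw [h2] at h1
    apply mul_right_cancel (b := D.i C (TPt.map ι t))
    calc U Ln * U Lp * D.uu c C (TPt.ch (D.root c) (TPt.map ι t) * e) * D.i C (TPt.map ι t)
        = U Ln * U Lp * (D.uu c C (TPt.ch (D.root c) (TPt.map ι t) * e) * D.i C (TPt.map ι t)) := by
          rw [mul_assoc]
      _ = D.uu c C e * (U Ln * U Lp * D.i C (TPt.map ι t)) := h1
      _ = _ := by rw [← mul_assoc]
  have hopp : ∀ a, P.reflectionPerm (P.reflectionPerm a a) (P.reflectionPerm a a) = a := neg_neg' P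
  have hdisj : ∀ a, a ∈ Ln → a ∉ Lp := fun a h1 h2 => (List.nodup_append.1 hnd).2.2 a h1 a h2 rfl
  have hx2 : ∀ a ∈ Lp, x a = 0 := by
    intro a ha
    by_cases hev : Ev P a
    · have hc := hp a ha
      refine one_side P hP hpe hG hrk ι e he hι (List.nodup_append.1 hnd).2.1 hx1 ha hev (hdisj _ hc)
        (TPt.map ι t) ?_
      have h1 := hgen (P.reflectionPerm a a)
      have h2 : U Ln * D.uu (P.reflectionPerm a a) C e = D.uu (P.reflectionPerm a a) C e * U Ln := by
        apply list_comm
        intro d hd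
        by_cases hde : Ev P d
        · by_cases hdc : d = P.reflectionPerm a a
          · rw [hdc, ← D.uu_add, ← D.uu_add, add_comm]
          · have h3 : P.root d ≠ -P.root (P.reflectionPerm a a) := by
              intro h
              have h4 : d = a := by
                apply P.root.injective
                rw [h]
                simp
              exact hdisj d hd (h4 ▸ ha)
            refine K213.CommSplit.comm_ring P hP hpe hG ?_ (hde.add_notMem hev.neg hdc h3) _ _
            intro h4
            exact h3 (eq_neg_of_add_eq_zero_left h4)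
        · rw [hx1 d hde, map_zero, D.uu_zero, _root_.one_mul, _root_.mul_one]
      apply mul_left_cancel (a := U Ln)
      calc U Ln * (U Lp * D.uu (P.reflectionPerm a a) C (TPt.ch (D.root (P.reflectionPerm a a)) (TPt.map ι t) * e))
          = U Ln * U Lp * D.uu (P.reflectionPerm a a) C (TPt.ch (D.root (P.reflectionPerm a a)) (TPt.map ι t) * e) := by
            rw [mul_assoc]
        _ = D.uu (P.reflectionPerm a a) C e * (U Ln * U Lp) := h1
        _ = (D.uu (P.reflectionPerm a a) C e * U Ln) * U Lp := by rw [mul_assoc]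
        _ = U Ln * (D.uu (P.reflectionPerm a a) C e * U Lp) := by rw [← h2, mul_assoc]
    · exact hx1 a hev
  have hUp : U Lp = 1 := by
    apply List.prod_eq_one
    intro y hy
    obtain ⟨d, hd, rfl⟩ := List.mem_map.1 hy
    rw [hx2 d hd, map_zero, D.uu_zero]
  have hx3 : ∀ a ∈ Ln, x a = 0 := by
    intro a ha
    by_cases hev : Ev P a
    · refine one_side P hP hpe hG hrk ι e he hι (List.nodup_append.1 hnd).1 hx1 ha hev
        (fun h => hdisj _ h (hn a ha)) (TPt.map ι t) ?_
      have h1 := hgen (P.reflectionPerm a a)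
      rw [hUp, _root_.mul_one] at h1
      exact h1
    · exact hx1 a hev
  have hx : ∀ a, x a = 0 := by
    intro a
    rcases List.mem_append.1 (hall a) with h | h
    · exact hx3 a h
    · exact hx2 a h
  refine ⟨hx, fun a => ?_⟩
  have hUn : U Ln = 1 := by
    apply List.prod_eq_one
    intro y hy
    obtain ⟨d, hd, rfl⟩ := List.mem_map.1 hy
    rw [hx d, map_zero, D.uu_zero]
  have h1 := hgen a
  rw [hUn, hUp, _root_.one_mul, _root_.one_mul, _root_.mul_one] at h1
  have h2 := D.uu_inj a h1
  rw [TPt.ch_map] at h2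
  have h3 : ι (TPt.ch (D.root a) t - 1) * e = 0 := by
    rw [map_sub, map_one]
    linear_combination h2
  exact sub_eq_zero.1 (hι _ h3)

end datum

end K196.AdKer
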