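import Mathlib.Algebra.Field.Basic
import Mathlib.Algebra.Group.Basic
import Mathlib.Tactic.Group
import Mathlib.Tactic.LinearCombination
import Mathlib.Tactic.FieldSimp

/-!
# Translates of the big cell of a rank one group by an element of the negative root group (abstract form)
-/

set_option autoImplicit false

namespace K196.RankOneAbs

/-- Rank one data in a group over a field: `p = u_a`, `q = u_{-a}`, the torus, the root and the coroot. -/
structure R1 (𝒢 K Tt : Type*) [Group 𝒢] [Field K] [CommGroup Tt] where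
  /-- positive root group -/
  p : K → 𝒢
  /-- negative root group -/
  q : K → 𝒢
  /-- torus -/
  i : Tt →* 𝒢
  /-- coroot -/
  co : Kˣ → Tt
  /-- root -/
  χ : Tt →* Kˣ
  p_add : ∀ x y, p (x + y) = p x * p y
  q_add : ∀ x y, q (x + y) = q x * q y
  relp : ∀ t x, i t * p x = p (χ t * x) * i t
  relq : ∀ t x, i t * q x = q ((χ t)⁻¹ * x) * i t
  ch_co : ∀ v, χ (co v) = v ^ 2
  r1 : ∀ (x y : K) (v : Kˣ), (v : K) = 1 + x * y →
    p x * q y = q ((v⁻¹ : Kˣ) * y) * i (co v) * p ((v⁻¹ : Kˣ) * x)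
  conj : ∀ y, ∃ z, q y * (p 1 * q (-1) * p 1) = (p 1 * q (-1) * p 1) * p z

namespace R1

variable {𝒢 K Tt : Type*} [Group 𝒢] [Field K] [CommGroup Tt] (E : R1 𝒢 K Tt)

lemma p_zero : E.p 0 = 1 := by
  have h := E.p_add 0 0
  rw [add_zero] at h
  exact (mul_eq_left.mp h.symm)

lemma q_zero : E.q 0 = 1 := by
  have h := E.q_add 0 0
  rw [add_zero] at h
  exact (mul_eq_left.mp h.symm)

lemma p_neg (x : K) : E.p (-x) = (E.p x)⁻¹ := by
  rw [eq_inv_iff_mul_eq_one, ← E.p_add, neg_add_cancel, E.p_zero]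

lemma q_neg (x : K) : E.q (-x) = (E.q x)⁻¹ := by
  rw [eq_inv_iff_mul_eq_one, ← E.q_add, neg_add_cancel, E.q_zero]

lemma relp' (t : Tt) (x : K) : E.p x * E.i t = E.i t * E.p (((E.χ t)⁻¹ : Kˣ) * x) := by
  rw [E.relp, ← mul_assoc, Units.mul_inv, one_mul]

lemma relq' (t : Tt) (x : K) : E.q x * E.i t = E.i t * E.q (E.χ t * x) := by
  rw [E.relq, ← mul_assoc]
  simp

/-- the rank one cell -/
def M : Set 𝒢 := {g | ∃ r τ s, g = E.q r * E.i τ * E.p s}

variable {E}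

lemma i_mul {g : 𝒢} (hg : g ∈ E.M) (t : Tt) : E.i t * g ∈ E.M := by
  obtain ⟨r, τ, s, rfl⟩ := hg
  refine ⟨((E.χ t)⁻¹ : Kˣ) * r, t * τ, s, ?_⟩
  rw [map_mul, ← mul_assoc, ← mul_assoc, E.relq, mul_assoc (E.q _), mul_assoc (E.q _)]

lemma q_mul {g : 𝒢} (hg : g ∈ E.M) (z : K) : E.q z * g ∈ E.M := by
  obtain ⟨r, τ, s, rfl⟩ := hg
  exact ⟨z + r, τ, s, by rw [E.q_add]; simp only [mul_assoc]⟩

lemma mul_p {g : 𝒢} (hg : g ∈ E.M) (z : K) : g * E.p z ∈ E.M := by
  obtain ⟨r, τ, s, rfl⟩ := hg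
  exact ⟨r, τ, s + z, by rw [E.p_add]; simp only [mul_assoc]⟩

lemma p_mul_q {x y : K} (h : 1 + x * y ≠ 0) : E.p x * E.q y ∈ E.M :=
  ⟨_, _, _, E.r1 x y (Units.mk0 _ h) rfl⟩

/-- the Weyl elements `u_a(s) u_{-a}(-1/s) u_a(s)` -/
lemma weyl_eq (s : Kˣ) : E.p s * E.q (-(s⁻¹ : Kˣ)) * E.p s = E.i (E.co s) * (E.p 1 * E.q (-1) * E.p 1) := by
  have h1 := E.r1 ((s : K) - 1) 1 s (by ring)
  have h2 : E.p s = E.p ((s : K) - 1) * E.p 1 := by rw [← E.p_add]; congr 1; ring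
  have h3 : E.p 1 * (E.p 1 * E.q (-1) * E.p 1)⁻¹ = E.q 1 * E.p (-1) := by
    rw [E.q_neg, E.p_neg]; group
  rw [← mul_inv_eq_iff_eq_mul]
  calc E.p s * E.q (-(s⁻¹ : Kˣ)) * E.p s * (E.p 1 * E.q (-1) * E.p 1)⁻¹
      = E.p s * E.q (-(s⁻¹ : Kˣ)) * (E.p ((s : K) - 1) * (E.p 1 * (E.p 1 * E.q (-1) * E.p 1)⁻¹)) := by
        conv_lhs => rw [mul_assoc _ (E.p s)]
        congr 1
        nth_rewrite 1 [h2]
        simp only [mul_assoc]
    _ = E.p s * (E.q (-(s⁻¹ : Kˣ)) * E.q ((s⁻¹ : Kˣ) * 1)) * E.i (E.co s) *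
        (E.p ((s⁻¹ : Kˣ) * ((s : K) - 1)) * E.p (-1)) := by
        rw [h3, ← mul_assoc (E.p ((s : K) - 1)), h1]
        simp only [mul_assoc]
    _ = E.p s * E.i (E.co s) * E.p (-(s⁻¹ : Kˣ)) := by
        rw [← E.q_add, ← E.p_add, mul_one, neg_add_cancel, E.q_zero, mul_one]
        congr 2
        rw [mul_sub, Units.inv_mul]
        ring
    _ = E.i (E.co s) := by
        rw [E.relp', mul_assoc, ← E.p_add, E.ch_co]
        have : ((s ^ 2)⁻¹ : Kˣ) * (s : K) + -((s⁻¹ : Kˣ) : K) = 0 := by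
          simp only [Units.val_inv_eq_inv_val, Units.val_pow_eq_pow_val]
          field_simp
          ring
        rw [this, E.p_zero, mul_one]

/-- **Right translate of the cell by an element of the negative root group.** -/
theorem mem_or {g : 𝒢} (hg : g ∈ E.M) (y : K) (x : Kˣ) :
    g * E.q y ∈ E.M ∨ E.p (-x) * (g * E.q y) ∈ E.M := by
  obtain ⟨r, τ, s, rfl⟩ := hg
  by_cases h : 1 + s * y = 0
  · right
    have hsy : s * y = -1 := by linear_combination h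
    have hs0 : s ≠ 0 := by
      rintro rfl
      rw [zero_mul] at hsy
      exact one_ne_zero (neg_eq_zero.mp hsy.symm)
    obtain ⟨s, rfl⟩ : ∃ s' : Kˣ, (s' : K) = s := ⟨Units.mk0 s hs0, rfl⟩
    have hy : y = -(s⁻¹ : Kˣ) := by
      have h1 : (s⁻¹ : Kˣ) * ((s : K) * y) = y := Units.inv_mul_cancel_left s y
      rw [← h1, hsy, mul_neg, mul_one]
    have hw := weyl_eq (E := E) s
    rw [← hy] at hw
    -- commute `q` with the Weyl element
    have hq : ∀ z : K, ∃ z', E.q z * (E.p s * E.q y * E.p s) = (E.p s * E.q y * E.p s) * E.p z' := by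
      intro z
      obtain ⟨z', hz'⟩ := E.conj (E.χ (E.co s) * z)
      refine ⟨z', ?_⟩
      rw [hw, ← mul_assoc, E.relq', mul_assoc, hz']
      simp only [mul_assoc]
    obtain ⟨z', hz'⟩ := hq (E.χ τ * r)
    have e1 : E.q r * E.i τ * E.p s * E.q y = E.i τ * (E.p s * E.q y * E.p s) * E.p (z' - s) := by
      have e2 : E.p s * E.q y = (E.p s * E.q y * E.p s) * E.p (-s) := by
        rw [E.p_neg]; group
      have e3 : E.p (z' - s) = E.p z' * E.p (-s) := by rw [← E.p_add, sub_eq_add_neg]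
      calc E.q r * E.i τ * E.p s * E.q y = E.q r * E.i τ * (E.p s * E.q y) := by simp only [mul_assoc]
        _ = E.i τ * (E.q (E.χ τ * r) * (E.p s * E.q y * E.p s)) * E.p (-s) := by
            rw [E.relq']
            nth_rewrite 1 [e2]
            simp only [mul_assoc]
        _ = _ := by rw [hz', e3]; simp only [mul_assoc]
    rw [e1]
    have e4 : E.p (-x) * (E.i τ * (E.p s * E.q y * E.p s) * E.p (z' - s)) =
        E.i τ * (E.p (((E.χ τ)⁻¹ : Kˣ) * (-x) + s) * E.q y * E.p s) * E.p (z' - s) := by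
      rw [E.p_add]
      have := E.relp' τ (-x)
      simp only [← mul_assoc]
      rw [this]
    rw [e4]
    apply mul_p
    apply i_mul
    apply mul_p
    apply p_mul_q
    have e5 : 1 + (((E.χ τ)⁻¹ : Kˣ) * (-(x : K)) + s) * y = -(((E.χ τ)⁻¹ : Kˣ) * (x : K) * y) := by
      rw [add_mul, hsy]; ring
    rw [e5, neg_ne_zero]
    have hy0 : y ≠ 0 := by
      rw [hy]
      exact neg_ne_zero.mpr (Units.ne_zero _)
    exact mul_ne_zero (mul_ne_zero (Units.ne_zero _) (Units.ne_zero _)) hy0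
  · left
    have h1 := p_mul_q (E := E) h
    rw [mul_assoc, mul_assoc]
    exact q_mul (i_mul h1 τ) r

end R1

end K196.RankOneAbs
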