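import Groth.Agent.RedSub.H633.SortedCell
import Groth.Agent.RedSub.H634.BorelCoord
import Groth.Agent.Sga3B.PinCell
import Groth.Agent.Sga3B.RootUniq829
import Groth.Agent.RedSub.K196.RankOneAbs

/-!
# Translates of the big cell by elements of the root group of the negative of a simple root (chart form, over a field)
-/

set_option autoImplicit false
universe u

namespace K196.CellTr

open Groth.Agent.Sga3B.Cell Groth.Agent.Sga3B.Cell.Datum Groth.Agent.Sga3B
open Groth.Agent.RedSub.H633.SortedCell Groth.Agent.RedSub.H634.BorelCoord Polynomial LaurentPolynomial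

section datum

variable {R A : Type u} [CommRing R] [CommRing A] [Algebra R A] [PtGrp R A] {D : Datum R A}
variable {B : Type u} [CommRing B] [Algebra R B]

lemma UP_mono {L : List D.idx} {k k' : D.idx → ℤ} (h : ∀ a, k' a ≤ 0 → k a ≤ 0) :
    D.UP L k B ⊆ D.UP L k' B := by
  rintro g ⟨y, hy, rfl⟩
  exact ⟨y, fun a ha => hy a (h a ha), rfl⟩

lemma one_mem_UP {L : List D.idx} {k : D.idx → ℤ} : (1 : Pt R A B) ∈ D.UP L k B :=
  ⟨fun _ => 0, fun _ _ => rfl, by rw [cell_zero, map_one]⟩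

/-- the torus normalises `UP` -/
lemma UP_conj_i {L : List D.idx} {k : D.idx → ℤ} (t : TPt D.M B) {g : Pt R A B} (hg : g ∈ D.UP L k B) :
    D.i B t * g * (D.i B t)⁻¹ ∈ D.UP L k B := by
  obtain ⟨y, hy, rfl⟩ := hg
  exact ⟨fun a => TPt.ch (D.root a) t * y a, fun a ha => by simp only [hy a ha, mul_zero], conj_cell D L y 1 t⟩

/-- root groups of weight zero normalise `UP` -/
lemma UP_conj_uu (hG : D.Good) {L : List D.idx} (hL : L.Nodup) (hL' : ∀ a, a ∈ L) (lam : D.M →+ ℤ) {a : D.idx}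
    (ha : lam (D.root a) = 0) (x : B) {g : Pt R A B} (hg : g ∈ D.UP L (fun a => lam (D.root a)) B) :
    D.uu a B x * g * (D.uu a B x)⁻¹ ∈ D.UP L (fun a => lam (D.root a)) B := by
  obtain ⟨δ, hδ, hδ0⟩ := hG L hL hL'
  refine UP_conj (D := D) hδ hδ0 (θ := D.cochar lam) (θ' := D.cochar lam) (fun a => rfl) (fun a => rfl) ?_ hg
  have h1 := D.rel a (D.cochar lam : TPt D.M B[T;T⁻¹]) (lC R B x)
  rw [D.ch_cochar, ha, T_zero, one_mul] at h1
  rw [D.uu_nat]
  calc D.uu a _ (lC R B x) * D.i _ (D.cochar lam) * (D.uu a _ (lC R B x))⁻¹ =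
      (D.i _ (D.cochar lam) * D.uu a _ (lC R B x) * (D.i _ (D.cochar lam))⁻¹) *
        D.i _ (D.cochar lam) * (D.uu a _ (lC R B x))⁻¹ := by rw [h1]
    _ = _ := by group

lemma UP_mul' (hG : D.Good) {L : List D.idx} (hL : L.Nodup) (hL' : ∀ a, a ∈ L) (lam : D.M →+ ℤ)
    {g g' : Pt R A B} (h : g ∈ D.UP L (fun a => lam (D.root a)) B) (h' : g' ∈ D.UP L (fun a => lam (D.root a)) B) :
    g * g' ∈ D.UP L (fun a => lam (D.root a)) B := by
  obtain ⟨δ, hδ, hδ0⟩ := hG L hL hL'
  exact UP_mul (D := D) hδ hδ0 (θ := D.cochar lam) (fun a => rfl) h h'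

lemma UP_inv' (hG : D.Good) {L : List D.idx} (hL : L.Nodup) (hL' : ∀ a, a ∈ L) (lam : D.M →+ ℤ)
    {g : Pt R A B} (h : g ∈ D.UP L (fun a => lam (D.root a)) B) : g⁻¹ ∈ D.UP L (fun a => lam (D.root a)) B := by
  obtain ⟨δ, hδ, hδ0⟩ := hG L hL hL'
  exact UP_inv (D := D) hδ hδ0 (θ := D.cochar lam) (fun a => rfl) h

lemma uu_mem_UP {L : List D.idx} (hL : L.Nodup) (hL' : ∀ a, a ∈ L) {k : D.idx → ℤ} {a : D.idx} (ha : 0 < k a)
    (x : B) : D.uu a B x ∈ D.UP L k B := by
  classical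
  refine ⟨fun b => if b = a then x else 0, ?_, ?_⟩
  · intro b hb
    have : b ≠ a := by
      rintro rfl
      omega
    simp only [if_neg this]
  · rw [cell_single (D := D) hL (hL' a) (fun b hb => if_neg hb), if_pos rfl]

/-- Splitting off one root group. -/
lemma UP_split (hG : D.Good) {L : List D.idx} (hL : L.Nodup) (hL' : ∀ a, a ∈ L) (lam lam' : D.M →+ ℤ) (a : D.idx)
    (h : ∀ c, 0 < lam (D.root c) → c ≠ a → 0 < lam' (D.root c))
    {g : Pt R A B} (hg : g ∈ D.UP L (fun a => lam (D.root a)) B) :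
    ∃ s : B, ∃ w ∈ D.UP L (fun a => lam' (D.root a)) B, g = D.uu a B s * w := by
  classical
  let L' : List D.idx := a :: L.erase a
  have hn : L'.Nodup := by
    rw [List.nodup_cons]
    exact ⟨fun h => (List.Nodup.mem_erase_iff hL).mp h |>.1 rfl, hL.erase a⟩
  have hm : ∀ b, b ∈ L' := by
    intro b
    by_cases hb : b = a
    · subst hb
      exact List.mem_cons_self
    · exact List.mem_cons_of_mem _ ((List.mem_erase_of_ne hb).mpr (hL' b))
  rw [UP_congr_of_good hG lam hL hL' hn hm] at hg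
  obtain ⟨y, hy, rfl⟩ := hg
  refine ⟨y a, D.cell L' (fun b => if b = a then 0 else y b) 1, ?_, ?_⟩
  · rw [UP_congr_of_good hG lam' hL hL' hn hm]
    refine ⟨_, ?_, rfl⟩
    intro b hb
    by_cases hba : b = a
    · rw [if_pos hba]
    · rw [if_neg hba]
      apply hy
      by_contra h1
      rw [not_le] at h1
      exact absurd (h b h1 hba) (not_lt.mpr hb)
  · unfold cell
    have h0 : D.uu a B ((fun b => if b = a then 0 else y b) a) = 1 := by
      simp only [if_true, uu_zero]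
    rw [List.map_cons, List.prod_cons, List.map_cons, List.prod_cons, h0, one_mul, mul_assoc]
    congr 3
    apply List.map_congr_left
    intro b hb
    have : b ≠ a := ((List.Nodup.mem_erase_iff hL).mp hb).1
    simp only [if_neg this]

/-- `UP` in terms of an enumeration of the roots of positive weight -/
lemma mem_UP_iff_ofFn (hG : D.Good) {L : List D.idx} (hL : L.Nodup) (hL' : ∀ a, a ∈ L) (lam : D.M →+ ℤ) {m : ℕ}
    {e : Fin m → D.idx} (he : Function.Injective e) (hr : ∀ a, a ∈ Set.range e ↔ 0 < lam (D.root a))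
    (g : Pt R A B) : g ∈ D.UP L (fun a => lam (D.root a)) B ↔
      ∃ z : Fin m → B, g = (List.ofFn fun k => D.uu (e k) B (z k)).prod := by
  rw [UP_congr_of_good hG lam hL hL' (full_nodup he) (mem_full e)]
  have hr' : ∀ a, lam (D.root a) ≤ 0 → a ∉ Set.range e := by
    intro a ha h
    exact absurd ((hr a).mp h) (not_lt.mpr ha)
  constructor
  · rintro ⟨y, hy, rfl⟩
    refine ⟨fun k => y (e k), cell_full e ?_⟩
    intro a ha
    apply hy
    rw [hr] at ha
    exact not_lt.mp ha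
  · rintro ⟨z, rfl⟩
    refine ⟨ext0 e z, fun a ha => ext0_of_not z (hr' a ha), ?_⟩
    rw [cell_full e (fun a ha => ext0_of_not z ha)]
    congr 2
    funext k
    rw [ext0_apply he]

/-- the big cell `U⁻ T U⁺` -/
def Om (D : Datum R A) (L : List D.idx) (lam : D.M →+ ℤ) (B : Type u) [CommRing B] [Algebra R B] : Set (Pt R A B) :=
  {g | ∃ u ∈ D.UP L (fun a => (-lam) (D.root a)) B, ∃ τ, ∃ w ∈ D.UP L (fun a => lam (D.root a)) B,
    g = u * (D.i B τ * w)}

end datum

section field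

variable {R A : Type u} [CommRing R] [CommRing A] [Algebra R A] [PtGrp R A]
variable {idx M : Type} [Fintype idx] [AddCommGroup M] [Module.Free ℤ M]
    [Module.Finite ℤ M] {P : RootPairing idx ℤ M (Module.Dual ℤ M)} {b : P.Base} (E : PinCell P b R A)
variable {K : Type u} [Field K] [Algebra R K]

/-- the rank one data of a simple root in a pinned cell -/
noncomputable def r1 {a : idx} (ha : a ∈ b.support) : RankOneAbs.R1 (Pt R A K) K (TPt M K) where
  p := E.uu a K
  q := E.uu (P.reflectionPerm a a) K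
  i := E.i K
  co := TPt.cow (P.coroot a)
  χ :=
    { toFun := fun t => t (Multiplicative.ofAdd (P.root a))
      map_one' := rfl
      map_mul' := fun _ _ => rfl }
  p_add x y := E.uu_add a x y
  q_add x y := E.uu_add _ x y
  relp t x := by
    have h := E.rel a t x
    rw [mul_inv_eq_iff_eq_mul] at h
    exact h
  relq t x := by
    have h := E.rel (P.reflectionPerm a a) t x
    rw [mul_inv_eq_iff_eq_mul] at h
    rw [h]
    congr 3
    have h2 : P.root (P.reflectionPerm a a) = -P.root a := by simp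
    change ((t (Multiplicative.ofAdd (P.root (P.reflectionPerm a a))) : Kˣ) : K) = _
    rw [h2, ofAdd_neg, map_inv, Units.val_inv_eq_inv_val, Units.val_inv_eq_inv_val]
    rfl
  ch_co v := by
    change v ^ (P.coroot a (P.root a)) = v ^ 2
    have h2 : P.coroot a (P.root a) = 2 := by
      have := P.root_coroot_two a
      rw [E.pairing_eq] at this
      exact this
    rw [h2]
    rfl
  r1 x y v hv := E.rank1 a ha x y v hv
  conj y := by
    obtain ⟨r, hr⟩ := E.conj a ha a
    refine ⟨algebraMap R K (r⁻¹ : Rˣ) * y, ?_⟩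
    have h := hr (algebraMap R K (r⁻¹ : Rˣ) * y)
    rw [← mul_assoc, ← map_mul, Units.mul_inv, map_one, one_mul] at h
    rw [← h]
    group

end field

section main

variable {R A : Type u} [CommRing R] [CommRing A] [Algebra R A] [PtGrp R A] {D : Datum R A}
variable {K : Type u} [Field K] [Algebra R K]

/-- **Translate of the big cell by an element of the root group of the negative of a simple root.** -/
theorem Om_or (hG : D.Good) {L : List D.idx} (hL : L.Nodup) (hL' : ∀ a, a ∈ L) (lam lam' : D.M →+ ℤ)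
    (hlam : ∀ a, lam (D.root a) ≠ 0) {a a' : D.idx} (h0 : lam' (D.root a) = 0) (h0' : lam' (D.root a') = 0)
    (ha : 0 < lam (D.root a)) (ha' : lam (D.root a') < 0)
    (h1 : ∀ c, 0 < lam (D.root c) → c ≠ a → 0 < lam' (D.root c))
    (h2 : ∀ c, lam (D.root c) < 0 → c ≠ a' → lam' (D.root c) < 0)
    (r : RankOneAbs.R1 (Pt R A K) K (TPt D.M K)) (hp : ∀ x, r.p x = D.uu a K x) (κ : Kˣ)
    (hq : ∀ x, r.q x = D.uu a' K (κ * x)) (hi : ∀ t, r.i t = D.i K t)
    {g : Pt R A K} (hg : g ∈ Om D L lam K) (y : K) (x : Kˣ) :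
    g * D.uu a' K y ∈ Om D L lam K ∨ (D.uu a K x)⁻¹ * (g * D.uu a' K y) ∈ Om D L lam K := by
  have hmono : D.UP L (fun a => lam' (D.root a)) K ⊆ D.UP L (fun a => lam (D.root a)) K := by
    apply UP_mono
    intro c hc
    by_cases hca : c = a'
    · subst hca
      exact h0'.le
    · exact (h2 c (lt_of_le_of_ne hc (hlam c)) hca).le
  have hmono' : D.UP L (fun a => (-lam') (D.root a)) K ⊆ D.UP L (fun a => (-lam) (D.root a)) K := by
    apply UP_mono
    intro c hc
    simp only [AddMonoidHom.neg_apply, Left.neg_nonpos_iff] at hc ⊢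
    by_cases hca : c = a
    · subst hca
      exact h0.ge
    · exact (h1 c (lt_of_le_of_ne hc (hlam c).symm) hca).le
  have key : ∀ {u m w : Pt R A K}, u ∈ D.UP L (fun a => (-lam') (D.root a)) K → m ∈ r.M →
      w ∈ D.UP L (fun a => lam' (D.root a)) K → u * m * w ∈ Om D L lam K := by
    rintro u m w hu ⟨r₀, τ, s, rfl⟩ hw
    refine ⟨u * r.q r₀, ?_, τ, r.p s * w, ?_, ?_⟩
    · refine UP_mul' hG hL hL' (-lam) (hmono' hu) ?_
      rw [hq]
      apply uu_mem_UP hL hL'
      simp only [AddMonoidHom.neg_apply]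
      omega
    · refine UP_mul' hG hL hL' lam ?_ (hmono hw)
      rw [hp]
      exact uu_mem_UP hL hL' ha s
    · rw [hi]
      simp only [mul_assoc]
  obtain ⟨u, hu, τ, w₀, hw₀, rfl⟩ := hg
  obtain ⟨s, w, hw, rfl⟩ := UP_split hG hL hL' lam lam' a h1 hw₀
  have hui := UP_inv' hG hL hL' (-lam) hu
  obtain ⟨r₀, v, hv, huv⟩ := UP_split hG hL hL' (-lam) (-lam') a' (fun c hc hca => by
    simp only [AddMonoidHom.neg_apply] at hc ⊢
    have := h2 c (by omega) hca
    omega) hui
  have hv' := UP_inv' hG hL hL' (-lam') hv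
  have hu' : u = v⁻¹ * D.uu a' K (-r₀) := by
    rw [← inv_inj, huv, mul_inv_rev, inv_inv, uu_neg, inv_inv]
  have hw' : (D.uu a' K y)⁻¹ * w * D.uu a' K y ∈ D.UP L (fun a => lam' (D.root a)) K := by
    have h3 := UP_conj_uu hG hL hL' lam' h0' (-y) hw
    rwa [uu_neg, inv_inv] at h3
  let m : Pt R A K := r.q ((κ⁻¹ : Kˣ) * (-r₀)) * r.i τ * r.p s
  have hm : m ∈ r.M := ⟨_, _, _, rfl⟩
  have hme : m = D.uu a' K (-r₀) * D.i K τ * D.uu a K s := by
    change r.q _ * r.i τ * r.p s = _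
    rw [hq, hi, hp, Units.mul_inv_cancel_left]
  have hy : r.q ((κ⁻¹ : Kˣ) * y) = D.uu a' K y := by
    rw [hq, Units.mul_inv_cancel_left]
  have e1 : u * (D.i K τ * (D.uu a K s * w)) * D.uu a' K y =
      v⁻¹ * (m * r.q ((κ⁻¹ : Kˣ) * y)) * ((D.uu a' K y)⁻¹ * w * D.uu a' K y) := by
    rw [hy, hme, hu']
    group
  rw [e1]
  rcases r.mem_or hm ((κ⁻¹ : Kˣ) * y) x with h3 | h3
  · left
    exact key hv' h3 hw'
  · right
    have e2 : (D.uu a K x)⁻¹ * (v⁻¹ * (m * r.q ((κ⁻¹ : Kˣ) * y)) * ((D.uu a' K y)⁻¹ * w * D.uu a' K y)) =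
        (D.uu a K (-x) * v⁻¹ * (D.uu a K (-x))⁻¹) * (r.p (-x) * (m * r.q ((κ⁻¹ : Kˣ) * y))) *
          ((D.uu a' K y)⁻¹ * w * D.uu a' K y) := by
      rw [hp, uu_neg]
      group
    rw [e2]
    refine key ?_ h3 hw'
    apply UP_conj_uu hG hL hL' (-lam') _ _ hv'
    rw [AddMonoidHom.neg_apply, h0, neg_zero]

end main

end K196.CellTr
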