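import Groth.Agent.RedSub.K196.AdKerRk
import Groth.Agent.RedSub.K196.CellTr
import Groth.Agent.LieWt.K929.LieDict
import Groth.Agent.RedSub.H634.BorelStd
import Groth.Agent.RedSub.H633.CellPtsR
import Groth.Agent.Sga3B.AlgBc2
import Groth.Agent.Sga3.H811.Pts
import Groth.Agent.RedSub.H637.PosRoots
import Groth.Agent.S3910
import Groth.Agent.S2962

/-!
# Geometric points acting trivially on the Lie algebra
-/

set_option autoImplicit false
set_option linter.unusedSectionVars false
universe u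

open CategoryTheory MonoidalCategory CartesianMonoidalCategory MonObj GrpObj AlgebraicGeometry

namespace K196.AdKer

open Groth.Agent.Sga3B Groth.Agent.Sga3B.Cell Groth.Agent.Sga3B.Cell.Datum Groth.Agent.Sga3B.PinMod
  Groth.Agent.Sga3B.DSPts Groth.Agent.Sga3B.GaPts K929.LieDict

section adt

variable {R A : Type u} [CommRing R] [CommRing A] [Algebra R A] [PtGrp R A]
  {B : Type u} [CommRing B] [Algebra R B]

/-- the point acts trivially on the infinitesimal points -/
def AdT (g : Pt R A B) : Prop :=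
  ∀ w ∈ infP R A B, Pt.map (tinl R B) g * w = w * Pt.map (tinl R B) g

lemma AdT.conj {g : Pt R A B} (h : AdT g) (x : Pt R A B) : AdT (x⁻¹ * g * x) := by
  intro w hw
  have h1 := h _ (infP_conj hw (Pt.map (tinl R B) x))
  rw [Pt.map_mul, Pt.map_mul, Pt.map_inv]
  have h2 : ∀ {Γ : Type u} [Group Γ] (x g w : Γ), g * (x * w * x⁻¹) = (x * w * x⁻¹) * g →
      x⁻¹ * g * x * w = w * (x⁻¹ * g * x) := by
    intro Γ _ x g w h
    have h3 : x⁻¹ * g * x * w = x⁻¹ * (g * (x * w * x⁻¹)) * x := by group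
    rw [h3, h]
    group
  exact h2 _ _ _ h1

lemma i_mul_cell_one {D : Datum R A} (L : List D.idx) (t : TPt D.M B) (y : D.idx → B) :
    D.i B t * D.cell L y 1 = D.cell L (fun a => TPt.ch (D.root a) t * y a) t := by
  rw [i_mul_cell]
  exact congrArg (fun τ => D.cell L (fun a => TPt.ch (D.root a) t * y a) τ) (_root_.mul_one t)

omit [Algebra R B] [CommRing R] in
lemma eps_sq : (DualNumber.eps : DualNumber B) * DualNumber.eps = 0 := DualNumber.eps_mul_eps

lemma tinl_mul_eps (b : B) (h : tinl R B b * (DualNumber.eps : DualNumber B) = 0) : b = 0 := by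
  have h1 := congrArg TrivSqZeroExt.snd h
  rw [TrivSqZeroExt.snd_mul] at h1
  have h2 : (tinl R B b).fst • (DualNumber.eps : DualNumber B).snd = b := by
    change b * 1 = b
    rw [_root_.mul_one]
  have h3 : MulOpposite.op (DualNumber.eps : DualNumber B).fst • (tinl R B b).snd = 0 := by
    change (0 : B) * 0 = 0
    rw [mul_zero]
  rw [h2, h3, add_zero] at h1
  exact h1

end adt

section chart

variable {S : Scheme.{u}} {G : Over S} [GrpObj G] (D : Red.SplitRed G) (b : D.P.Base)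
  {R : Type u} [CommRing R] {s : Spec (CommRingCat.of R) ⟶ S} (c : Chart G s)
  {B : Type u} [CommRing B] [Algebra R B]

theorem adT_cell {x : D.idx → B} {t : TPt D.M B} (h : AdT ((c.datum D).cell (allList b) x t)) :
    (∀ a, x a = 0) ∧ ∀ a, TPt.ch ((c.datum D).root a) t = 1 := by
  refine main_chart D b c (tinl R B) DualNumber.eps eps_sq tinl_mul_eps (fun f => h _ ?_) fun a => h _ ?_
  · rw [mem_infP, (c.datum D).i_nat, TPt.map_cow]
    have h1 : Units.map (tfst R B : DualNumber B →* B) (K213.RkOneR.un1 DualNumber.eps eps_sq) = 1 := by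
      ext
      change (1 + DualNumber.eps : DualNumber B).fst = 1
      simp
    rw [h1, K213.RkOneR.cow_one, map_one]
  · rw [mem_infP, (c.datum D).uu_nat]
    have h1 : (tfst R B) (DualNumber.eps : DualNumber B) = 0 := by
      change (DualNumber.eps : DualNumber B).fst = 0
      simp
    rw [h1]
    exact (c.datum D).uu_zero a

/-- triviality of the adjoint action in a chart -/
lemma adT_of_Ad {f : Spec (CommRingCat.of B) ⟶ S} (hf : f = Spec.map (CommRingCat.ofHom (algebraMap R B)) ≫ s)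
    (g : LieS.pt B f ⟶ G) (hg : ∀ v : LieS.Lie G B f, LieS.Ad G B f g v = v) :
    AdT ((c.pts B).symm ((castP hf).hom ≫ g)) := by
  intro w hw
  obtain ⟨v, rfl⟩ := exists_inf_eq c hf w hw
  have h1 := inf_Ad c hf g ((c.pts B).symm ((castP hf).hom ≫ g)) (MulEquiv.apply_symm_apply _ _) v
  rw [hg v] at h1
  rw [eq_mul_inv_iff_mul_eq] at h1
  exact h1.symm

/-- torus points killed by the roots are central -/
lemma central_of_ch {B : Type u} [CommRing B] [Algebra R B] (t : TPt D.M B)
    (ht : ∀ a, TPt.ch ((c.datum D).root a) t = 1) (X' : Over S) (x : X' ⟶ tB s B) (h : X' ⟶ G) :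
    (x ≫ c.pts B ((c.datum D).i B t)) * h = h * (x ≫ c.pts B ((c.datum D).i B t)) := by
  refine (Groth.Agent.S2962.result D (tB s B) (c.pts B ((c.datum D).i B t))).2
    ⟨Groth.Agent.RedSub.H633.CellPtsR.tT D s t, (Groth.Agent.RedSub.H633.CellPtsR.pts_i' D s c t).symm, fun a => ?_⟩ X' x h
  apply Groth.Agent.Sga3.H811.Pts.gmFn_injective
  have h0 : D.split.inv.hom.hom ≫ D.split.hom.hom.hom = 𝟙 _ := congrArg (fun f => f.hom.hom) D.split.inv_hom_id
  have h1 : Groth.Agent.RedSub.H633.CellPtsR.tT D s t ≫ D.split.hom.hom.hom ≫ Red.chi S (D.P.root a) =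
      dsEquiv (tB s B) D.M (chΓ s t) ≫ Red.chi S (D.P.root a) := by
    change (dsEquiv (tB s B) D.M (chΓ s t) ≫ D.split.inv.hom.hom) ≫ _ = _
    rw [Category.assoc, ← Category.assoc D.split.inv.hom.hom, h0, Category.id_comp]
  rw [h1, gmFn_chi, dsChar_dsEquiv, chΓ_apply]
  have h2 : TPt.ch (D.P.root a) t = 1 := ht a
  rw [h2, Groth.Agent.Sga3.H811.Pts.gmFn_one]
  exact map_one (Scheme.ΓSpecIso (CommRingCat.of B)).inv.hom

end chart

section geo

open Groth.Agent.RedSub.H633.CellPtsR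

/-- **geometric points acting trivially on the Lie algebra are in the torus** -/
theorem geo {K : Type u} [Field K] [IsAlgClosed K] {G : Over (Spec (CommRingCat.of K))} [GrpObj G]
    (D : Red.SplitRed G) (b : D.P.Base) (g : LieS.pt K (𝟙 (Spec (CommRingCat.of K))) ⟶ G)
    (hg : ∀ v : LieS.Lie G K (𝟙 _), LieS.Ad G K (𝟙 _) g v = v) :
    ∃ t : LieS.pt K (𝟙 (Spec (CommRingCat.of K))) ⟶ D.T, t ≫ D.i = g := by
  have hGa : IsAffineHom G.hom := D.reductive.1
  have hGs : Smooth G.hom := D.reductive.2.1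
  have hGr : Red.IsReductiveOver K G := AlgBc.isReductive_iff.1 D.reductive
  have hGl : IsAffine G.left := hGr.1
  have hGc : ConnectedSpace G.left := hGr.2.2.1
  obtain ⟨m, epos, hpos⟩ := Groth.Agent.RedSub.H637.PosRoots.exists_enumerates (_root_.RedSub.posRoots D.P b)
  obtain ⟨-, Q, _, i, e, hQ, he⟩ := Groth.Agent.RedSub.H634.BorelStd.main D b epos hpos
  have hQ' : Red.IsBorelOver K i := AlgBc.isBorel_iff.1 hQ
  obtain ⟨x, β, hx⟩ := Groth.Agent.S3910.result K G Q i hQ' g
  obtain ⟨c⟩ := exists_chart G (𝟙 (Spec (CommRingCat.of K)))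
  have hf : 𝟙 (Spec (CommRingCat.of K)) =
      Spec.map (CommRingCat.ofHom (algebraMap K K)) ≫ 𝟙 (Spec (CommRingCat.of K)) := by
    have h1 : CommRingCat.ofHom (algebraMap K K) = 𝟙 _ := rfl
    rw [h1, Spec.map_id, Category.comp_id]
  let x' : LieS.pt K (𝟙 (Spec (CommRingCat.of K))) ⟶ G := x
  let β' : LieS.pt K (𝟙 (Spec (CommRingCat.of K))) ⟶ Q := β
  have hx' : x' * (β' ≫ i) * x'⁻¹ = g := hx
  have h1 := adT_of_Ad c hf g hg
  have h2 := h1.conj ((c.pts K).symm ((castP hf).hom ≫ x'))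
  have h3 : ((c.pts K).symm ((castP hf).hom ≫ x'))⁻¹ * (c.pts K).symm ((castP hf).hom ≫ g) *
      (c.pts K).symm ((castP hf).hom ≫ x') = (c.pts K).symm ((castP hf).hom ≫ β' ≫ i) := by
    rw [← map_inv, ← map_mul, ← map_mul, ← hx', MonObj.comp_mul, MonObj.comp_mul, GrpObj.comp_inv]
    congr 1
    group
  obtain ⟨t, z, htz⟩ := exists_srcPtB D (𝟙 _) ((castP hf).hom ≫ β' ≫ e.inv)
  have h4 : (castP hf).hom ≫ β' ≫ i = c.pts K ((c.datum D).i K t *
      (List.ofFn fun l => (c.datum D).uu (epos l) K (z l)).prod) := by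
    rw [← srcPt_borelMap, ← htz, ← he]
    simp
  rw [h3, h4, MulEquiv.symm_apply_apply] at h2
  obtain ⟨lam, hlam, hlampos⟩ := Groth.Agent.RedSub.H634.BorelStd.exists_functional b
  have hr : ∀ a : D.idx, a ∈ Set.range epos ↔ 0 < lam.toAddMonoidHom (D.P.root a) := fun a => by
    rw [hpos.2]
    exact hlampos a
  have h5 := (K196.CellTr.mem_UP_iff_ofFn (D := c.datum D) (B := K) (c.good D) (L := allList b) (allList_nodup b)
    (mem_allList b) lam.toAddMonoidHom (e := epos) hpos.1 hr ((List.ofFn fun l => (c.datum D).uu (epos l) K (z l)).prod)).2 ⟨z, rfl⟩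
  obtain ⟨y, -, hy⟩ := h5
  have e1 : ∀ (L : List (c.datum D).idx) (t' : TPt (c.datum D).M K) (y : (c.datum D).idx → K),
      (c.datum D).i K t' * (c.datum D).cell L y 1 =
        (c.datum D).cell L (fun a => TPt.ch ((c.datum D).root a) t' * y a) t' := by
    intro L t' y
    exact i_mul_cell_one L t' y
  rw [hy, e1] at h2
  obtain ⟨h6, h7⟩ := adT_cell D b c h2
  have h8 : (c.datum D).cell (allList b) (fun a => TPt.ch ((c.datum D).root a) t * y a) t =
      (c.datum D).i K t := by
    have : (fun a => TPt.ch ((c.datum D).root a) t * y a) = fun _ => 0 := funext h6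
    rw [this, cell_zero]
  have h9 : (castP hf).hom ≫ β' ≫ i = c.pts K ((c.datum D).i K t) := by
    rw [h4, hy, e1]
    exact congrArg _ h8
  have h10 := central_of_ch D c t h7 _ (𝟙 _) ((castP hf).hom ≫ x')
  rw [Category.id_comp, ← h9, ← MonObj.comp_mul, ← MonObj.comp_mul, cancel_epi] at h10
  have h11 : β' ≫ i = g := by
    rw [← hx', ← h10, mul_inv_cancel_right]
  refine ⟨(castP hf).inv ≫ tT D (𝟙 _) t, ?_⟩
  rw [Category.assoc, ← pts_i' D (𝟙 _) c t, ← h9, Iso.inv_hom_id_assoc, h11]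

end geo

end K196.AdKer
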