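import Groth.Agent.RedSub.K196.AdKerGeo
import Groth.Agent.RedSub.H654.PtBc
import Groth.Agent.RedSub.H654.LocChart
import Groth.Agent.Sga3B.SplitBc264b
import Groth.Agent.Sga3B.RepDescent7

/-!
# The kernel of the adjoint representation of a reductive group is the centre
-/

set_option autoImplicit false
set_option linter.unusedSectionVars false
universe u

open CategoryTheory MonoidalCategory CartesianMonoidalCategory MonObj GrpObj AlgebraicGeometry Limits

namespace K196.AdKer

open Groth.Agent.Sga3B Groth.Agent.Sga3B.Cell Groth.Agent.Sga3B.Cell.Datum Groth.Agent.Sga3B.PinMod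
  Groth.Agent.Sga3B.DSPts Groth.Agent.Sga3B.GaPts K929.LieDict Groth.Agent.RedSub.H654.PtBc

variable {S : Scheme.{u}} {G : Over S} [GrpObj G]

/-- the point acts trivially on the Lie algebra, after every base change -/
def Triv {X : Over S} (g : X ⟶ G) : Prop :=
  ∀ (B : Type u) [CommRing B] (f : Spec (CommRingCat.of B) ⟶ S) (x : LieS.pt B f ⟶ X)
    (w : LieS.dpt B f ⟶ G), LieS.zeroSec B f ≫ w = 1 →
    (LieS.proj B f ≫ x ≫ g) * w = w * (LieS.proj B f ≫ x ≫ g)

lemma Triv.comp {X Y : Over S} {g : X ⟶ G} (h : Triv g) (y : Y ⟶ X) : Triv (y ≫ g) := by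
  intro B _ f x w hw
  have := h B f (x ≫ y) w hw
  rwa [Category.assoc] at this

lemma Triv.ad {B : Type u} [CommRing B] {f : Spec (CommRingCat.of B) ⟶ S} {g : LieS.pt B f ⟶ G} (h : Triv g)
    (v : LieS.Lie G B f) : LieS.Ad G B f g v = v := by
  apply Subtype.ext
  rw [LieWt.Ad_val, mul_inv_eq_iff_eq_mul]
  have := h B f (𝟙 _) v.1 v.2
  rwa [Category.id_comp] at this

/-- base change -/
lemma triv_up {V : Scheme.{u}} {v : V ⟶ S} {T : Scheme.{u}} {τ : T ⟶ S} {a : T ⟶ V} (hv : a ≫ v = τ)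
    {g : Over.mk τ ⟶ G} (h : Triv g) : Triv (up hv g : Over.mk a ⟶ Red.bc v G) := by
  intro B _ f x w hw
  have hx : x.left ≫ a = f := Over.w x
  have h1 : (Spec.map (CommRingCat.ofHom (algebraMap B (DualNumber B))) ≫ f) ≫ v =
    Spec.map (CommRingCat.ofHom (algebraMap B (DualNumber B))) ≫ f ≫ v := Category.assoc _ _ _
  let x' : LieS.pt B (f ≫ v) ⟶ Over.mk τ := Over.homMk x.left (by
    change x.left ≫ τ = f ≫ v
    rw [← hv, ← Category.assoc, hx])
  let w' : LieS.dpt B (f ≫ v) ⟶ G := dn (v := v) h1 w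
  have hw' : LieS.zeroSec B (f ≫ v) ≫ w' = 1 := by
    have h2 := comp_dn (v := v) h1 (rfl : f ≫ v = f ≫ v) (LieS.zeroSec B (f ≫ v)) (LieS.zeroSec B f) rfl w
    refine h2.trans ?_
    have h3 : dn (v := v) (rfl : f ≫ v = f ≫ v) (LieS.zeroSec B f ≫ w) = dn (v := v) rfl (1 : LieS.pt B f ⟶ Red.bc v G) :=
      congrArg _ hw
    exact h3.trans (dn_one _)
  have h2 := h B (f ≫ v) x' w' hw'
  have h3 : dn (v := v) h1 (LieS.proj B f ≫ x ≫ up hv g) = LieS.proj B (f ≫ v) ≫ x' ≫ g := by
    have h4 := comp_up (v := v) hv h1 (LieS.proj B (f ≫ v) ≫ x') (LieS.proj B f ≫ x) rfl g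
    have h5 : LieS.proj B f ≫ x ≫ up hv g = (LieS.proj B f ≫ x) ≫ up hv g := (Category.assoc _ _ _).symm
    refine (congrArg (fun z => dn (v := v) h1 z) (h5.trans h4)).trans ?_
    exact (dn_up h1 _).trans (Category.assoc _ _ _)
  apply dn_injective (v := v) h1
  have h4 : dn (v := v) h1 ((LieS.proj B f ≫ x ≫ up hv g) * w) =
      dn (v := v) h1 (LieS.proj B f ≫ x ≫ up hv g) * dn (v := v) h1 w := dn_mul _ _ _
  have h5 : dn (v := v) h1 (w * (LieS.proj B f ≫ x ≫ up hv g)) =
      dn (v := v) h1 w * dn (v := v) h1 (LieS.proj B f ≫ x ≫ up hv g) := dn_mul _ _ _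
  rw [h4, h5, h3]
  exact h2

/-- **split case**: points acting trivially on the Lie algebra are central -/
theorem split_case (D : Red.SplitRed G) (b : D.P.Base) {C : Type u} [CommRing C] {f : Spec (CommRingCat.of C) ⟶ S}
    (g : LieS.pt C f ⟶ G) (hg : Triv g) (X' : Over S) (x : X' ⟶ LieS.pt C f) (h : X' ⟶ G) :
    (x ≫ g) * h = h * (x ≫ g) := by
  have hGa : IsAffineHom G.hom := D.reductive.1
  have hGs : Smooth G.hom := D.reductive.2.1
  obtain ⟨c⟩ := exists_chart G f
  have : Algebra.Smooth C c.A := ChartFib.smooth_of_isPullback c.isPullback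
  have hft : Algebra.FiniteType C c.A := inferInstance
  have hf : f = Spec.map (CommRingCat.ofHom (algebraMap C C)) ≫ f := by
    have h1 : CommRingCat.ofHom (algebraMap C C) = 𝟙 _ := rfl
    rw [h1, Spec.map_id, Category.id_comp]
  let γ₀ : Pt C c.A C := (c.pts C).symm ((castP hf).hom ≫ g)
  obtain ⟨hinj, I, hI, hmem⟩ := PinBuild.cell_props (D := c.datum D) (c.good D) D.P (fun a => rfl) b
  have htop : I.map γ₀.hom.toRingHom = ⊤ := by
    by_contra hcon
    obtain ⟨m, hm, hle⟩ := Ideal.exists_le_maximal _ hcon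
    let k := C ⧸ m
    let _ : Field k := Ideal.Quotient.field m
    let K := AlgebraicClosure k
    let φ : C →ₐ[C] K := Algebra.ofId C K
    let sK : Spec (CommRingCat.of K) ⟶ S := Spec.map (CommRingCat.ofHom φ.toRingHom) ≫ f
    have hf' : sK = Spec.map (CommRingCat.ofHom (algebraMap C K)) ≫ f := rfl
    let gK : LieS.pt K sK ⟶ G := LieS.ptMap f φ.toRingHom ≫ g
    have hgK : Triv gK := hg.comp _
    have hid : 𝟙 (Spec (CommRingCat.of K)) ≫ sK = sK := Category.id_comp _
    have hu : Triv (up hid gK : Over.mk (𝟙 (Spec (CommRingCat.of K))) ⟶ Red.bc sK G) := triv_up hid hgK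
    obtain ⟨t, ht⟩ := geo (Groth.Agent.Sga3B.SplitBc264.splitBc sK D) b (up hid gK) (fun v => hu.ad v)
    let t' : Over.mk sK ⟶ D.T := dn hid t
    have ht' : t' ≫ D.i = gK := by
      have h1 := dn_comp hid t D.i
      have h2 : dn hid (t ≫ (Over.pullback sK).map D.i) = dn hid (up hid gK) := congrArg _ ht
      exact h1.symm.trans (h2.trans (dn_up hid gK))
    obtain ⟨τ, hτ⟩ := (Groth.Agent.RedSub.H633.CellPtsR.tT_bijective D f (B := K)).2 ((castP hf').hom ≫ t')
    have h3 : Pt.map φ γ₀ = (c.datum D).i K τ := by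
      apply (c.pts K).injective
      rw [← c.pts_nat, MulEquiv.apply_symm_apply, Groth.Agent.RedSub.H633.CellPtsR.pts_i', hτ, Category.assoc,
        ht', ← Category.assoc, tMap_castP hf φ hf']
      exact Category.assoc _ _ _
    have h4 := (hmem (Pt.map φ γ₀)).1 ⟨fun _ => 0, τ, by rw [h3, cell_zero]⟩
    have h5 : I.map (Pt.map φ γ₀).hom.toRingHom ≤ ⊥ := by
      rw [Ideal.map_le_iff_le_comap]
      intro a ha
      have h6 : γ₀.hom a ∈ m := hle (Ideal.mem_map_of_mem _ ha)
      change φ (γ₀.hom a) = 0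
      change algebraMap C K (γ₀.hom a) = 0
      rw [IsScalarTower.algebraMap_apply C k K]
      have h7 : algebraMap C k (γ₀.hom a) = 0 := Ideal.Quotient.eq_zero_iff_mem.2 h6
      rw [h7, map_zero]
    rw [h4] at h5
    exact top_ne_bot (top_le_iff.1 (le_of_eq_of_le rfl h5)).symm
  obtain ⟨y, t, hy⟩ := (hmem γ₀).2 htop
  have h1 : AdT γ₀ := adT_of_Ad c hf g (fun v => hg.ad v)
  rw [hy] at h1
  obtain ⟨h2, h3⟩ := adT_cell D b c h1
  have h4 : γ₀ = (c.datum D).i C t := by
    rw [hy]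
    have : y = fun _ => 0 := funext h2
    rw [this, cell_zero]
  have h5 := central_of_ch D c t h3 X' (x ≫ (castP hf).inv) h
  rw [← h4, MulEquiv.apply_symm_apply, Category.assoc, Iso.inv_hom_id_assoc] at h5
  exact h5

/-- **points of a reductive group acting trivially on the Lie algebra are central** -/
theorem central_of_triv (hG : Red.IsReductive G) {X : Over S} (g : X ⟶ G) (hg : Triv g) (k : X ⟶ G) :
    g * k = k * g := by
  refine RepDescent.hom_ext_cover (T := Over.mk (𝟙 S)) (J := S)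
    (fun s => Over.mk (Groth.Agent.RedSub.H654.LocChart.exists_pchart hG s).choose.v)
    (fun s => Over.homMk (Groth.Agent.RedSub.H654.LocChart.exists_pchart hG s).choose.v (Category.comp_id _))
    (fun s => (Groth.Agent.RedSub.H654.LocChart.exists_pchart hG s).choose.et)
    (fun t => ?_) (Over.homMk X.hom (Category.comp_id _)) _ _ ?_
  · obtain ⟨b, hb⟩ := (Groth.Agent.RedSub.H654.LocChart.exists_pchart hG t).choose_spec
    exact ⟨t, b, hb⟩
  · intro s R p r _
    set c := (Groth.Agent.RedSub.H654.LocChart.exists_pchart hG s).choose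
    rw [MonObj.comp_mul, MonObj.comp_mul]
    have hcomm : ∀ (C : CommRingCat.{u}) (τ : Spec C ⟶ S) (y : Over.mk τ ⟶ R),
        y ≫ ((p ≫ g) * (p ≫ k)) = y ≫ ((p ≫ k) * (p ≫ g)) := by
      intro C τ y
      let a : Spec C ⟶ Spec c.B := y.left ≫ r.left
      have ha : a ≫ c.v = τ := by
        change (y.left ≫ r.left) ≫ c.v = τ
        have h1 : r.left ≫ c.v = R.hom := Over.w r
        have h2 : y.left ≫ R.hom = τ := Over.w y
        rw [Category.assoc, h1, h2]
      rw [MonObj.comp_mul, MonObj.comp_mul]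
      have h3 : Triv (y ≫ p ≫ g) := by
        rw [← Category.assoc]
        exact hg.comp _
      have h4 := triv_up ha h3
      apply up_injective (v := c.v) ha
      have h5 : (up ha ((y ≫ p ≫ g) * (y ≫ p ≫ k)) : Over.mk a ⟶ Red.bc c.v G) =
        (up ha (y ≫ p ≫ g) : Over.mk a ⟶ Red.bc c.v G) * up ha (y ≫ p ≫ k) := up_mul _ _ _
      have h6 : (up ha ((y ≫ p ≫ k) * (y ≫ p ≫ g)) : Over.mk a ⟶ Red.bc c.v G) =
        (up ha (y ≫ p ≫ k) : Over.mk a ⟶ Red.bc c.v G) * up ha (y ≫ p ≫ g) := up_mul _ _ _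
      have h7 := split_case c.D.toSplitRed c.D.base (C := C) (f := a) (up ha (y ≫ p ≫ g)) h4 (Over.mk a)
        (𝟙 _) (up ha (y ≫ p ≫ k))
      refine h5.trans (Eq.trans ?_ h6.symm)
      exact (congrArg (fun z => z * (up ha (y ≫ p ≫ k) : Over.mk a ⟶ Red.bc c.v G)) (Category.id_comp _)).symm.trans
        (h7.trans (congrArg (fun z => (up ha (y ≫ p ≫ k) : Over.mk a ⟶ Red.bc c.v G) * z) (Category.id_comp _)))
    exact AffYoneda.hom_ext hcomm

end K196.AdKer
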