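import Groth.Agent.RedSub.K196.AdKer
import Groth.Agent.Sga3B.PinModelOf
import Groth.Agent.Sga3B.ChartGood

/-!
# Rank one relations for all roots of a split group, in a chart
-/

set_option autoImplicit false
set_option linter.unusedSectionVars false
universe u

open CategoryTheory MonoidalCategory CartesianMonoidalCategory MonObj GrpObj AlgebraicGeometry
open TensorProduct

namespace K196.AdKer

open Groth.Agent.Sga3B Groth.Agent.Sga3B.Cell Groth.Agent.Sga3B.Cell.Datum
open Groth.Agent.Sga3B.PinMod Groth.Agent.Sga3B.PinFinal Groth.Agent.Sga3B.DSPts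
open Groth.Agent.Sga3B.GaPts Groth.Agent.Sga3B.PinBuild Groth.Agent.Sga3B.PinModelOf

section

variable {R A : Type u} [CommRing R] [CommRing A] [Algebra R A] [PtGrp R A] {D : Datum R A}

theorem rk_pos [Algebra.Smooth R A] (hdom : ∀ (K : Type u) [Field K] [Algebra R K],
      IsDomain (K ⊗[R] A)) (hG : D.Good)
    (P : RootPairing D.idx ℤ D.M (Module.Dual ℤ D.M)) (hP : ∀ a, P.root a = D.root a)
    (hpe : P.toLinearMap = Module.Dual.eval ℤ D.M) (b : P.Base) (a : D.idx) (ha : b.IsPos a)
    (hn : ∃ n : Pt R A R, ∀ {B : Type u} [CommRing B] [Algebra R B]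
      (t : TPt D.M B), bp B n * D.i B t * (bp B n)⁻¹ =
        D.i B (t * (TPt.cow (P.coroot a) (t (Multiplicative.ofAdd (D.root a))))⁻¹)) : Rk D P a := by
  classical
  have hred : P.IsReduced := PinComb.isReduced b
  have hft : Algebra.FiniteType R A := inferInstance
  obtain ⟨hinj, I, hI, hmem⟩ := cell_props hG P hP b
  have hneg : ∀ a, D.root (P.reflectionPerm a a) = - D.root a := fun a => by
    rw [← hP, ← hP]; simp
  have hnpos : ¬ b.IsPos (P.reflectionPerm a a) := (RootPairing.Base.IsPos.neg_iff_not b a).not.mpr (not_not.mpr ha)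
  obtain ⟨n, hn⟩ := hn
  have H : RankOneHyp D a (P.reflectionPerm a a) (P.coroot a) (negList b) (posList b) I n :=
      { good := hG
        ft := hft
        dom := hdom
        neg := hneg a
        two := by
          have := P.root_coroot_two a
          rw [hpe] at this
          rw [← hP]
          exact this
        red := by
          intro c hc
          by_cases hac : a = c
          · exact Or.inl hac.symm
          · right
            rw [← hP, ← hP] at hc
            have hli : ¬ LinearIndependent ℤ ![P.root a, P.root c] := by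
              intro hli
              rw [LinearIndependent.pair_iff] at hli
              have := (hli (P.coroot a (P.root c)) (-2) (by rw [← hc]; module)).2
              omega
            have h2 := RootPairing.IsReduced.eq_or_eq_neg (P := P) a c hli
            rcases h2 with h2 | h2
            · exact absurd (P.root.injective h2) hac
            · apply P.root.injective
              rw [P.root_reflectionPerm, P.reflection_apply_self, h2, neg_neg]
        nodup := allList_nodup b
        compl := mem_allList b
        mem_neg := (mem_negList b).mpr hnpos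
        mem_pos := (mem_posList b).mpr ha
        inj := hinj
        mem_iff := hmem
        acts := acts_rf hn }
  exact H.rank_one_norm

theorem rk_all [Algebra.Smooth R A] (hdom : ∀ (K : Type u) [Field K] [Algebra R K],
      IsDomain (K ⊗[R] A)) (hG : D.Good)
    (P : RootPairing D.idx ℤ D.M (Module.Dual ℤ D.M)) (hP : ∀ a, P.root a = D.root a)
    (hpe : P.toLinearMap = Module.Dual.eval ℤ D.M) (b : P.Base)
    (hn : ∀ a, ∃ n : Pt R A R, ∀ {B : Type u} [CommRing B] [Algebra R B]
      (t : TPt D.M B), bp B n * D.i B t * (bp B n)⁻¹ =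
        D.i B (t * (TPt.cow (P.coroot a) (t (Multiplicative.ofAdd (D.root a))))⁻¹)) (a : D.idx) : Rk D P a := by
  by_cases ha : b.IsPos a
  · exact rk_pos hdom hG P hP hpe b a ha (hn a)
  · exact Rk.of_neg P (rk_pos hdom hG P hP hpe b _ ((RootPairing.Base.IsPos.neg_iff_not b a).2 ha) (hn _))

end

section chart

variable {S : Scheme.{u}} {G : Over S} [GrpObj G] (D : Red.SplitRed G) (b : D.P.Base)
  {R : Type u} [CommRing R] {s : Spec (CommRingCat.of R) ⟶ S} (c : Chart G s)

include b in
/-- rank one relations for all roots of a split group -/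
theorem rk_chart (a : D.idx) : Rk (c.datum D) D.P a := by
  have : Smooth G.hom := D.reductive.2.1
  have : Algebra.Smooth R c.A := ChartFib.smooth_of_isPullback c.isPullback
  exact rk_all (D := c.datum D) (fun K _ _ => ChartFib.isDomain D.reductive c.isPullback K) (c.good D) D.P
    (fun a => rfl) D.pairing_eq b (fun a => by
      obtain ⟨n, hn⟩ := PinModelOf.exists_acts D c a
      exact ⟨n, fun t => PinModelOf.conj_of_acts (D := c.datum D) D.P (fun a => rfl)
        D.pairing_eq hn t⟩) a

/-- **elements of the big cell of a chart acting trivially on the Lie algebra** -/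
theorem main_chart {B C : Type u} [CommRing B] [Algebra R B] [CommRing C] [Algebra R C] (j : B →ₐ[R] C) (e : C)
    (he : e * e = 0) (hι : ∀ b : B, j b * e = 0 → b = 0) {x : D.idx → B} {t : TPt D.M B}
    (H1 : ∀ f : Module.Dual ℤ D.M, Pt.map j ((c.datum D).cell (allList b) x t) *
        (c.datum D).i C (TPt.cow f (K213.RkOneR.un1 e he)) =
      (c.datum D).i C (TPt.cow f (K213.RkOneR.un1 e he)) * Pt.map j ((c.datum D).cell (allList b) x t))
    (H2 : ∀ a, Pt.map j ((c.datum D).cell (allList b) x t) * (c.datum D).uu a C e =
      (c.datum D).uu a C e * Pt.map j ((c.datum D).cell (allList b) x t)) :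
    (∀ a, x a = 0) ∧ ∀ a, TPt.ch ((c.datum D).root a) t = 1 := by
  have : Smooth G.hom := D.reductive.2.1
  have : Algebra.Smooth R c.A := ChartFib.smooth_of_isPullback c.isPullback
  have hft : Algebra.FiniteType R c.A := inferInstance
  have hred : D.P.IsReduced := PinComb.isReduced b
  obtain ⟨hinj, -⟩ := cell_props (D := c.datum D) (c.good D) D.P (fun a => rfl) b
  have hn : ∀ a : D.idx, a ∈ negList b → D.P.reflectionPerm a a ∈ posList b := fun a ha =>
    (mem_posList b).2 ((RootPairing.Base.IsPos.neg_iff_not b a).2 ((mem_negList b).1 ha))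
  have hp : ∀ a : D.idx, a ∈ posList b → D.P.reflectionPerm a a ∈ negList b := fun a ha =>
    (mem_negList b).2 ((RootPairing.Base.IsPos.neg_iff_not b a).not.2 (not_not.2 ((mem_posList b).1 ha)))
  let P' : RootPairing (c.datum D).idx ℤ (c.datum D).M (Module.Dual ℤ (c.datum D).M) := D.P
  have hred' : P'.IsReduced := hred
  exact main (D := c.datum D) (P := P') (hP := fun _ => rfl) D.pairing_eq (c.good D) (rk_chart D b c) j e he hι
    (allList_nodup b) (mem_allList b) hn hp hinj H1 H2

end chart

end K196.AdKer
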