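import Groth.Agent.RedSub.K197.RadDer
import Groth.Agent.RedSub.K197.CoradBc
import Groth.Agent.RedSub.K197.Fppf

/-!
# The quotient of a reductive group by its centre has trivial centre

* `central_of_comm`: a point of a reductive group all of whose commutators are central is central.
* `eq_one_of_central`: `G/Z` has trivial centre.
-/

set_option autoImplicit false
set_option linter.unusedSectionVars false
universe u

open CategoryTheory MonoidalCategory CartesianMonoidalCategory MonObj GrpObj AlgebraicGeometry Limits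

namespace K196.AdjCent

open Groth.Agent Groth.Agent.Sga3B Groth.Agent.RedSub.H654.Coradical Groth.Agent.RedSub.H654.PtBc K197

lemma comm_mul {A : Type*} [Group A] {y a b z z' : A} (h1 : y * a * y⁻¹ * a⁻¹ = z)
    (h2 : y * b * y⁻¹ * b⁻¹ = z') (h3 : z' * a = a * z') : y * (a * b) * y⁻¹ * (a * b)⁻¹ = z * z' := by
  have h4 : y * (a * b) * y⁻¹ * (a * b)⁻¹ = (y * a * y⁻¹ * a⁻¹) * (a * (y * b * y⁻¹ * b⁻¹) * a⁻¹) := by group
  rw [h4, h1, h2, ← h3, mul_inv_cancel_right]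

lemma comm_cent {A : Type*} [Group A] {y a : A} (h : y * a * y⁻¹ * a⁻¹ = 1) : y * a = a * y := by
  have h1 : y * a = (y * a * y⁻¹ * a⁻¹) * (a * y) := by group
  rw [h1, h, _root_.one_mul]

lemma comm_one {A : Type*} [Group A] {y a : A} (h : y * a = a * y) : y * a * y⁻¹ * a⁻¹ = 1 := by
  rw [h, mul_inv_cancel_right, mul_inv_cancel]

section

variable {S : Scheme.{u}} {G Z : Over S} [GrpObj G] [GrpObj Z]

lemma centre_comm (j : Z ⟶ G) (hZ : Red.IsCentre j) {X : Over S}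
    (x : X ⟶ Z) (y : X ⟶ G) : (x ≫ j) * y = y * (x ≫ j) := by
  have h := (hZ.2.2 X (x ≫ j)).1 ⟨x, rfl⟩ X (𝟙 X) y
  simpa only [Category.id_comp, Category.comp_id] using h

/-- `rad(G) × dér(G) ⟶ G` is an fppf covering -/
theorem isCov_mul {D R C₁ : Over S} [GrpObj D] [GrpObj R] [GrpObj C₁]
    {q : G ⟶ C₁} [IsMonHom q] (L : LQ q) {d : D ⟶ G} [IsMonHom d] (hd : AlgGrp.IsKernel d q)
    {j : Z ⟶ G} (hZ : Red.IsCentre j) {r : R ⟶ Z} (hR : Red.IsMaximalTorus r) :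
    Fppf.IsCov (((r ≫ j) ⊗ₘ d) ≫ μ[G]) := by
  have hj : IsMonHom j := hZ.1
  have hr : IsMonHom r := hR.1
  have h1 := Corad.isog_rad_LQ L hZ hR
  have h2 := (RadDer.isPullback_mul (r ≫ j) d q hd).map (Over.forget S)
  rw [Category.assoc] at h2
  have h3 : Smooth C₁.hom := TorusAlgClosed.smooth_of_isTorus L.isTorus
  have h4 : Smooth R.hom := TorusAlgClosed.smooth_of_isTorus hR.2.2.1
  have h5 : LocallyOfFinitePresentation ((r ≫ j ≫ q).left ≫ C₁.hom) := by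
    rw [Over.w (r ≫ j ≫ q)]
    infer_instance
  have h6 : LocallyOfFinitePresentation (r ≫ j ≫ q).left :=
    MorphismProperty.of_postcomp (W := @LocallyOfFinitePresentation) (W' := @LocallyOfFiniteType)
      (r ≫ j ≫ q).left C₁.hom inferInstance h5
  obtain ⟨a, b, -⟩ := (Isog.isIsog_iff _).1 h1
  exact ⟨MorphismProperty.of_isPullback (P := @Surjective) h2 a,
    MorphismProperty.of_isPullback (P := @Flat) h2 b,
    MorphismProperty.of_isPullback (P := @LocallyOfFinitePresentation) h2 h6⟩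

/-- the commutator with a point, over the source of the point -/
theorem exists_hom (j : Z ⟶ G) (hZ : Red.IsCentre j) {X : Over S} (y : X ⟶ G)
    (h : ∀ (X' : Over S) (x : X' ⟶ X) (k : X' ⟶ G), ∃ z : X' ⟶ Z, (x ≫ y) * k * (x ≫ y)⁻¹ * k⁻¹ = z ≫ j) :
    ∃ f : Red.bc X.hom G ⟶ Red.bc X.hom Z, IsMonHom f ∧
      ∀ (T : Over X.left) (g : Over.mk T.hom ⟶ Red.bc X.hom G),
        dn (v := X.hom) (τ := T.hom ≫ X.hom) rfl (g ≫ f) ≫ j =
          ((Over.homMk T.hom rfl : Over.mk (T.hom ≫ X.hom) ⟶ X) ≫ y) * dn (v := X.hom) rfl g *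
            ((Over.homMk T.hom rfl : Over.mk (T.hom ≫ X.hom) ⟶ X) ≫ y)⁻¹ * (dn (v := X.hom) rfl g)⁻¹ := by
  have hj : IsMonHom j := hZ.1
  have hjm : Mono j := hZ.2.1
  obtain ⟨c, hc⟩ := h (X ⊗ G) (fst _ _) (snd _ _)
  let B : Over X.left := Red.bc X.hom G
  let x₀ : Over.mk (B.hom ≫ X.hom) ⟶ X := Over.homMk B.hom rfl
  let g₀ : Over.mk (B.hom ≫ X.hom) ⟶ G := dn (v := X.hom) (a := B.hom) rfl (𝟙 (Over.mk B.hom))
  let f : Red.bc X.hom G ⟶ Red.bc X.hom Z :=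
    (up (v := X.hom) (a := B.hom) rfl (lift x₀ g₀ ≫ c) : Over.mk B.hom ⟶ Red.bc X.hom Z)
  have key : ∀ (T : Over X.left) (g : Over.mk T.hom ⟶ Red.bc X.hom G),
        dn (v := X.hom) (τ := T.hom ≫ X.hom) rfl (g ≫ f) ≫ j =
          ((Over.homMk T.hom rfl : Over.mk (T.hom ≫ X.hom) ⟶ X) ≫ y) * dn (v := X.hom) rfl g *
            ((Over.homMk T.hom rfl : Over.mk (T.hom ≫ X.hom) ⟶ X) ≫ y)⁻¹ * (dn (v := X.hom) rfl g)⁻¹ := by
    intro T g
    let k : Over.mk (T.hom ≫ X.hom) ⟶ Over.mk (B.hom ≫ X.hom) :=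
      Over.homMk g.left (by
        change g.left ≫ B.hom ≫ X.hom = T.hom ≫ X.hom
        rw [← Category.assoc]
        exact congrArg (fun t => t ≫ X.hom) (Over.w g))
    have h1 : g ≫ f = up (v := X.hom) (a := T.hom) (τ := T.hom ≫ X.hom) rfl (k ≫ lift x₀ g₀ ≫ c) :=
      comp_up (v := X.hom) (a := B.hom) (a' := T.hom) rfl rfl k g rfl (lift x₀ g₀ ≫ c)
    have h2 : k ≫ x₀ = Over.homMk T.hom rfl := by
      ext1
      exact Over.w g
    have h3 : k ≫ g₀ = dn (v := X.hom) rfl g := by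
      have := comp_dn (v := X.hom) (a := B.hom) (a' := T.hom) (τ := B.hom ≫ X.hom) (τ' := T.hom ≫ X.hom)
        rfl rfl k g rfl (𝟙 (Over.mk B.hom))
      exact this.trans (congrArg (fun t => dn (v := X.hom) (τ := T.hom ≫ X.hom) rfl t) (Category.comp_id g))
    have h4 : dn (v := X.hom) (τ := T.hom ≫ X.hom) rfl (g ≫ f) = lift (k ≫ x₀) (k ≫ g₀) ≫ c := by
      rw [h1, dn_up, ← Category.assoc, comp_lift]
    rw [h4, Category.assoc, ← hc, MonObj.comp_mul, MonObj.comp_mul, MonObj.comp_mul, GrpObj.comp_inv,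
      GrpObj.comp_inv, lift_fst_assoc, lift_snd, h2, h3]
  refine ⟨f, ?_, key⟩
  apply Pts.isMonHom_of_points
  intro T g g'
  have h5 : ∀ g g' : Over.mk T.hom ⟶ Red.bc X.hom G, (g * g') ≫ f = (g ≫ f) * (g' ≫ f) := by
    intro g g'
    apply dn_injective (v := X.hom) (τ := T.hom ≫ X.hom) rfl
    rw [← cancel_mono j, dn_mul, key, MonObj.mul_comp, key, key, dn_mul]
    refine comm_mul rfl rfl ?_
    rw [← key]
    exact centre_comm j hZ _ _
  exact h5 g g'

/-- **a point all of whose commutators are central is central** -/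
theorem central_of_comm (hG : Red.IsReductive G) (j : Z ⟶ G) (hZ : Red.IsCentre j) {R : Over S} [GrpObj R]
    (r : R ⟶ Z) (hR : Red.IsMaximalTorus r) {X : Over S} (y : X ⟶ G)
    (h : ∀ (X' : Over S) (x : X' ⟶ X) (k : X' ⟶ G), ∃ z : X' ⟶ Z, (x ≫ y) * k * (x ≫ y)⁻¹ * k⁻¹ = z ≫ j) :
    ∃ t : X ⟶ Z, t ≫ j = y := by
  have hj : IsMonHom j := hZ.1
  have hjm : Mono j := hZ.2.1
  obtain ⟨C, hC, q, hq, ⟨L⟩⟩ := exists_LQ hG
  obtain ⟨hK, hk⟩ := Sga3B.KerGrp.exists_grpObj q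
  have hd : AlgGrp.IsKernel (Sga3B.KerGrp.kerι q) q := Sga3B.KerGrp.isPullback_ker q
  have hcov := isCov_mul L hd hZ hR
  obtain ⟨f, hf, key⟩ := exists_hom j hZ y h
  have hcomm : ∀ (X : Over S) (a b : X ⟶ Z), a * b = b * a := by
    intro X a b
    rw [← cancel_mono j, MonObj.mul_comp, MonObj.mul_comp]
    exact centre_comm j hZ _ _
  -- the kernel of the coradical commutes with `y`
  have hker : ∀ (X' : Over S) (x : X' ⟶ X) (k : X' ⟶ G), k ≫ q = 1 → (x ≫ y) * k = k * (x ≫ y) := by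
    intro X' x k hkq
    obtain ⟨X₀, hX₀⟩ : ∃ X₀ : Over X.left, X₀ = Over.mk x.left := ⟨_, rfl⟩
    have hx : x.left ≫ X.hom = X'.hom := Over.w x
    have h1 : (up (v := X.hom) hx k : Over.mk x.left ⟶ Red.bc X.hom G) ≫ (Over.pullback X.hom).map q =
        (1 : Over.mk x.left ⟶ Red.bc X.hom C) := by
      have h2 : (up (v := X.hom) (τ := X'.hom) hx k : Over.mk x.left ⟶ Red.bc X.hom G) ≫
        (Over.pullback X.hom).map q = up (v := X.hom) (τ := X'.hom) hx (k ≫ q) := up_comp _ _ _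
      rw [h2, hkq]
      exact up_one _
    have h3 := CoradBc.kill_bc L X.hom (Red.bc X.hom Z) (CoradBc.comm_bc X.hom hcomm) f _ h1
    have h4 := key (Over.mk x.left) (up (v := X.hom) (τ := x.left ≫ X.hom) rfl
      ((Over.homMk (𝟙 _) (by simp) : Over.mk (x.left ≫ X.hom) ⟶ X') ≫ k))
    have h5 : (up (v := X.hom) (τ := X'.hom) hx k : Over.mk x.left ⟶ Red.bc X.hom G) =
      (up (v := X.hom) (τ := x.left ≫ X.hom) rfl
        ((Over.homMk (𝟙 _) (by simp) : Over.mk (x.left ≫ X.hom) ⟶ X') ≫ k)) := by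
      apply pt_ext
      rw [up_left_fst, up_left_fst, Over.comp_left]
      exact (Category.id_comp _).symm
    rw [h5] at h3
    have h6 : (up (v := X.hom) (τ := x.left ≫ X.hom) rfl
        ((Over.homMk (𝟙 _) (by simp) : Over.mk (x.left ≫ X.hom) ⟶ X') ≫ k)) ≫ f =
      (1 : Over.mk x.left ⟶ Red.bc X.hom Z) := h3
    rw [h6, dn_one, MonObj.one_comp, dn_up] at h4
    have h7 := comm_cent h4.symm
    let e : Over.mk (x.left ≫ X.hom) ≅ X' := Over.isoMk (Iso.refl _) (by simp)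
    have h8 : (Over.homMk (Over.mk x.left).hom rfl : Over.mk ((Over.mk x.left).hom ≫ X.hom) ⟶ X) =
      e.hom ≫ x := by
      ext1
      exact (Category.id_comp _).symm
    have h9 : (Over.homMk (𝟙 _) (by simp) : Over.mk (x.left ≫ X.hom) ⟶ X') = e.hom := by
      ext1
      rfl
    rw [h8, h9] at h7
    rw [← cancel_epi e.hom, MonObj.comp_mul, MonObj.comp_mul, ← Category.assoc]
    exact h7
  refine (hZ.2.2 X y).2 fun X' x k => ?_
  rw [Category.comp_id]
  obtain ⟨X'', c, w, hc, hw⟩ := Fppf.exists_lift_local hcov k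
  refine Fppf.hom_ext hc ?_
  rw [RadDer.tensorHom_mul, MonObj.comp_mul] at hw
  simp only [← Category.assoc] at hw
  have h1 := hker X'' (c ≫ x) ((w ≫ snd _ _) ≫ KerGrp.kerι q) (by
    rw [Category.assoc, KerGrp.kerι_comp, MonObj.comp_one])
  have h2 := centre_comm j hZ ((w ≫ fst _ _) ≫ r) ((c ≫ x) ≫ y)
  rw [MonObj.comp_mul, MonObj.comp_mul, ← hw, ← Category.assoc]
  rw [← _root_.mul_assoc, ← h2, _root_.mul_assoc, h1, _root_.mul_assoc]

/-- a point in the kernel of the quotient by `Z` comes from `Z` -/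
lemma exists_of_comp_eq_one {G' : Over S} [GrpObj G'] {j : Z ⟶ G} [IsMonHom j] {p : G ⟶ G'} [IsMonHom p]
    (hp : RedSub.IsQuotient j p) {X : Over S} (g : X ⟶ G) (hg : g ≫ p = 1) : ∃ z : X ⟶ Z, g = z ≫ j := by
  obtain ⟨-, -, -, h⟩ := hp
  obtain ⟨w, hw1, hw2⟩ := h.exists_lift (1 : X ⟶ G) g (by rw [hg, MonObj.one_comp])
  refine ⟨w ≫ snd _ _, ?_⟩
  have h1 : w ≫ (G ◁ j) ≫ μ[G] = (w ≫ fst _ _) * ((w ≫ snd _ _) ≫ j) := by
    rw [Hom.mul_def, ← Category.assoc]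
    congr 1
    apply CartesianMonoidalCategory.hom_ext <;> simp
  rw [← hw2, h1, hw1, _root_.one_mul]

/-- the quotient by `Z` kills `Z` -/
lemma comp_eq_one {G' : Over S} [GrpObj G'] {j : Z ⟶ G} [IsMonHom j] {p : G ⟶ G'} [IsMonHom p]
    (hp : RedSub.IsQuotient j p) {X : Over S} (z : X ⟶ Z) : (z ≫ j) ≫ p = 1 := by
  obtain ⟨-, -, -, h⟩ := hp
  have h1 : lift 1 z ≫ (G ◁ j) ≫ μ[G] = z ≫ j := by
    have h2 : lift (1 : X ⟶ G) z ≫ (G ◁ j) ≫ μ[G] = (1 : X ⟶ G) * (z ≫ j) := by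
      rw [Hom.mul_def, ← Category.assoc]
      congr 1
      apply CartesianMonoidalCategory.hom_ext <;> simp
    rw [h2, _root_.one_mul]
  have h2 := congrArg (fun t => lift (1 : X ⟶ G) z ≫ t) h.w
  simp only [lift_fst_assoc] at h2
  rw [← h1, Category.assoc, Category.assoc]
  rw [Category.assoc] at h2
  rw [← h2, MonObj.one_comp]

/-- **`G/Z` has trivial centre** -/
theorem eq_one_of_central (hG : Red.IsReductive G) (j : Z ⟶ G) (hZ : Red.IsCentre j) {R : Over S} [GrpObj R]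
    (r : R ⟶ Z) (hR : Red.IsMaximalTorus r) {G' : Over S} [GrpObj G'] (p : G ⟶ G') [IsMonHom p]
    (hp : RedSub.IsQuotient j p) (X : Over S) (g : X ⟶ G')
    (h : ∀ (X' : Over S) (x : X' ⟶ X) (h : X' ⟶ G'), (x ≫ g) * h = h * (x ≫ g)) : g = 1 := by
  have hj : IsMonHom j := hZ.1
  have hcov : Fppf.IsCov p := ⟨hp.1, hp.2.1, hp.2.2.1⟩
  obtain ⟨X', c, y, hc, hy⟩ := Fppf.exists_lift_local hcov g
  obtain ⟨t, ht⟩ := central_of_comm hG j hZ r hR y fun X'' x k => by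
    obtain ⟨z, hz⟩ := exists_of_comp_eq_one hp ((x ≫ y) * k * (x ≫ y)⁻¹ * k⁻¹) (by
      rw [MonObj.mul_comp, MonObj.mul_comp, MonObj.mul_comp, GrpObj.inv_comp, GrpObj.inv_comp, Category.assoc,
        hy]
      have h1 := h X'' (x ≫ c) (k ≫ p)
      rw [Category.assoc] at h1
      exact comm_one h1)
    exact ⟨z, hz⟩
  refine Fppf.hom_ext hc ?_
  rw [← hy, ← ht, comp_eq_one hp, MonObj.comp_one]

end

end K196.AdjCent
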