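import Groth.Agent.RedSub.H636.ClosedRoots
import Groth.Agent.Sga3B.PinComb829

/-!
# Roots which are combinations of two roots

`R'` a set of roots stable under adding elements of `R'` and of `R''`: a root `i b + j a`, `a ∈ R'`, `b ∈ R''`,
`b ≠ ± a`, `i, j ≥ 1`, is in `R'`.
-/

set_option autoImplicit false

namespace K196.Comb

open Groth.Agent.RedSub.H636.ClosedRoots

variable {ι M N : Type*} [Finite ι] [AddCommGroup M] [AddCommGroup N] [Module ℤ N]
  (P : RootPairing ι ℤ M N)

theorem mem_of_comb {R' R'' : Set ι}
    (hcl : ∀ a b c : ι, a ∈ R' → b ∈ R' → P.root a + P.root b = P.root c → c ∈ R')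
    (hmix : ∀ a b c : ι, a ∈ R' → b ∈ R'' → P.root a + P.root b = P.root c → c ∈ R')
    {a b : ι} (ha : a ∈ R') (hb : b ∈ R'') (hli : LinearIndependent ℤ ![P.root b, P.root a])
    (hred : ∀ (c d : ι) (n : ℕ), P.root c = (n : ℤ) • P.root d → n = 1) :
    ∀ (n i j : ℕ), i + j = n → i ≠ 0 → j ≠ 0 → ∀ c, i • P.root b + j • P.root a = P.root c → c ∈ R' := by
  intro n
  induction n with
  | zero =>
    intro i j hij hi
    omega
  | succ n ih =>
    intro i j hij hi hj c hc
    have hli' : ∀ p q : ℤ, p • P.root b + q • P.root a = 0 → p = 0 ∧ q = 0 := LinearIndependent.pair_iff.mp hli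
    by_cases h2 : i = 1 ∧ j = 1
    · obtain ⟨rfl, rfl⟩ := h2
      rw [one_smul, one_smul, add_comm] at hc
      exact hmix a b c ha hb hc
    obtain ⟨d, hd, hpos⟩ := exists_pairing_pos P (Multiset.replicate i b + Multiset.replicate j a) c (by
      rw [Multiset.map_add, Multiset.sum_add, Multiset.map_replicate, Multiset.map_replicate,
        Multiset.sum_replicate, Multiset.sum_replicate, hc])
    rw [Multiset.mem_add, Multiset.mem_replicate, Multiset.mem_replicate] at hd
    have hcast : ∀ (k : ℕ) (m : M), k • m = (k : ℤ) • m := fun k m => (natCast_zsmul m k).symm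
    rcases hd with ⟨-, rfl⟩ | ⟨-, rfl⟩
    · -- subtract `b`
      have hne : c ≠ d := by
        rintro rfl
        have h3 : ((i : ℤ) - 1) • P.root c + (j : ℤ) • P.root a = 0 := by
          rw [sub_smul, one_smul, ← hcast, ← hcast, sub_add_eq_add_sub, hc, sub_self]
        have := (hli' _ _ h3).2
        omega
      obtain ⟨e, he⟩ := P.root_sub_root_mem_of_pairingIn_pos hpos hne
      obtain ⟨i, rfl⟩ : ∃ i', i = i' + 1 := ⟨i - 1, by omega⟩
      have he' : i • P.root d + j • P.root a = P.root e := by
        rw [he, ← hc, add_smul, one_smul]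
        abel
      by_cases hi0 : i = 0
      · subst hi0
        rw [zero_smul, zero_add, hcast] at he'
        have := hred e a j he'.symm
        omega
      · have h3 := ih i j (by omega) hi0 hj e he'
        exact hmix e d c h3 hb (by rw [he, sub_add_cancel])
    · have hne : c ≠ d := by
        rintro rfl
        have h3 : (i : ℤ) • P.root b + ((j : ℤ) - 1) • P.root c = 0 := by
          rw [sub_smul, one_smul, ← hcast, ← hcast, ← add_sub_assoc, hc, sub_self]
        have := (hli' _ _ h3).1
        omega
      obtain ⟨e, he⟩ := P.root_sub_root_mem_of_pairingIn_pos hpos hne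
      obtain ⟨j, rfl⟩ : ∃ j', j = j' + 1 := ⟨j - 1, by omega⟩
      have he' : i • P.root b + j • P.root d = P.root e := by
        rw [he, ← hc, add_smul, one_smul]
        abel
      by_cases hj0 : j = 0
      · subst hj0
        rw [zero_smul, add_zero, hcast] at he'
        have := hred e b i he'.symm
        omega
      · have h3 := ih i j (by omega) hi hj0 e he'
        exact hcl e d c h3 ha (by rw [he, sub_add_cancel])

end K196.Comb
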