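import Groth.Agent.RedSub.K197.RadLat

/-!
# The root datum of the derived group

`N` the characters killed by the coroots; the root datum on `M/N` (same roots and coroots).
-/

set_option autoImplicit false
set_option linter.unusedSectionVars false
universe u

namespace K196.DerDat

open K197.RadLat

variable {idx M : Type} [Fintype idx] [AddCommGroup M] [Module.Free ℤ M]
    [Module.Finite ℤ M] (P : RootPairing idx ℤ M (Module.Dual ℤ M))
    (hP : P.toLinearMap = Module.Dual.eval ℤ M)
    (N : AddSubgroup M) (hN : ∀ m : M, m ∈ N ↔ ∀ a : idx, P.coroot a m = 0)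

include hN in
lemma torsionFree_quot : Module.IsTorsionFree ℤ (M ⧸ N) := by
  refine Module.IsTorsionFree.of_smul_eq_zero fun k x h => ?_
  obtain ⟨m, rfl⟩ := QuotientAddGroup.mk'_surjective _ x
  by_cases hk : k = 0
  · exact Or.inl hk
  · right
    rw [← map_zsmul] at h
    have hm : k • m ∈ N := (QuotientAddGroup.eq_zero_iff _).1 h
    refine (QuotientAddGroup.eq_zero_iff _).2 ((hN m).2 fun a => ?_)
    have h1 := (hN _).1 hm a
    rw [map_zsmul] at h1
    exact (smul_eq_zero.1 h1).resolve_left hk

include hN in
lemma free_quot : Module.Free ℤ (M ⧸ N) := by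
  have := torsionFree_quot P N hN
  infer_instance

/-- the coroots on `M/N` -/
def cor (a : idx) : Module.Dual ℤ (M ⧸ N) :=
  (QuotientAddGroup.lift N (P.coroot a).toAddMonoidHom
    (fun m hm => (hN m).1 hm a)).toIntLinearMap

lemma cor_mk (a : idx) (m : M) : cor P N hN a (QuotientAddGroup.mk' N m) = P.coroot a m := rfl

include hP in
lemma pair_eq (m : M) (a : idx) : P.toLinearMap m (P.coroot a) = P.coroot a m := by
  rw [hP]
  rfl

include hP hN in
lemma root_inj {a b : idx} (h : QuotientAddGroup.mk' N (P.root a) = QuotientAddGroup.mk' N (P.root b)) :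
    a = b := by
  apply P.root.injective
  have h1 : P.root a - P.root b ∈ N := by
    refine (QuotientAddGroup.eq_zero_iff _).1 ?_
    change QuotientAddGroup.mk' N (P.root a - P.root b) = 0
    rw [map_sub, h, sub_self]
  exact sub_eq_zero.1 (eq_zero_of_mem_QQ N hN hP
    (sub_mem (root_mem_QQ P a) (root_mem_QQ P b)) h1)

/-- the root datum on `M/N` -/
def quot : RootPairing idx ℤ (M ⧸ N) (Module.Dual ℤ (M ⧸ N)) where
  toLinearMap := Module.Dual.eval ℤ (M ⧸ N)
  isPerfPair_toLinearMap := by
    have := free_quot P N hN
    infer_instance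
  root := ⟨fun a => QuotientAddGroup.mk' N (P.root a), fun a b h => root_inj P hP N hN h⟩
  coroot := ⟨fun a => cor P N hN a, fun a b h => by
    apply P.coroot.injective
    ext m
    have h1 := DFunLike.congr_fun h (QuotientAddGroup.mk' N m)
    exact h1⟩
  root_coroot_two a := by
    have h1 := P.root_coroot_two a
    rw [pair_eq P hP] at h1
    exact h1
  reflectionPerm := P.reflectionPerm
  reflectionPerm_root a b := by
    have h1 := P.reflectionPerm_root a b
    rw [pair_eq P hP] at h1
    change QuotientAddGroup.mk' N (P.root b) - P.coroot a (P.root b) • QuotientAddGroup.mk' N (P.root a) =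
      QuotientAddGroup.mk' N (P.root (P.reflectionPerm a b))
    rw [← map_zsmul, ← map_sub, h1]
  reflectionPerm_coroot a b := by
    have h1 := P.reflectionPerm_coroot a b
    rw [pair_eq P hP] at h1
    ext x
    obtain ⟨m, rfl⟩ := QuotientAddGroup.mk'_surjective _ x
    exact DFunLike.congr_fun h1 m

@[simp] lemma quot_root (a : idx) : (quot P hP N hN).root a = QuotientAddGroup.mk' N (P.root a) := rfl

lemma quot_coroot (a : idx) (m : M) :
    (quot P hP N hN).coroot a (QuotientAddGroup.mk' N m) = P.coroot a m := rfl

lemma quot_refl (a : idx) (m : M) : (quot P hP N hN).reflection a (QuotientAddGroup.mk' N m) =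
    QuotientAddGroup.mk' N (P.reflection a m) := by
  rw [RootPairing.reflection_apply, RootPairing.reflection_apply, map_sub, map_zsmul]
  congr 2
  change P.coroot a m = P.toLinearMap m (P.coroot a)
  rw [pair_eq P hP]

include hN in
lemma finrank_quot : Module.finrank ℤ M = Module.finrank ℤ (M ⧸ N) + Module.finrank ℤ N := by
  have h := Submodule.finrank_quotient_add_finrank (AddSubgroup.toIntSubmodule N)
  exact h.symm

end K196.DerDat
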