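import Groth.Agent.RedSub.K196.SecProd
import Groth.Agent.RedSub.K196.DerDat
import Groth.Agent.RedSub.K197.SplitChar
import Groth.Agent.RedSub.K197.DSExact
import Groth.Agent.RedSub.K197.QuotPts
import Groth.Agent.RedSub.K197.RadSplit
import Groth.Agent.Sga3B.MaxTorNear900
import Groth.Agent.Sga3B.PinTransport

/-!
# The derived group of a split reductive group is split
-/

set_option autoImplicit false
set_option linter.unusedSectionVars false
universe u

open CategoryTheory MonoidalCategory CartesianMonoidalCategory MonObj GrpObj AlgebraicGeometry Limits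

namespace K196.DerSplit

open K197.SecKer Groth.Agent.Sga3B K197.SplitChar

lemma isMonHom_of_eq {C : Type*} [Category C] [CartesianMonoidalCategory C] {A B E : C} [GrpObj A]
    [GrpObj B] [GrpObj E] {u : A ⟶ B} {p : B ⟶ E} {i : A ⟶ E} [IsMonHom p] [Mono p] [IsMonHom i]
    (h : u ≫ p = i) : IsMonHom u := by
  apply Pts.isMonHom_of_points
  intro X x y
  have h1 : ((x ≫ u) * (y ≫ u)) ≫ p = (x ≫ i) * (y ≫ i) := by
    rw [MonObj.mul_comp, Category.assoc, Category.assoc, h]
  have h2 : ((x * y) ≫ u) ≫ p = (x ≫ i) * (y ≫ i) := by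
    rw [Category.assoc, h, MonObj.mul_comp]
  rw [← cancel_mono p, h1, h2]

variable {S : Scheme.{u}} {G D' : Over S} [GrpObj G] [GrpObj D'] (D : Red.SplitRed G)
  {d : D' ⟶ G} [IsMonHom d] (N : AddSubgroup D.M)
  (hN : ∀ m : D.M, m ∈ N ↔ ∀ a : D.idx, D.P.coroot a m = 0)
  {f : G ⟶ Red.DS S N} (hf : IsChar D N f) (hk : AlgGrp.IsKernel d f)

/-- the map of tori -/
noncomputable def tau : Red.DS S (D.M ⧸ N) ⟶ D.T :=
  Red.DSmap S (QuotientAddGroup.mk' N) ≫ D.split.inv.hom.hom

instance isMonHom_tau : IsMonHom (tau D N) := by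
  have h1 : IsMonHom (Red.DSmap S (QuotientAddGroup.mk' N)) := BorSpan613.isMonHom_DSmap S _
  have h2 : IsMonHom D.split.inv.hom.hom := inferInstance
  exact inferInstanceAs (IsMonHom (_ ≫ _))

lemma split_inv_hom : D.split.inv.hom.hom ≫ D.split.hom.hom.hom = 𝟙 _ := by
  have h5 := congrArg (fun f => f.hom.hom) D.split.inv_hom_id
  exact h5

lemma split_hom_inv : D.split.hom.hom.hom ≫ D.split.inv.hom.hom = 𝟙 _ := by
  have h5 := congrArg (fun f => f.hom.hom) D.split.hom_inv_id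
  exact h5

lemma tau_split : tau D N ≫ D.split.hom.hom.hom = Red.DSmap S (QuotientAddGroup.mk' N) := by
  rw [tau, Category.assoc, split_inv_hom, Category.comp_id]

include hf in
lemma tau_f : (tau D N ≫ D.i) ≫ f = 1 := by
  rw [Category.assoc, hf.torus, ← Category.assoc, tau_split, BorSpan613.DSmap_comp_DSmap]
  apply K197.DSExact.DSmap_eq_one
  intro m
  exact (QuotientAddGroup.eq_zero_iff (m : D.M)).2 m.2

include hf hk in
theorem exists_iT : ∃ i' : Red.DS S (D.M ⧸ N) ⟶ D', i' ≫ d = tau D N ≫ D.i ∧ IsMonHom i' := by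
  obtain ⟨i', hi'⟩ := exists_lift_of_isKernel hk _ (tau_f D N hf)
  have hm := mono_of_isKernel hk
  have h1 : IsMonHom D.i := D.maximalTorus.1
  exact ⟨i', hi', isMonHom_of_eq hi'⟩

include hf hk in
/-- `T'` is the intersection of `T` and `D'` -/
theorem isPullback_tau {i' : Red.DS S (D.M ⧸ N) ⟶ D'} (hi' : i' ≫ d = tau D N ≫ D.i) :
    IsPullback (tau D N) i' D.i d := by
  have hm := mono_of_isKernel hk
  have hmi : Mono D.i := D.maximalTorus.2.1
  have hmt : Mono (tau D N) := by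
    have h1 : Mono (Red.DSmap S (QuotientAddGroup.mk' N)) :=
      BorSpan613.mono_DSmap S _ (QuotientAddGroup.mk'_surjective N)
    have h2 : Mono D.split.inv.hom.hom := ⟨fun x y h => by
      have h3 := congrArg (· ≫ D.split.hom.hom.hom) h
      simp only [Category.assoc, split_inv_hom, Category.comp_id] at h3
      exact h3⟩
    exact mono_comp _ _
  refine K197.QuotPts.isPullback_of_pts hi'.symm (fun X x y hxy => ?_)
    (fun X a a' h _ => (cancel_mono (tau D N)).1 h)
  have h1 : x ≫ D.i ≫ f = 1 := by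
    rw [← Category.assoc, hxy, Category.assoc, comp_eq_one_of_isKernel hk, MonObj.comp_one]
  rw [hf.torus, ← Category.assoc] at h1
  obtain ⟨z, hz⟩ := K197.DSExact.exists_lift N.subtype (QuotientAddGroup.mk' N)
    (QuotientAddGroup.mk'_surjective N)
    (fun m hm => ⟨⟨m, (QuotientAddGroup.eq_zero_iff m).1 hm⟩, rfl⟩) _ h1
  have h2 : z ≫ tau D N = x := by
    rw [tau, ← Category.assoc, hz, Category.assoc, split_hom_inv, Category.comp_id]
  refine ⟨z, h2, ?_⟩
  rw [← cancel_mono d, Category.assoc, hi', ← Category.assoc, h2, hxy]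

include hf hk in
theorem exists_u (a : D.idx) : ∃ v : Red.Ga S ⟶ D', v ≫ d = D.u a :=
  exists_lift_of_isKernel hk _ (hf.root a)

include hk in
/-- root homomorphisms -/
theorem isRootHom_u {i' : Red.DS S (D.M ⧸ N) ⟶ D'} (hi' : i' ≫ d = tau D N ≫ D.i) (a : D.idx)
    {v : Red.Ga S ⟶ D'} (hv : v ≫ d = D.u a) (hsep : IsSeparated d.left) :
    Red.IsRootHom i' (Red.chi S (QuotientAddGroup.mk' N (D.P.root a))) v := by
  have hm := mono_of_isKernel hk
  obtain ⟨h1, h2, h3⟩ := D.rootHom a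
  refine ⟨isMonHom_of_eq hv, ?_, ?_⟩
  · have h4 : IsClosedImmersion (v.left ≫ d.left) := by
      rw [← Over.comp_left, hv]
      exact h2
    exact IsClosedImmersion.of_comp v.left d.left
  · intro X t x
    obtain ⟨y, hy, hy'⟩ := h3 X (t ≫ tau D N) x
    refine ⟨y, ?_, ?_⟩
    · rw [← cancel_mono d, Category.assoc, hv, hy, MonObj.mul_comp, MonObj.mul_comp,
        GrpObj.inv_comp, Category.assoc, Category.assoc, Category.assoc, hi', hv]
    · rw [hy', Category.assoc, ← Category.assoc (tau D N), tau_split, PinTransport.DSmap_chi]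

include hf hk in
/-- the reflections -/
theorem exists_refl {i' : Red.DS S (D.M ⧸ N) ⟶ D'} (hi' : i' ≫ d = tau D N ≫ D.i) (a : D.idx)
    (hP : D.P.toLinearMap = Module.Dual.eval ℤ D.M) :
    ∃ n : 𝟙_ (Over S) ⟶ D', ∀ (X : Over S) (t : X ⟶ Red.DS S (D.M ⧸ N)),
    (toUnit X ≫ n) * (t ≫ i') * (toUnit X ≫ n)⁻¹ =
      t ≫ Red.DSmap S ((DerDat.quot D.P hP N hN).reflection a).toLinearMap.toAddMonoidHom ≫ i' := by
  have hm := mono_of_isKernel hk
  have h1 : IsMonHom D.i := D.maximalTorus.1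
  obtain ⟨σ, hσ, hσf⟩ := hf.sec
  have hfm : IsMonHom f := hf.hom
  obtain ⟨n, hn⟩ := D.refl a
  let c : 𝟙_ (Over S) ⟶ D.T := (n ≫ f) ≫ σ
  have hcomm : ∀ (X : Over S) (x y : X ⟶ D.T), x * y = y * x := fun X x y =>
    MaxTorNear900.mul_comm_of_isTorus D.maximalTorus.2.2.1 X x y
  have h2 : (n * (c ≫ D.i)⁻¹) ≫ f = 1 := by
    refine (MonObj.mul_comp n (c ≫ D.i)⁻¹ f).trans ?_
    have h4 : (c ≫ D.i)⁻¹ ≫ f = ((c ≫ D.i) ≫ f)⁻¹ := GrpObj.inv_comp (c ≫ D.i) f
    rw [h4]
    have h3 : (c ≫ D.i) ≫ f = n ≫ f := by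
      change ((((n ≫ f) ≫ σ) ≫ D.i) ≫ f) = _
      rw [Category.assoc, Category.assoc, hσf, Category.comp_id]
    rw [h3, mul_inv_cancel]
  obtain ⟨n', hn'⟩ := exists_lift_of_isKernel hk _ h2
  refine ⟨n', fun X t => ?_⟩
  rw [← cancel_mono d, MonObj.mul_comp, MonObj.mul_comp, GrpObj.inv_comp, Category.assoc,
    Category.assoc, hn', hi']
  have h4 : toUnit X ≫ (n * (c ≫ D.i)⁻¹) = (toUnit X ≫ n) * ((toUnit X ≫ c) ≫ D.i)⁻¹ := by
    rw [MonObj.comp_mul, GrpObj.comp_inv, ← Category.assoc (toUnit X) c D.i]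
  rw [h4, ← Category.assoc t]
  have h5 := hn X (t ≫ tau D N)
  have h6 : ((toUnit X ≫ c) ≫ D.i)⁻¹ * ((t ≫ tau D N) ≫ D.i) * ((toUnit X ≫ c) ≫ D.i) =
      (t ≫ tau D N) ≫ D.i := by
    rw [← GrpObj.inv_comp, ← MonObj.mul_comp, ← MonObj.mul_comp, hcomm X _ (t ≫ tau D N),
      inv_mul_cancel_right]
  have h7 : (toUnit X ≫ n) * ((toUnit X ≫ c) ≫ D.i)⁻¹ * ((t ≫ tau D N) ≫ D.i) *
      ((toUnit X ≫ n) * ((toUnit X ≫ c) ≫ D.i)⁻¹)⁻¹ =
      (toUnit X ≫ n) * (((toUnit X ≫ c) ≫ D.i)⁻¹ * ((t ≫ tau D N) ≫ D.i) *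
        ((toUnit X ≫ c) ≫ D.i)) * (toUnit X ≫ n)⁻¹ := by group
  rw [h7, h6, h5]
  have h8 : (QuotientAddGroup.mk' N).comp (D.P.reflection a).toLinearMap.toAddMonoidHom =
      (((DerDat.quot D.P hP N hN).reflection a).toLinearMap.toAddMonoidHom).comp
        (QuotientAddGroup.mk' N) := by
    ext m
    exact (DerDat.quot_refl D.P hP N hN a m).symm
  have h9 : tau D N ≫ D.split.hom.hom.hom ≫
      Red.DSmap S (D.P.reflection a).toLinearMap.toAddMonoidHom ≫ D.split.inv.hom.hom =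
      Red.DSmap S ((DerDat.quot D.P hP N hN).reflection a).toLinearMap.toAddMonoidHom ≫
        tau D N := by
    rw [← Category.assoc, tau_split, tau, ← Category.assoc, ← Category.assoc,
      BorSpan613.DSmap_comp_DSmap, BorSpan613.DSmap_comp_DSmap, h8]
  calc (t ≫ tau D N) ≫ D.split.hom.hom.hom ≫
        Red.DSmap S (D.P.reflection a).toLinearMap.toAddMonoidHom ≫ D.split.inv.hom.hom ≫ D.i
      = t ≫ (tau D N ≫ D.split.hom.hom.hom ≫
        Red.DSmap S (D.P.reflection a).toLinearMap.toAddMonoidHom ≫ D.split.inv.hom.hom) ≫ D.i := by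
        simp only [Category.assoc]
    _ = _ := by
        rw [h9]
        simp only [Category.assoc]
        rw [hi']

include hN hf hk in
theorem dim_fibre [IsAffineHom D'.hom] [LocallyOfFiniteType D'.hom] (s : S) :
    topologicalKrullDim ↥(Red.geomFibre s D').left =
      ((Module.finrank ℤ (D.M ⧸ N) + Fintype.card D.idx : ℕ) : WithBot ℕ∞) := by
  obtain ⟨σ, hσ, hσf⟩ := hf.sec
  have hfm := hf.hom
  have h1 : IsMonHom D.i := D.maximalTorus.1
  have h2 : IsAffineHom (Red.DS S N).hom :=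
    Groth.Agent.RedSub.H654.LocChart.isAffineHom_DS S N
  have hfree : Module.Free ℤ N := inferInstanceAs (Module.Free ℤ (AddSubgroup.toIntSubmodule N))
  have hfin : Module.Finite ℤ N :=
    inferInstanceAs (Module.Finite ℤ (AddSubgroup.toIntSubmodule N))
  have h3 : LocallyOfFiniteType (Red.DS S N).hom := by
    have h5 := TorusAlgClosed.smooth_of_isTorus (K197.RadSplit.isTorus_DS S N)
    infer_instance
  refine SecProd.dim_ker f (σ ≫ D.i) (by rw [Category.assoc, hσf]) hk ⟨η[D']⟩ s _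
    (Module.finrank ℤ N) ?_ (SecProd.dim_geomFibre_DS s N)
  rw [D.dim_fibre s, DerDat.finrank_quot D.P N hN]
  congr 1
  omega

include hN hf hk in
/-- **The derived group of a split reductive group is split**, given that `D'` is reductive and that
`T'` is a maximal torus of `D'`. -/
theorem exists_split (hsep : IsClosedImmersion d.left) (hred : Red.IsReductive D')
    (hmax : ∀ (i' : Red.DS S (D.M ⧸ N) ⟶ D'), i' ≫ d = tau D N ≫ D.i → Red.IsMaximalTorus i') :
    ∃ (Dd : Red.SplitRed D') (τ : Dd.T ⟶ D.T) (eidx : Dd.idx ≃ D.idx) (em : Dd.M ≃+ D.M ⧸ N),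
      τ ≫ D.i = Dd.i ≫ d ∧
      τ ≫ D.split.hom.hom.hom =
        Dd.split.hom.hom.hom ≫ Red.DSmap S (em.symm.toAddMonoidHom.comp (QuotientAddGroup.mk' N)) ∧
      (∀ a' : Dd.idx, em (Dd.P.root a') = QuotientAddGroup.mk' N (D.P.root (eidx a'))) ∧
      (∀ a' : Dd.idx, Dd.u a' ≫ d = D.u (eidx a')) := by
  obtain ⟨i', hi', hi'm⟩ := exists_iT D N hf hk
  choose v hv using exists_u D N hf hk
  have haff : IsAffineHom D'.hom := hred.1
  have hsm : Smooth D'.hom := hred.2.1
  have hfree : Module.Free ℤ (D.M ⧸ N) := DerDat.free_quot D.P N hN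
  have hfin : Module.Finite ℤ (D.M ⧸ N) := K197.RadLat.finite_quot N
  let Dd : Red.SplitRed D' :=
    { T := Red.DS S (D.M ⧸ N)
      i := i'
      M := D.M ⧸ N
      idx := D.idx
      P := DerDat.quot D.P D.pairing_eq N hN
      pairing_eq := rfl
      u := v
      reductive := hred
      maximalTorus := hmax i' hi'
      split := Iso.refl _
      rootHom := fun a => by
        have h1 := isRootHom_u D N hk hi' a (hv a) inferInstance
        have h2 : (Iso.refl (Grp.mk (Red.DS S (D.M ⧸ N)))).hom.hom.hom ≫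
            Red.chi S ((DerDat.quot D.P D.pairing_eq N hN).root a) =
            Red.chi S (QuotientAddGroup.mk' N (D.P.root a)) := Category.id_comp _
        rw [h2]
        exact h1
      refl := fun a => by
        obtain ⟨n, hn⟩ := exists_refl D N hN hf hk hi' a D.pairing_eq
        refine ⟨n, fun X t => (hn X t).trans ?_⟩
        have h3 : (Iso.refl (Grp.mk (Red.DS S (D.M ⧸ N)))).hom.hom.hom = 𝟙 _ := rfl
        have h4 : (Iso.refl (Grp.mk (Red.DS S (D.M ⧸ N)))).inv.hom.hom = 𝟙 _ := rfl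
        rw [h3, h4, Category.id_comp, Category.id_comp]
      dim_fibre := dim_fibre D N hN hf hk }
  refine ⟨Dd, tau D N, Equiv.refl _, AddEquiv.refl _, hi'.symm, ?_, fun a => rfl, fun a => hv a⟩
  rw [tau_split]
  exact (Category.id_comp _).symm

end K196.DerSplit
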