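import Groth.Agent.RedSub.H635.Uniq

/-!
# Root groups in a subgroup over a connected base: chart form
-/

set_option autoImplicit false
set_option linter.unusedSectionVars false
universe u

open CategoryTheory MonoidalCategory CartesianMonoidalCategory MonObj GrpObj AlgebraicGeometry Limits

namespace K196.Dict

open Groth.Agent.Sga3B Groth.Agent.Sga3B.Cell Groth.Agent.Sga3B.Cell.Datum Groth.Agent.Sga3B.PinMod
  Groth.Agent.RedSub Groth.Agent.RedSub.H635 Uniq SchNbd Wt Loc DSPts GaPts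

variable {S : Scheme.{u}} {G H : Over S} [GrpObj G] [GrpObj H] (D : Red.SplitRed G) (i : H ⟶ G) [IsMonHom i]

lemma mem_uu {a : D.idx} (h : ∃ v : Red.Ga S ⟶ H, v ≫ i = D.u a) {R : Type u} [CommRing R]
    {s : Spec (CommRingCat.of R) ⟶ S} (c : Chart G s) {C : Type u} [CommRing C] [Algebra R C] (x : C) :
    (sub c i).mem ((c.datum D).uu a C x) := by
  obtain ⟨v, hv⟩ := h
  rw [mem_sub, c.pts_uu]
  exact ⟨gaPt _ _ ≫ v, by rw [Category.assoc, hv]⟩

lemma E_eq_empty [ConnectedSpace S] [IsImmersion i.left] [Smooth H.hom] (t : D.T ⟶ H) (ht : t ≫ i = D.i)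
    {a : D.idx} (h : ¬ ∃ v : Red.Ga S ⟶ H, v ≫ i = D.u a) : E D i a = ∅ := by
  rcases E_eq D i t ht a with h1 | h1
  · exact h1
  · exact absurd (exists_lift_u D i t ht a h1) h

lemma exists_lin [ConnectedSpace S] [IsImmersion i.left] [Smooth H.hom] (t : D.T ⟶ H) (ht : t ≫ i = D.i)
    {a : D.idx} (h : ¬ ∃ v : Red.Ga S ⟶ H, v ≫ i = D.u a) {R : Type u} [CommRing R]
    (s : Spec (CommRingCat.of R) ⟶ S) [IsOpenImmersion s] (c : Chart G s) (N : Nbd (sub c i)) :
    ∃ f ∈ N.J 1, IsW (c.datum D) ((c.datum D).root a) f ∧ lin (c.datum D) a f = 1 :=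
  one_mem_aI_of_E D i t ht a (E_eq_empty D i t ht h) s c N

lemma exists_of_nonempty [ConnectedSpace S] [IsImmersion i.left] [Smooth H.hom] (t : D.T ⟶ H) (ht : t ≫ i = D.i)
    {a : D.idx} (h : (E D i a).Nonempty) : ∃ v : Red.Ga S ⟶ H, v ≫ i = D.u a := by
  obtain ⟨σ, hσ⟩ := h
  exact (exists_lift_iff D i t ht a σ).mpr hσ

/-- products of root group elements and torus elements of the subgroup -/
lemma mem_cell (t : D.T ⟶ H) (ht : t ≫ i = D.i) {R : Type u} [CommRing R]
    {s : Spec (CommRingCat.of R) ⟶ S} (c : Chart G s) {C : Type u} [CommRing C] [Algebra R C]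
    (L : List D.idx) (y : D.idx → C) (τ : TPt D.M C)
    (h : ∀ a, y a ≠ 0 → ∃ v : Red.Ga S ⟶ H, v ≫ i = D.u a) :
    (sub c i).mem ((c.datum D).cell L y τ) := by
  apply Germ.mem_cell (D := c.datum D) (fun y => hT_sub D i c t ht y)
  intro a
  by_cases ha : y a = 0
  · rw [ha, uu_zero]
    exact (sub c i).one_mem
  · exact mem_uu D i (h a ha) c _

end K196.Dict
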