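import Groth.Agent.RedSub.H641.Germ

/-!
# Properties of the points of a smooth group with connected fibres which may be checked on a germ

A property of the points of `H` stable under base change, local for the fppf topology and stable under products holds for
all points as soon as it holds for a flat germ meeting all the fibres.
-/

set_option autoImplicit false
universe u

open CategoryTheory MonoidalCategory CartesianMonoidalCategory MonObj GrpObj AlgebraicGeometry Limits

namespace K196.GermProd

open Groth.Agent Groth.Agent.Sga3C.CWGroup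

theorem forall_of_germ {S : Scheme.{u}} {H : Over S} [GrpObj H] [Smooth H.hom]
    (hH : _root_.RedSub.HasConnectedFibres H) (P : ∀ (X : Over S), (X ⟶ H) → Prop)
    (hbc : ∀ {X Y : Over S} (f : Y ⟶ X) (y : X ⟶ H), P X y → P Y (f ≫ y))
    (hloc : ∀ {X Y : Over S} (f : Y ⟶ X) (y : X ⟶ H), Surjective f.left → Flat f.left →
      LocallyOfFinitePresentation f.left → P Y (f ≫ y) → P X y)
    (hmul : ∀ {X : Over S} (y y' : X ⟶ H), P X y → P X y' → P X (y * y'))
    {W : Over S} (q : W ⟶ H) [Flat q.left] [LocallyOfFinitePresentation q.left]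
    (hW : ∀ s : S, ∃ z : W.left, W.hom z = s) (hq : P W q) {X : Over S} (y : X ⟶ H) : P X y := by
  have := RedSub.H641.Germ.geomIrr_of_conn hH
  let w : W ⟶ 𝟙_ (Over S) ⊗ H := lift (toUnit W) q
  have hw : w = q ≫ (λ_ H).inv := by
    ext1
    · exact toUnit_unique _ _
    · rw [lift_snd, Category.assoc, leftUnitor_inv_snd, Category.comp_id]
  have hiso : IsIso (λ_ H).inv.left := inferInstanceAs (IsIso ((Over.forget S).map (λ_ H).inv))
  have hwl : w.left = q.left ≫ (λ_ H).inv.left := by rw [hw]; rfl
  have h1 : Flat w.left := by rw [hwl]; infer_instance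
  have h2 : LocallyOfFinitePresentation w.left := by rw [hwl]; infer_instance
  have hsurj : Surjective (m w).left := by
    apply surjective_m w
    intro t
    obtain ⟨z, hz⟩ := hW t
    refine ⟨z, ?_⟩
    have e1 : w ≫ fst (𝟙_ (Over S)) H = toUnit W := lift_fst _ _
    rw [e1]
    exact hz
  obtain ⟨hflat, hlfp⟩ := flat_m w
  have hq' : w ≫ snd (𝟙_ (Over S)) H = q := lift_snd _ _
  have hZ : P _ (m w ≫ snd (𝟙_ (Over S)) H) := by
    have e1 : m w ≫ snd (𝟙_ (Over S)) H = (z1 w ≫ q) * (z2 w ≫ q) := by
      have e2 : m w ≫ snd (𝟙_ (Over S)) H =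
          (z1 w ≫ w ≫ snd (𝟙_ (Over S)) H) * (z2 w ≫ w ≫ snd (𝟙_ (Over S)) H) := lift_snd _ _
      rw [e2, hq']
    rw [e1]
    exact hmul _ _ (hbc _ _ hq) (hbc _ _ hq)
  have h3 : P _ (snd (𝟙_ (Over S)) H) := hloc (m w) _ hsurj hflat hlfp hZ
  have h4 : lift (toUnit X) y ≫ snd (𝟙_ (Over S)) H = y := lift_snd _ _
  rw [← h4]
  exact hbc _ _ h3

end K196.GermProd
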