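import Groth.Agent.RedSub.H635.Germ
import Groth.Agent.RedSub.H633.SortedCell

/-!
# Coordinates of points of a subgroup in `U_lam`

`H` a subgroup functor containing the torus with a smooth neighbourhood of the unit section, `Rs` the roots of `H`
(the root groups of the roots in `Rs` are in `H`, the others are not tangent to `H`).  If a point of `H` is a product
of root group elements of positive weight then its coordinates outside `Rs` vanish.
-/

set_option autoImplicit false
universe u

namespace K196.Inter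

open Groth.Agent.Sga3B.Cell Groth.Agent.Sga3B.Cell.Datum Groth.Agent.Sga3B
open Groth.Agent.RedSub.H635 Groth.Agent.RedSub.H633.SortedCell
open ConjCoact Wt Loc Polynomial LaurentPolynomial

variable {R : Type u} [CommRing R]

/-- Lifting along nilpotent surjections for étale algebras. -/
theorem exists_etale_lift {B₀ E T C : Type u} [CommRing B₀] [Algebra R B₀] [CommRing E] [Algebra R E]
    [CommRing T] [Algebra R T] [CommRing C] [Algebra R C] (j : B₀ →ₐ[R] E) (hj : (j : B₀ →+* E).Etale)
    (φ : T →ₐ[R] C) (hφ : Function.Surjective φ) (hker : IsNilpotent (RingHom.ker (φ : T →+* C)))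
    (b : B₀ →ₐ[R] T) (g : E →ₐ[R] C) (h : g.comp j = φ.comp b) :
    ∃ v : E →ₐ[R] T, v.comp j = b ∧ φ.comp v = g := by
  let _ : Algebra B₀ E := (j : B₀ →+* E).toAlgebra
  let _ : Algebra B₀ T := (b : B₀ →+* T).toAlgebra
  let _ : Algebra B₀ C := ((φ.comp b) : B₀ →+* C).toAlgebra
  have : Algebra.Etale B₀ E := hj
  let g' : E →ₐ[B₀] C := { (g : E →+* C) with
    commutes' := fun f => congrArg (fun k : B₀ →ₐ[R] C => k f) h }
  let φ' : T →ₐ[B₀] C := { (φ : T →+* C) with commutes' := fun f => rfl }
  let v : E →ₐ[B₀] T := Algebra.FormallySmooth.liftOfSurjective g' φ' hφ hker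
  have hv : ∀ z, φ (v z) = g z := fun z =>
    Algebra.FormallySmooth.liftOfSurjective_apply g' φ' hφ hker z
  have hvj : ∀ z, v (j z) = b z := fun z => v.commutes z
  refine ⟨{ (v : E →+* T) with commutes' := fun r => ?_ }, ?_, ?_⟩
  · change v (algebraMap R E r) = _
    rw [← j.commutes r, hvj, b.commutes]
  · exact AlgHom.ext hvj
  · exact AlgHom.ext hv

variable {A : Type u} [CommRing A] [Algebra R A] [PtGrp R A] {D : Datum R A} {H : Sub R A} (N : Nbd H)
variable {B : Type u} [CommRing B] [Algebra R B]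

/-- A point over `B[X]` which is in the subgroup over `B[X, X⁻¹]` and trivial at `X = 0` lies in the
neighbourhood of the unit modulo all powers of `X`. -/
theorem exists_desc_trunc (c : Pt R A B[X]) (hmem : H.mem (Pt.map (lau R B) c))
    (h0 : Pt.map (pev R B 0) c = 1) (n : ℕ) (hn : n ≠ 0) :
    ∃ b : N.B →ₐ[R] TQ B n, b.comp N.β = (tmk R B n).comp c.hom := by
  have h0' : ∀ f, (c.hom f).eval 0 = algebraMap R B (e1 R A f) := by
    intro f
    have h1 := congrArg (fun k : Pt R A B => k.hom f) h0
    exact h1.trans (one_hom_apply f)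
  have hred : ∀ f, tred R B hn (tmk R B n (c.hom f)) = algebraMap R B (e1 R A f) := by
    intro f
    rw [tred_tmk, h0']
  have hunit : IsUnit (tmk R B n (c.hom N.g)) := by
    have h1 : IsUnit (tred R B hn (tmk R B n (c.hom N.g))) := by
      rw [hred]
      exact N.e1_g.map _
    obtain ⟨w, hw⟩ := h1
    obtain ⟨z, hz⟩ := tred_surjective R B hn ((w⁻¹ : Bˣ) : B)
    have h2 : IsNilpotent (tmk R B n (c.hom N.g) * z - 1) := by
      obtain ⟨m, hm⟩ := tred_ker_nilpotent R B hn
      refine ⟨m, ?_⟩
      have h3 : tmk R B n (c.hom N.g) * z - 1 ∈ RingHom.ker (tred R B hn : TQ B n →+* B) := by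
        rw [RingHom.mem_ker]
        change tred R B hn (_ * z - 1) = 0
        rw [map_sub, map_mul, hz, map_one, ← hw, Units.mul_inv, sub_self]
      have h4 := Ideal.pow_mem_pow h3 m
      rw [hm] at h4
      simpa using h4
    have h5 : IsUnit (tmk R B n (c.hom N.g) * z) := isUnit_of_sub_nilpotent isUnit_one h2
    exact isUnit_of_mul_isUnit_left h5
  refine N.exists_desc ((tmk R B n).comp c.hom) hunit ?_
  intro f hf
  -- localise at the function `g`
  let W := Localization.Away (lau R B (c.hom N.g))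
  let ψ : B[T;T⁻¹] →ₐ[R] W := IsScalarTower.toAlgHom R B[T;T⁻¹] W
  have h1 : H.mem (Pt.map ψ (Pt.map (lau R B) c)) := H.nat ψ hmem
  obtain ⟨b, hb⟩ := N.lift _ h1 (IsLocalization.Away.algebraMap_isUnit (S := W) (lau R B (c.hom N.g)))
  have h2 : ψ (lau R B (c.hom f)) = 0 := by
    have h3 := congrArg (fun k : A →ₐ[R] W => k f) hb
    change b (N.β f) = ψ (lau R B (c.hom f)) at h3
    rw [← h3, hf, map_zero]
  obtain ⟨⟨_, m, rfl⟩, hm⟩ := (IsLocalization.map_eq_zero_iff (Submonoid.powers (lau R B (c.hom N.g))) W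
    (lau R B (c.hom f))).1 h2
  have h3 : (c.hom N.g) ^ m * c.hom f = 0 := by
    apply lau_injective (R := R)
    rw [map_mul, map_pow, map_zero]
    exact hm
  have h4 := congrArg (tmk R B n) h3
  rw [map_mul, map_pow, map_zero] at h4
  exact (hunit.pow m).mul_right_eq_zero.1 h4

/-- **Coordinates outside the roots of the subgroup vanish.** -/
theorem coord_eq_zero_sorted (hG : D.Good) (lam : D.M →+ ℤ) (hlam : ∀ a, lam (D.root a) ≠ 0) {L : List D.idx}
    (hL : Sorted D (fun a => lam (D.root a)) L)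
    (hT : ∀ {C : Type u} [CommRing C] [Algebra R C] (t : TPt D.M C), H.mem (D.i C t))
    (Rs : D.idx → Prop)
    (hin : ∀ b, Rs b → ∀ {C : Type u} [CommRing C] [Algebra R C] (x : C), H.mem (D.uu b C x))
    (hout : ∀ b, ¬ Rs b → ∃ f ∈ N.J 1, IsW D (D.root b) f ∧ lin D b f = 1)
    {y : D.idx → B} (hy : ∀ a, lam (D.root a) ≤ 0 → y a = 0) (hmem : H.mem (D.cell L y 1)) :
    ∀ b, ¬ Rs b → y b = 0 := by
  obtain ⟨E, _, _, j, x, t, e, hj, hx, hcell, he⟩ := Germ.exists_germ N hG hT Rs hin hout L hL.nodup hL.mem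
  let c : Pt R A B[X] := D.cell L (fun a => Polynomial.C (y a) * X ^ (lam (D.root a)).toNat) 1
  have hc1 : Pt.map (lau R B) c = D.i _ (D.cochar lam) * Pt.map (lC R B) (D.cell L y 1) *
      (D.i _ (D.cochar lam))⁻¹ := by
    have h1 := lau_cell (D := D) (L := L) (k := fun a => lam (D.root a)) (θ := D.cochar lam)
      (fun a => D.ch_cochar lam (D.root a)) (y := y) (fun a ha => hy a ha.le) 1
    rw [map_one] at h1
    exact h1
  have hcm : H.mem (Pt.map (lau R B) c) := by
    rw [hc1]
    exact H.mul_mem (H.mul_mem (hT _) (H.nat _ hmem)) (H.inv_mem (hT _))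
  have hc0 : Pt.map (pev R B 0) c = 1 := by
    have h1 := D.eval0_cell L (k := fun a => lam (D.root a)) (y := y) hy 1
    rw [map_one, map_one] at h1
    exact h1
  intro b hb
  -- the truncation order
  obtain ⟨n, hn⟩ : ∃ n : ℕ, (lam (D.root b)).toNat < n := ⟨_, Nat.lt_succ_self _⟩
  have hn0 : n ≠ 0 := by omega
  obtain ⟨β', hβ'⟩ := exists_desc_trunc N c hcm hc0 n hn0
  obtain ⟨v, hv, -⟩ := exists_etale_lift j hj (tred R B hn0) (tred_surjective R B hn0)
    (tred_ker_nilpotent R B hn0) β' ((Algebra.ofId R B).comp e) (by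
      rw [AlgHom.comp_assoc, he]
      apply N.hom_ext
      rw [AlgHom.comp_assoc, N.eB_comp, AlgHom.comp_assoc, hβ']
      apply AlgHom.ext
      intro f
      have h1 := congrArg (fun k : Pt R A B => k.hom f) hc0
      have h2 : (pev R B 0) (c.hom f) = algebraMap R B (e1 R A f) := h1.trans (one_hom_apply f)
      change algebraMap R B (e1 R A f) = tred R B hn0 (tmk R B n (c.hom f))
      rw [tred_tmk, ← h2, pev_apply])
  have h1 : Pt.map v (D.cell L x t) = Pt.map (tmk R B n) c := by
    rw [← hcell]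
    apply Pt.ext
    intro f
    change v (j (N.β f)) = tmk R B n (c.hom f)
    have h2 := congrArg (fun k : N.B →ₐ[R] TQ B n => k (N.β f)) hv
    have h3 := congrArg (fun k : A →ₐ[R] TQ B n => k f) hβ'
    exact h2.trans h3
  rw [cell_nat, cell_nat] at h1
  have h2 := (hL.inj hG lam hlam h1).1
  have h3 := congrFun h2 b
  simp only [hx b hb, map_zero] at h3
  have h4 : tmk R B n (Polynomial.C (y b) * X ^ (lam (D.root b)).toNat) = tmk R B n 0 := by
    rw [← h3, map_zero]
  rw [tmk_eq_iff] at h4
  have h5 := h4 _ hn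
  rw [Polynomial.coeff_C_mul_X_pow, if_pos rfl, Polynomial.coeff_zero] at h5
  exact h5

/-- The product over a list of all roots of elements of positive weight only depends on the positive part. -/
lemma cell_sort (lam : D.M →+ ℤ) (hlam : ∀ a, lam (D.root a) ≠ 0) {L : List D.idx} (hL : L.Nodup)
    (hL' : ∀ a, a ∈ L) : ∃ L' : List D.idx, Sorted D (fun a => lam (D.root a)) L' ∧
      ∀ (B : Type u) [CommRing B] [Algebra R B] (y : D.idx → B), (∀ a, lam (D.root a) ≤ 0 → y a = 0) →
        ∀ t : TPt D.M B, D.cell L y t = D.cell L' y t := by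
  classical
  let L₁ := L.filter (fun a => decide (lam (D.root a) < 0))
  let L₂ := L.filter (fun a => decide (0 < lam (D.root a)))
  have h1 : ∀ a ∈ L₁, lam (D.root a) < 0 := fun a ha => by simpa using (List.mem_filter.1 ha).2
  have h2 : ∀ a ∈ L₂, 0 < lam (D.root a) := fun a ha => by simpa using (List.mem_filter.1 ha).2
  refine ⟨L₁ ++ L₂, ⟨?_, ?_, L₁, L₂, rfl, h1, h2⟩, ?_⟩
  · rw [List.nodup_append]
    refine ⟨hL.filter _, hL.filter _, ?_⟩
    intro a ha b hb hab
    subst hab
    exact absurd (h1 a ha) (not_lt.mpr (h2 a hb).le)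
  · intro a
    rw [List.mem_append]
    rcases lt_or_gt_of_ne (hlam a) with h | h
    · exact Or.inl (List.mem_filter.2 ⟨hL' a, by simpa using h⟩)
    · exact Or.inr (List.mem_filter.2 ⟨hL' a, by simpa using h⟩)
  · intro B _ _ y hy t
    unfold cell
    congr 1
    have e1 : (L₁.map (fun a => D.uu a B (y a))).prod = 1 := prod_eq_one fun a ha => hy a (h1 a ha).le
    rw [List.map_append, List.prod_append, e1, _root_.one_mul]
    have key : ∀ l : List D.idx, (l.map (fun a => D.uu a B (y a))).prod =
        ((l.filter (fun a => decide (0 < lam (D.root a)))).map (fun a => D.uu a B (y a))).prod := by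
      intro l
      induction l with
      | nil => rfl
      | cons a l ih =>
        by_cases h : 0 < lam (D.root a)
        · rw [List.filter_cons_of_pos (by simpa using h), List.map_cons, List.prod_cons, List.map_cons,
            List.prod_cons, ih]
        · rw [List.filter_cons_of_neg (by simpa using h), List.map_cons, List.prod_cons, ih,
            hy a (not_lt.mp h), D.uu_zero, _root_.one_mul]
    exact key L

/-- **Coordinates outside the roots of the subgroup vanish** (any order of the roots). -/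
theorem coord_eq_zero (hG : D.Good) (lam : D.M →+ ℤ) (hlam : ∀ a, lam (D.root a) ≠ 0) {L : List D.idx}
    (hL : L.Nodup) (hL' : ∀ a, a ∈ L)
    (hT : ∀ {C : Type u} [CommRing C] [Algebra R C] (t : TPt D.M C), H.mem (D.i C t))
    (Rs : D.idx → Prop)
    (hin : ∀ b, Rs b → ∀ {C : Type u} [CommRing C] [Algebra R C] (x : C), H.mem (D.uu b C x))
    (hout : ∀ b, ¬ Rs b → ∃ f ∈ N.J 1, IsW D (D.root b) f ∧ lin D b f = 1)
    {y : D.idx → B} (hy : ∀ a, lam (D.root a) ≤ 0 → y a = 0) (t : TPt D.M B) (hmem : H.mem (D.cell L y t)) :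
    ∀ b, ¬ Rs b → y b = 0 := by
  obtain ⟨L', hs, hcell⟩ := cell_sort (R := R) (A := A) (D := D) lam hlam hL hL'
  apply coord_eq_zero_sorted N hG lam hlam hs hT Rs hin hout hy
  rw [hcell B y hy t] at hmem
  rw [cell_eq_mul_i] at hmem
  have h1 := H.mul_mem hmem (H.inv_mem (hT t))
  rwa [mul_inv_cancel_right] at h1

end K196.Inter
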