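import Groth.Agent.RedSub.K196.Inter

/-!
# Points of `U_lam T` which normalise a subgroup containing `T`

`H` a subgroup functor containing the torus with a smooth neighbourhood of the unit section and `x = u t` with `u` a
product of root group elements of positive weight.  If `x` conjugates the torus into `H` (over every algebra) then the
coordinates of `u` outside the roots of `H` vanish.
-/

set_option autoImplicit false
universe u

namespace K196.Inter

open Groth.Agent.Sga3B.Cell Groth.Agent.Sga3B.Cell.Datum Groth.Agent.Sga3B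
open Groth.Agent.RedSub.H635 Groth.Agent.RedSub.H633.SortedCell
open ConjCoact Wt Loc Polynomial LaurentPolynomial

variable {R : Type u} [CommRing R]
variable {A : Type u} [CommRing A] [Algebra R A] [PtGrp R A] {D : Datum R A} {H : Sub R A} (N : Nbd H)
variable {B : Type u} [CommRing B] [Algebra R B]

theorem coord_eq_zero_of_conj (hG : D.Good) (lam : D.M →+ ℤ) (hlam : ∀ a, lam (D.root a) ≠ 0) {L : List D.idx}
    (hL : L.Nodup) (hL' : ∀ a, a ∈ L)
    (hT : ∀ {C : Type u} [CommRing C] [Algebra R C] (t : TPt D.M C), H.mem (D.i C t))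
    (Rs : D.idx → Prop)
    (hin : ∀ b, Rs b → ∀ {C : Type u} [CommRing C] [Algebra R C] (x : C), H.mem (D.uu b C x))
    (hout : ∀ b, ¬ Rs b → ∃ f ∈ N.J 1, IsW D (D.root b) f ∧ lin D b f = 1)
    {y : D.idx → B} (hy : ∀ a, lam (D.root a) ≤ 0 → y a = 0) (t : TPt D.M B)
    (hnorm : ∀ {C : Type u} [CommRing C] [Algebra R C] (φ : B →ₐ[R] C) (θ : TPt D.M C),
      H.mem (Pt.map φ (D.cell L y t) * D.i C θ * (Pt.map φ (D.cell L y t))⁻¹)) :
    ∀ b, ¬ Rs b → y b = 0 := by
  obtain ⟨δ, hδ, hδ0⟩ := hG L hL hL'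
  set k : D.idx → ℤ := fun a => lam (D.root a) with hkdef
  set u : Pt R A B := D.cell L y 1 with hu
  have hx : D.cell L y t = u * D.i B t := cell_eq_mul_i D L y t
  -- the inverse of `u`
  have hinv : u⁻¹ ∈ D.UP L k B := UP_inv (D := D) hδ hδ0 (θ := D.cochar lam) (fun a => rfl) ⟨y, hy, rfl⟩
  obtain ⟨y', hy', hinv⟩ := hinv
  -- the curve
  have hq : D.cell L (fun a => Polynomial.C (y' a) * X ^ (k a).toNat) 1 ∈ D.UP L k B[X] := by
    refine ⟨_, ?_, rfl⟩
    intro a ha
    rw [hy' a ha, map_zero, zero_mul]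
  have hp0 : Pt.map (pC R B) u ∈ D.UP L k B[X] := by
    refine ⟨fun a => Polynomial.C (y a), ?_, ?_⟩
    · intro a ha
      change Polynomial.C (y a) = 0
      rw [hy a ha, map_zero]
    · rw [hu, cell_nat, map_one]
      rfl
  obtain ⟨w, hw, hpw⟩ := UP_mul (D := D) hδ hδ0 (θ := D.cochar lam) (fun a => rfl) hp0 hq
  -- membership
  have hlau : Pt.map (lau R B) (D.cell L w 1) =
      Pt.map (lC R B) (D.cell L y t) * D.i _ (D.cochar lam) * (Pt.map (lC R B) (D.cell L y t))⁻¹ *
        (D.i _ (D.cochar lam))⁻¹ := by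
    rw [← hpw, Pt.map_mul, Pt.map_map, lau_comp_pC]
    have h1 := lau_cell (D := D) (L := L) (k := k) (θ := D.cochar lam)
      (fun a => rfl) (y := y') (fun a ha => hy' a ha.le) 1
    rw [map_one] at h1
    rw [h1, ← hinv, hx, Pt.map_inv, Pt.map_mul, D.i_nat, _root_.mul_inv_rev]
    have h2 : D.i _ (TPt.map (lC R B) t) * D.i _ (D.cochar lam) * (D.i _ (TPt.map (lC R B) t))⁻¹ =
        D.i _ (D.cochar lam : TPt D.M B[T;T⁻¹]) := by
      have h3 : TPt.map (lC R B) t * D.cochar lam = D.cochar lam * TPt.map (lC R B) t :=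
        MonoidHom.ext fun m => _root_.mul_comm _ _
      rw [← map_mul, h3, map_mul, mul_inv_cancel_right]
    calc _ = Pt.map (lC R B) u * (D.i _ (TPt.map (lC R B) t) * D.i _ (D.cochar lam) *
        (D.i _ (TPt.map (lC R B) t))⁻¹) * (Pt.map (lC R B) u)⁻¹ * (D.i _ (D.cochar lam))⁻¹ := by
          rw [h2]; group
      _ = _ := by group
  have hmem : H.mem (Pt.map (lau R B) (D.cell L w 1)) := by
    rw [hlau]
    exact H.mul_mem (hnorm (lC R B) (D.cochar lam)) (H.inv_mem (hT _))
  rw [cell_nat, map_one] at hmem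
  have h0 := coord_eq_zero N hG lam hlam hL hL' hT Rs hin hout (y := fun a => lau R B (w a))
    (fun a ha => by rw [hw a ha, map_zero]) 1 hmem
  have hu' : u = D.cell L (fun a => (w a).eval 0) 1 := by
    have h1 := congrArg (Pt.map (pev R B 0)) hpw
    have h2 := D.eval0_cell L (k := k) (y := y') hy' 1
    rw [map_one, map_one] at h2
    rw [Pt.map_mul, Pt.map_map, pev_comp_pC, Pt.map_id, h2, mul_one, cell_nat, map_one] at h1
    exact h1
  have h3 := (cell_inj (D := D) hδ hδ0 (θ := D.cochar lam) (k := k) (fun a => rfl) (t := 1) (t' := 1) hy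
    (fun a ha => by rw [hw a ha, eval_zero]) hu').1
  intro b hb
  have h4 := lau_injective (R := R) (B := B) ((h0 b hb).trans (map_zero _).symm)
  rw [h3]
  change (w b).eval 0 = 0
  rw [h4, eval_zero]

end K196.Inter
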