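import Groth.Agent.RedSub.K196.KilLocus
import Groth.Agent.RedSub.H670.LocStd
import Groth.Agent.RedSub.K194.Solv
import Groth.Agent.RedSub.H660.Classes
import Groth.Agent.RedSub.H648.TypeR
import Groth.Agent.Redsub.H644.BorelClosed
import Groth.Agent.Flat2G.EtaleSource
import Groth.Agent.S5543

/-!
# The scheme of Borel subgroups containing a given maximal torus is finite étale
-/

set_option autoImplicit false
set_option linter.unusedSectionVars false
universe u

open CategoryTheory MonoidalCategory CartesianMonoidalCategory MonObj GrpObj AlgebraicGeometry Limits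

namespace K196.KilEt

open Groth.Agent.RedSub.H647.SubPt Groth.Agent.RedSub.H647.SubF Groth.Agent.RedSub.H647.SubF.SubClass
  Groth.Agent.Sga3B Groth.Agent.Sga3B.MT Groth.Agent.Sga3B.Parab Groth.Agent.RedSub.H660.Classes
  Groth.Agent.Sga3B.BorRP478 Groth.Agent.RedSub Groth.Agent

lemma isMonHom_of_eq {C : Type*} [Category C] [CartesianMonoidalCategory C] {A B E : C} [GrpObj A]
    [GrpObj B] [GrpObj E] {u : A ⟶ B} {p : B ⟶ E} {i : A ⟶ E} [IsMonHom p] [Mono p] [IsMonHom i]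
    (h : u ≫ p = i) : IsMonHom u := by
  apply Pts.isMonHom_of_points
  intro X x y
  have h1 : ((x ≫ u) * (y ≫ u)) ≫ p = (x ≫ i) * (y ≫ i) := by
    rw [MonObj.mul_comp, Category.assoc, Category.assoc, h]
  have h2 : ((x * y) ≫ u) ≫ p = (x ≫ i) * (y ≫ i) := by
    rw [Category.assoc, h, MonObj.mul_comp]
  rw [← cancel_mono p, h1, h2]

section etale

/-- étaleness can be checked étale-locally at each point of the source -/
theorem etale_of_pointwise {Z S : Scheme.{u}} (g : Z ⟶ S)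
    (h : ∀ z : Z, ∃ (C : Scheme.{u}) (j : C ⟶ Z), Etale j ∧ z ∈ Set.range j ∧ Etale (j ≫ g)) :
    Etale g := by
  have key : ∀ z : Z, ∃ V : Z.Opens, z ∈ V ∧ Etale (V.ι ≫ g) := by
    intro z
    obtain ⟨C, j, hj, hz, hjg⟩ := h z
    let V : Z.Opens := ⟨Set.range j, j.isOpenMap.isOpen_range⟩
    refine ⟨V, hz, ?_⟩
    let l : C ⟶ V := IsOpenImmersion.lift V.ι j (by
      rw [Scheme.Opens.range_ι]
      exact subset_rfl)
    have hl : l ≫ V.ι = j := IsOpenImmersion.lift_fac _ _ _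
    have hle : Etale l := by
      have : Etale (l ≫ V.ι) := by rw [hl]; exact hj
      exact Etale.of_comp l V.ι
    have hls : Surjective l := by
      refine ⟨fun v => ?_⟩
      obtain ⟨w, hw⟩ := v.2
      refine ⟨w, ?_⟩
      apply V.ι.isOpenEmbedding.injective
      rw [← Scheme.Hom.comp_apply, hl, hw]
      rfl
    have : Etale (l ≫ V.ι ≫ g) := by
      rw [← Category.assoc, hl]
      exact hjg
    exact Flat2G.EtaleSource.etale_of_comp l (V.ι ≫ g)
  choose V hV1 hV2 using key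
  refine IsZariskiLocalAtSource.of_iSup_eq_top (P := @Etale) V ?_ fun z => hV2 z
  rw [eq_top_iff]
  intro z _
  exact TopologicalSpace.Opens.mem_iSup.2 ⟨z, hV1 z⟩

/-- `w ≫ σ` an open immersion, `σ` mono: `w` is an open immersion -/
lemma isOpenImmersion_of_comp {C U P : Scheme.{u}} (w : C ⟶ U) (σ : U ⟶ P) [Mono σ]
    (h : IsOpenImmersion (w ≫ σ)) : IsOpenImmersion w := by
  have h1 : IsPullback (𝟙 C) w (w ≫ σ) σ := by
    refine ⟨⟨by rw [Category.id_comp]⟩, ⟨PullbackCone.IsLimit.mk _ (fun s => s.fst)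
      (fun s => Category.comp_id _) (fun s => ?_) fun s m h1 _ => ?_⟩⟩
    · rw [← cancel_mono σ, Category.assoc]
      exact s.condition
    · rw [← h1, Category.comp_id]
  exact MorphismProperty.of_isPullback (P := @IsOpenImmersion) h1 h

end etale

section pts

variable {S S' : Scheme.{u}} {f : S' ⟶ S} {G : Over S} {H H' : Over S'}

lemma pt_of_comp {h : H ⟶ Red.bc f G} {h' : H' ⟶ Red.bc f G} (u : H ⟶ H') (hu : u ≫ h' = h)
    {X : Scheme.{u}} {y : X ⟶ S'} {gm : X ⟶ G.left} (hh : Pt h y gm) : Pt h' y gm := by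
  obtain ⟨p, h1, h2⟩ := hh
  refine ⟨p ≫ u.left, ?_, ?_⟩
  · rw [Category.assoc, Over.w, h1]
  · rw [← h2, ← hu, Over.comp_left]
    simp only [Category.assoc]

/-- lifting a morphism through `h` -/
lemma exists_lift_of_pt {h : H ⟶ Red.bc f G} (r : H' ⟶ Red.bc f G)
    (hh : Pt h H'.hom (r.left ≫ pullback.fst G.hom f)) : ∃ u : H' ⟶ H, u ≫ h = r := by
  obtain ⟨p, h1, h2⟩ := hh
  refine ⟨Over.homMk p h1, ?_⟩
  apply Over.OverMorphism.ext
  apply pullback.hom_ext
  · exact (Category.assoc _ _ _).trans h2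
  · refine (Category.assoc _ _ _).trans ((congrArg (p ≫ ·) (left_snd h)).trans ?_)
    exact h1.trans (left_snd r).symm

/-- Two dynamic subgroups for the same cocharacter have the same points. -/
lemma pt_iff_of_isDynP [GrpObj G] [GrpObj H] [GrpObj H'] {W : Scheme.{u}} (w : W ⟶ S')
    (h : H ⟶ Red.bc f G) (h' : H' ⟶ Red.bc f G) {lam : Red.Gm W ⟶ Red.bc w (Red.bc f G)}
    (h1 : IsDynP lam ((Over.pullback w).map h)) (h2 : IsDynP lam ((Over.pullback w).map h'))
    {X : Scheme.{u}} (y : X ⟶ W) (gm : X ⟶ G.left) : Pt h (y ≫ w) gm ↔ Pt h' (y ≫ w) gm := by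
  have key : ∀ {H H' : Over S'} [GrpObj H] [GrpObj H'] (h : H ⟶ Red.bc f G) (h' : H' ⟶ Red.bc f G)
      (_ : IsDynP lam ((Over.pullback w).map h)) (_ : IsDynP lam ((Over.pullback w).map h')),
      Pt h (y ≫ w) gm → Pt h' (y ≫ w) gm := by
    intro H H' _ _ h h' h1 h2 hh
    obtain ⟨u, hu⟩ := (h2.iff_ptP _ ((Over.pullback w).map h)).2
      ((h1.iff_ptP _ _).1 ⟨𝟙 _, Category.id_comp _⟩)
    rw [← pt_bcSub] at hh ⊢
    refine pt_of_comp u ?_ hh
    rw [bcSub, ← Category.assoc]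
    exact congrArg (· ≫ _) hu
  exact ⟨key h h' h1 h2, key h' h h2 h1⟩

lemma down_map_eq_bcSub [GrpObj G] {P : Scheme.{u}} (p : P ⟶ S') (q : H ⟶ Red.bc f G) :
    down f ((Over.pullback p).map q) = bcSub p q := by
  rw [down, und_bcCompIso_symm]
  rfl

end pts

section main

variable {S : Scheme.{u}} {G T : Over S} [GrpObj G] [GrpObj T]

lemma exists_pull (hG : Red.IsReductive G) {N : Over S} {B : Over N.left} [GrpObj B]
    {b : B ⟶ Red.bc N.hom G} (hb : Red.IsBorel b) {S' : Scheme.{u}} (g : S' ⟶ N.left) (f : S' ⟶ S)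
    (hf : g ≫ N.hom = f) : ∃ (H : Over S') (_ : GrpObj H) (h : H ⟶ Red.bc f G), Red.IsBorel h ∧
      ∀ (X : Scheme.{u}) (y : X ⟶ S') (gm : X ⟶ G.left), Pt h y gm ↔ Pt b (y ≫ g) gm := by
  subst hf
  exact ⟨Red.bc g B, inferInstance, bcSub g b, (good_isBorel.bcSub_iff g b).2
    (H648.BorBc.isBorel_bc g (RedBcAny636.isReductive_bc N.hom hG) hb),
    fun X y gm => pt_bcSub g b y gm⟩

theorem exists_dynBorel (D : Red.SplitRed G) (mu : D.M →+ ℤ) (hreg : ∀ a, mu (D.P.root a) ≠ 0) :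
    ∃ (Q : Over S) (_ : GrpObj Q) (q : Q ⟶ G), IsDynP (coch D mu) q ∧ Red.IsBorel q ∧
      ∃ t : D.T ⟶ Q, t ≫ q = D.i := by
  obtain ⟨Q, _, q, h1, h2, h3, -⟩ := K194.Solv.exists_borel D mu.toIntLinearMap hreg
  have heq : BorRP478.coch D mu = Par.coch D mu.toIntLinearMap := by
    rw [BorRP478.coch_eq]
    exact (Category.assoc _ _ _).symm
  exact ⟨Q, inferInstance, q, by rw [heq]; exact h1, h2, h3⟩

variable (hG : Red.IsReductive G) (i : T ⟶ G) (hi : Red.IsMaximalTorus i) (N : Over S)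
  {B : Over N.left} [GrpObj B] (b : B ⟶ Red.bc N.hom G) (hN : _root_.RedSub.RepresentsBor G N B b)
  {Z₀ : Scheme.{u}} (z₀ : Z₀ ⟶ N.left) (hz : Mono z₀)
  (hZ : ∀ (S' : Scheme.{u}) (g : S' ⟶ N.left), (∃ g' : S' ⟶ Z₀, g' ≫ z₀ = g) ↔
        ∀ (X : Scheme.{u}) (y : X ⟶ S') (h : X ⟶ T.left), h ≫ T.hom = (y ≫ g) ≫ N.hom →
          Pt b (y ≫ g) (h ≫ i.left))

include hG hi hN hz hZ in
/-- Borel subgroups containing a maximal torus: étale over the base. -/
theorem etale : Etale (z₀ ≫ N.hom) := by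
  refine etale_of_pointwise _ fun z => ?_
  obtain ⟨U, f, hf, hs, D, e, hD⟩ := Groth.Agent.S5543.result hG i hi ((z₀ ≫ N.hom) z)
  obtain ⟨u, hu⟩ := hs
  have hu' : f u = (z₀ ≫ N.hom) z := hu
  obtain ⟨x, hx1, hx2⟩ := Scheme.Pullback.exists_preimage_pullback (f := z₀ ≫ N.hom) (g := f) z u hu'.symm
  let p₁ : pullback (z₀ ≫ N.hom) f ⟶ Z₀ := pullback.fst _ _
  let p₂ : pullback (z₀ ≫ N.hom) f ⟶ U := pullback.snd _ _
  have hcond : (p₁ ≫ z₀) ≫ N.hom = p₂ ≫ f := by
    rw [Category.assoc]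
    exact pullback.condition
  have hbB : Red.IsBorel b := Groth.Agent.Redsub.H644.BorelClosed.isBorel_of_isBorelSub
    (RedBcAny636.isReductive_bc N.hom hG) hN.1
  obtain ⟨H, _, h, hB, hPt⟩ := exists_pull hG hbB (p₁ ≫ z₀) (p₂ ≫ f) hcond
  let DP := SplitBc264.splitBc p₂ D
  let hU : H ⟶ Red.bc p₂ (Red.bc f G) := upw f h
  have hdu : down f hU = h := down_upw f h
  have hBU : Red.IsBorel hU := (good_isBorel.down_iff f hU).1 (by rw [hdu]; exact hB)
  have hmapf : ((Over.pullback f).map i).left ≫ pullback.fst G.hom f = pullback.fst T.hom f ≫ i.left :=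
    (EtHom.isPullback_map f i).w.symm
  -- the torus is contained in the Borel subgroup over `P`
  obtain ⟨t, ht⟩ : ∃ t : DP.T ⟶ H, t ≫ hU = DP.i := by
    refine exists_lift_of_pt _ ?_
    rw [pt_iff_down f hU]
    have hmap : DP.i.left ≫ pullback.fst (Red.bc f G).hom p₂ = pullback.fst D.T.hom p₂ ≫ D.i.left :=
      (EtHom.isPullback_map p₂ D.i).w.symm
    refine ⟨?_, ?_⟩
    · have h1 : pullback.fst (Red.bc f G).hom p₂ ≫ pullback.snd G.hom f =
        pullback.snd (Red.bc f G).hom p₂ ≫ p₂ := pullback.condition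
      rw [Category.assoc, h1, ← Category.assoc]
      exact congrArg (· ≫ p₂) (Over.w DP.i)
    · rw [hdu, hPt]
      have hw1 : (pullback.fst D.T.hom p₂ ≫ e.hom.left ≫ pullback.fst T.hom f) ≫ T.hom =
          (pullback.snd D.T.hom p₂ ≫ p₁ ≫ z₀) ≫ N.hom := by
        have h3 : e.hom.left ≫ pullback.snd T.hom f = D.T.hom := Over.w e.hom
        have h4 : (e.hom.left ≫ pullback.fst T.hom f) ≫ T.hom = D.T.hom ≫ f := by
          rw [← h3]
          exact (Category.assoc _ _ _).trans ((congrArg (e.hom.left ≫ ·) pullback.condition).trans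
            (Category.assoc _ _ _).symm)
        refine (Category.assoc _ _ _).trans ((congrArg (pullback.fst D.T.hom p₂ ≫ ·) h4).trans ?_)
        rw [Category.assoc (pullback.snd D.T.hom p₂), hcond, ← Category.assoc, pullback.condition,
          Category.assoc]
      have h2 := (hZ _ (p₁ ≫ z₀)).1 ⟨p₁, rfl⟩ _ _
        (pullback.fst D.T.hom p₂ ≫ e.hom.left ≫ pullback.fst T.hom f) hw1
      have h3 : (DP.i.left ≫ pullback.fst (Red.bc f G).hom p₂) ≫ pullback.fst G.hom f =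
          (pullback.fst D.T.hom p₂ ≫ e.hom.left ≫ pullback.fst T.hom f) ≫ i.left := by
        have h5 : D.i.left ≫ pullback.fst G.hom f = (e.hom.left ≫ pullback.fst T.hom f) ≫ i.left := by
          rw [hD, Over.comp_left]
          exact (Category.assoc _ _ _).trans ((congrArg (e.hom.left ≫ ·) hmapf).trans
            (Category.assoc _ _ _).symm)
        refine (congrArg (· ≫ pullback.fst G.hom f) hmap).trans ?_
        exact (Category.assoc _ _ _).trans ((congrArg (pullback.fst D.T.hom p₂ ≫ ·) h5).trans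
          (Category.assoc _ _ _).symm)
      rw [h3]
      exact h2
  obtain ⟨V, hxV, mu, hV⟩ := H670.LocStd.exists_open_isDynP DP hU hBU t ht x
  have hVr : Set.range V.ι ⊆ (V : Set _) := by
    rw [Scheme.Opens.range_ι]
  have hdyn := hV _ V.ι hVr
  -- `mu` is regular
  have hreg : ∀ a, mu (D.P.root a) ≠ 0 := by
    have h1 : Red.IsBorel ((Over.pullback V.ι).map hU) :=
      H648.BorBc.isBorel_bc V.ι (RedBcAny636.isReductive_bc p₂ (RedBcAny636.isReductive_bc f hG)) hBU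
    exact (BorLB3991.isStd_geom (SplitBc264.splitBc V.ι DP) mu h1 (by
      rw [BorLB3991.coch_bc]
      exact hdyn) ⟨x, hxV⟩).1
  obtain ⟨Q, _, q, hq, hqB, tQ, htQ⟩ := exists_dynBorel D mu hreg
  -- classify `Q`
  obtain ⟨gQ, ⟨hgQ, hgQ'⟩, -⟩ := hN.2 U f Q q
    (H648.TypeR.isBorelSub_of_isBorel (RedBcAny636.isReductive_bc f hG) hqB)
  rw [samePoints_iff] at hgQ'
  obtain ⟨σ₀, hσ₀⟩ := (hZ U gQ).2 (by
    intro X y hh w
    rw [← hgQ']
    have w' : hh ≫ T.hom = y ≫ f := by rw [w, Category.assoc, hgQ]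
    refine ⟨(pullback.lift hh y w' : X ⟶ (Red.bc f T).left) ≫ e.inv.left ≫ tQ.left, ?_, ?_⟩
    · rw [Category.assoc, Category.assoc, Over.w, Over.w]
      exact pullback.lift_snd _ _ _
    · have h1 : tQ.left ≫ q.left = e.hom.left ≫ ((Over.pullback f).map i).left := by
        rw [← Over.comp_left, htQ, hD, Over.comp_left]
      have h2 : e.inv.left ≫ e.hom.left = 𝟙 _ := by
        rw [← Over.comp_left, Iso.inv_hom_id]
        rfl
      simp only [Category.assoc]
      rw [reassoc_of% h1, reassoc_of% h2, hmapf]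
      exact pullback.lift_fst_assoc _ _ _ _)
  let σ : U ⟶ pullback (z₀ ≫ N.hom) f := pullback.lift σ₀ (𝟙 U) (by
    rw [Category.id_comp, ← Category.assoc, hσ₀, hgQ])
  have hσ1 : σ ≫ p₁ = σ₀ := pullback.lift_fst _ _ _
  have hσ2 : σ ≫ p₂ = 𝟙 U := pullback.lift_snd _ _ _
  have hσm : Mono σ := mono_of_mono_fac hσ2
  -- over `V` the universal Borel subgroup is the pull back of `Q`
  have hV2 : V.ι ≫ p₁ ≫ z₀ = V.ι ≫ p₂ ≫ gQ := by
    have h1 : Red.IsBorel (bcSub (V.ι ≫ p₂) q) := (good_isBorel.bcSub_iff _ q).2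
      (H648.BorBc.isBorel_bc _ (RedBcAny636.isReductive_bc f hG) hqB)
    have h2 := hN.2 V ((V.ι ≫ p₂) ≫ f) (Red.bc (V.ι ≫ p₂) Q) (bcSub (V.ι ≫ p₂) q)
      (H648.TypeR.isBorelSub_of_isBorel (RedBcAny636.isReductive_bc _ hG) h1)
    refine h2.unique ⟨?_, ?_⟩ ⟨?_, ?_⟩
    · rw [Category.assoc, hcond, Category.assoc]
    · rw [samePoints_iff]
      intro X y gm
      have e1 : y ≫ V.ι ≫ p₂ = (y ≫ V.ι) ≫ p₂ := (Category.assoc _ _ _).symm
      have e2 : y ≫ V.ι ≫ p₁ ≫ z₀ = (y ≫ V.ι) ≫ p₁ ≫ z₀ := (Category.assoc _ _ _).symm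
      rw [pt_bcSub, e1, e2, ← hPt, ← hdu, ← pt_bcSub p₂ q, ← down_map_eq_bcSub, pt_down_iff,
        pt_down_iff]
      have h3 : IsDynP (bcLam (coch DP mu) V.ι) ((Over.pullback V.ι).map ((Over.pullback p₂).map q)) := by
        have h4 := (hq.bc p₂).bc V.ι
        rw [← BorLB3991.coch_bc] at h4
        exact h4
      exact exists_congr fun w => pt_iff_of_isDynP V.ι ((Over.pullback p₂).map q) hU h3 hdyn y _
    · rw [Category.assoc, Category.assoc, hgQ, Category.assoc]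
    · rw [samePoints_iff]
      intro X y gm
      rw [pt_bcSub, hgQ']
      simp only [Category.assoc]
  have hV3 : (V.ι ≫ p₂) ≫ σ = V.ι := by
    apply pullback.hom_ext
    · change ((V.ι ≫ p₂) ≫ σ) ≫ p₁ = V.ι ≫ p₁
      rw [Category.assoc, hσ1, ← cancel_mono z₀, Category.assoc, Category.assoc, hσ₀,
        Category.assoc]
      exact hV2.symm
    · change ((V.ι ≫ p₂) ≫ σ) ≫ p₂ = V.ι ≫ p₂
      rw [Category.assoc, hσ2, Category.comp_id]
  have hw : IsOpenImmersion (V.ι ≫ p₂) := isOpenImmersion_of_comp _ σ (by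
    rw [hV3]
    infer_instance)
  have hp1 : Etale p₁ := inferInstanceAs (Etale (pullback.fst _ _))
  refine ⟨V, V.ι ≫ p₁, inferInstance, ⟨⟨x, hxV⟩, ?_⟩, ?_⟩
  · rw [Scheme.Hom.comp_apply]
    exact hx1
  · have h1 : (V.ι ≫ p₁) ≫ z₀ ≫ N.hom = (V.ι ≫ p₂) ≫ f := by
      rw [Category.assoc, ← Category.assoc p₁, hcond, Category.assoc]
    rw [h1]
    infer_instance

end main

end K196.KilEt
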