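import Groth.Agent.RedSub.K196.KilRep
import Groth.Agent.Redsub.H649.ConjLoc
import Groth.Agent.RedSub.H642.GeomInt
import Groth.Agent.S5515
import Groth.Agent.S2958

/-!
# The geometric fibres of the scheme of Killing pairs are integral
-/

set_option autoImplicit false
set_option linter.unusedSectionVars false
universe u

open CategoryTheory MonoidalCategory CartesianMonoidalCategory MonObj GrpObj AlgebraicGeometry Limits

namespace K196.KilInt

open Groth.Agent.RedSub.H647.SubPt Groth.Agent.RedSub.H647.SubF Groth.Agent.RedSub.H647.SubF.SubClass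
  Groth.Agent.Sga3B Groth.Agent.Sga3B.MT Groth.Agent.Sga3B.Parab Groth.Agent.RedSub.H660.Classes
  Groth.Agent.RedSub Groth.Agent KilEt KilRep
open Groth.Agent.Redsub.H649.ConjPts (fam InC taut)
open Groth.Agent.Sga3B.BcPts hiding fam

variable {S : Scheme.{u}} {G : Over S} [GrpObj G]

/-- pull back of a Killing pair -/
theorem exists_pullPair (hG : Red.IsReductive G) {M : Over S} {B T : Over M.left} [GrpObj B] [GrpObj T]
    {b : B ⟶ Red.bc M.hom G} {t : T ⟶ B} (hb : Red.IsBorel b) (ht : IsMonHom t)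
    (hm : Red.IsMaximalTorus (t ≫ b)) {S' : Scheme.{u}} (g : S' ⟶ M.left) (f : S' ⟶ S)
    (hf : g ≫ M.hom = f) : ∃ (B' : Over S') (_ : GrpObj B') (b' : B' ⟶ Red.bc f G) (T' : Over S')
      (_ : GrpObj T') (t' : T' ⟶ B'), Red.IsBorel b' ∧ IsMonHom t' ∧ Red.IsMaximalTorus (t' ≫ b') ∧
      (∀ (X : Scheme.{u}) (y : X ⟶ S') (gm : X ⟶ G.left), Pt b' y gm ↔ Pt b (y ≫ g) gm) ∧
      ∀ (X : Scheme.{u}) (y : X ⟶ S') (gm : X ⟶ G.left), Pt (t' ≫ b') y gm ↔ Pt (t ≫ b) (y ≫ g) gm := by
  subst hf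
  have h1 : (Over.pullback g).map t ≫ bcSub g b = bcSub g (t ≫ b) := by
    rw [bcSub, bcSub, Functor.map_comp, Category.assoc]
  refine ⟨Red.bc g B, inferInstance, bcSub g b, Red.bc g T, inferInstance, (Over.pullback g).map t,
    (good_isBorel.bcSub_iff g b).2 (H648.BorBc.isBorel_bc g (RedBcAny636.isReductive_bc M.hom hG) hb),
    inferInstance, ?_, fun X y gm => pt_bcSub g b y gm, fun X y gm => ?_⟩
  · rw [h1]
    exact (H647.TorF.torBc_of_isReductive hG) g hm
  · rw [h1]
    exact pt_bcSub g (t ≫ b) y gm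

/-- the properties of a Killing pair, seen over a base change -/
lemma isMaximalTorus_upw {V : Scheme.{u}} (v : V ⟶ S) {S' : Scheme.{u}} {q : S' ⟶ V}
    {H : Over S'} [GrpObj H] {h : H ⟶ Red.bc (q ≫ v) G} (hh : Red.IsMaximalTorus h) :
    Red.IsMaximalTorus (upw v (q := q) h) := by
  refine AlgBc.isMaximalTorus_of_arrow (Iso.refl _) (BcIso.bcCompIso q v G) ?_ hh
  exact (Category.id_comp _).symm

lemma isMaximalTorus_down {V : Scheme.{u}} (v : V ⟶ S) {S' : Scheme.{u}} {q : S' ⟶ V}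
    {H : Over S'} [GrpObj H] {h : H ⟶ Red.bc q (Red.bc v G)} (hh : Red.IsMaximalTorus h) :
    Red.IsMaximalTorus (down v h) := by
  refine AlgBc.isMaximalTorus_of_arrow (Iso.refl _) (BcIso.bcCompIso q v G).symm ?_ hh
  exact (Category.id_comp _).symm

/-- base change of the universal property -/
theorem univ_bc (hG : Red.IsReductive G) {M : Over S} {B T : Over M.left} [GrpObj B] [GrpObj T]
    {b : B ⟶ Red.bc M.hom G} {t : T ⟶ B} (hb : Red.IsBorel b) (ht : IsMonHom t)
    (hm : Red.IsMaximalTorus (t ≫ b)) (hU : Univ G M b t) {V : Scheme.{u}} (v : V ⟶ S) :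
    ∃ (B' : Over (Red.bc v M).left) (_ : GrpObj B') (b' : B' ⟶ Red.bc (Red.bc v M).hom (Red.bc v G))
      (T' : Over (Red.bc v M).left) (_ : GrpObj T') (t' : T' ⟶ B'), Red.IsBorel b' ∧ IsMonHom t' ∧
      Red.IsMaximalTorus (t' ≫ b') ∧ Univ (Red.bc v G) (Red.bc v M) b' t' := by
  have hGV : Red.IsReductive (Red.bc v G) := RedBcAny636.isReductive_bc v hG
  obtain ⟨B', _, b', T', _, t', hb', ht', hm', hptB, hptT⟩ :=
    exists_pullPair hG hb ht hm (pullback.fst M.hom v) (pullback.snd M.hom v ≫ v) pullback.condition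
  have hm'' : Red.IsMaximalTorus (t' ≫ upw v (q := pullback.snd M.hom v) b') := by
    have h1 := isMaximalTorus_upw v (q := pullback.snd M.hom v) hm'
    rw [upw, Category.assoc] at h1
    exact h1
  refine ⟨B', inferInstance, upw v (q := pullback.snd M.hom v) b', T', inferInstance, t', ?_, ht', hm'', ?_⟩
  · exact (good_isBorel.down_iff v _).1 (by rw [down_upw]; exact hb')
  · intro S' f B₁ _ b₁ T₁ _ t₁ hb₁ ht₁ hm₁
    have hb₁B : Red.IsBorel b₁ := Groth.Agent.Redsub.H644.BorelClosed.isBorel_of_isBorelSub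
      (RedBcAny636.isReductive_bc f hGV) hb₁
    have hd : Red.IsBorel (down v b₁) := (good_isBorel.down_iff v b₁).2 hb₁B
    have hdm : Red.IsMaximalTorus (t₁ ≫ down v b₁) := by
      have h1 := isMaximalTorus_down v hm₁
      rw [down, Category.assoc] at h1
      exact h1
    have hdt : t₁ ≫ down v b₁ = down v (t₁ ≫ b₁) := by
      rw [down, down, Category.assoc]
    have hdt' : down v (t' ≫ upw v (q := pullback.snd M.hom v) b') = t' ≫ b' := by
      have h1 := down_upw v (q := pullback.snd M.hom v) b'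
      rw [down] at h1
      rw [down, Category.assoc]
      exact congrArg (t' ≫ ·) h1
    obtain ⟨g, ⟨hg, hgB, hgT⟩, hu⟩ := hU S' (f ≫ v) B₁ (down v b₁) T₁ t₁
      (H648.TypeR.isBorelSub_of_isBorel (RedBcAny636.isReductive_bc _ hG) hd) ht₁ hdm
    rw [samePoints_iff] at hgB hgT
    have key : ∀ g' : S' ⟶ pullback M.hom v, g' ≫ pullback.snd M.hom v = f →
        ((_root_.RedSub.SamePoints (Red.bc v G) f b₁ (Red.bc v M) (upw v (q := pullback.snd M.hom v) b') g' ∧
          _root_.RedSub.SamePoints (Red.bc v G) f (t₁ ≫ b₁) (Red.bc v M)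
            (t' ≫ upw v (q := pullback.snd M.hom v) b') g') ↔
        (_root_.RedSub.SamePoints G (f ≫ v) (down v b₁) M b (g' ≫ pullback.fst M.hom v) ∧
          _root_.RedSub.SamePoints G (f ≫ v) (t₁ ≫ down v b₁) M (t ≫ b) (g' ≫ pullback.fst M.hom v))) := by
      intro g' hg'
      refine and_congr ?_ ?_
      · have h1 := same_iff_down v hg' b₁ (upw v (q := pullback.snd M.hom v) b')
        rw [down_upw] at h1
        refine Iff.trans h1 ?_
        rw [samePoints_iff]
        refine forall_congr' fun X => forall_congr' fun y => forall_congr' fun gm => ?_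
        rw [hptB, Category.assoc]
      · have h1 := same_iff_down v hg' (t₁ ≫ b₁) (t' ≫ upw v (q := pullback.snd M.hom v) b')
        rw [hdt', ← hdt] at h1
        refine Iff.trans h1 ?_
        rw [samePoints_iff]
        refine forall_congr' fun X => forall_congr' fun y => forall_congr' fun gm => ?_
        rw [hptT, Category.assoc]
    refine ⟨pullback.lift g f hg, ⟨pullback.lift_snd _ _ _, ?_⟩, ?_⟩
    · rw [key _ (pullback.lift_snd _ _ _), pullback.lift_fst, samePoints_iff, samePoints_iff]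
      exact ⟨hgB, hgT⟩
    · rintro g' ⟨h1, h2⟩
      have h1' : g' ≫ pullback.snd M.hom v = f := h1
      have h3 := (key g' h1').1 h2
      have h4 : g' ≫ pullback.fst M.hom v = g := hu _ ⟨by
        rw [Category.assoc, pullback.condition, reassoc_of% h1'], h3.1, h3.2⟩
      apply pullback.hom_ext
      · rw [pullback.lift_fst]
        exact h4
      · rw [pullback.lift_snd]
        exact h1'

/-- the classifying map of the conjugates of a Killing pair is surjective -/
theorem exists_surjective (hG : Red.IsReductive G) {M : Over S} {B T : Over M.left} [GrpObj B] [GrpObj T]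
    {b : B ⟶ Red.bc M.hom G} {t : T ⟶ B} (hb : Red.IsBorel b) (ht : IsMonHom t)
    (hm : Red.IsMaximalTorus (t ≫ b)) (hU : Univ G M b t) {Q T₀ : Over S} [GrpObj Q] [GrpObj T₀]
    (q : Q ⟶ G) (hq : Red.IsBorel q) (τ : T₀ ⟶ Q) [IsMonHom τ] (hτ : Red.IsMaximalTorus (τ ≫ q)) :
    ∃ r : G ⟶ M, Surjective r.left := by
  have hfamT : ∀ {S' : Scheme.{u}} {f : S' ⟶ S} (g₀ : Over.mk f ⟶ G),
      (Over.pullback f).map τ ≫ fam q g₀ = fam (τ ≫ q) g₀ := by
    intro S' f g₀
    rw [fam, fam, Functor.map_comp, Category.assoc]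
  have hfB : ∀ {S' : Scheme.{u}} (f : S' ⟶ S) (g₀ : Over.mk f ⟶ G), _root_.RedSub.IsBorelSub (fam q g₀) := by
    intro S' f g₀
    refine H648.TypeR.isBorelSub_of_isBorel (RedBcAny636.isReductive_bc f hG) ?_
    exact good_isBorel.comp_cj g₀ (H648.BorBc.isBorel_bc f hG hq)
  have hfT : ∀ {S' : Scheme.{u}} (f : S' ⟶ S) (g₀ : Over.mk f ⟶ G),
      Red.IsMaximalTorus ((Over.pullback f).map τ ≫ fam q g₀) := by
    intro S' f g₀
    rw [hfamT]
    exact isMaximalTorus_comp_cj g₀ _ (MaxTorBc636.isMaximalTorus_bc f hG hτ)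
  obtain ⟨g, ⟨hg, hgB, hgT⟩, -⟩ := hU G.left G.hom _ (fam q (taut G)) _ ((Over.pullback G.hom).map τ)
    (hfB G.hom (taut G)) inferInstance (hfT G.hom (taut G))
  rw [samePoints_iff] at hgB hgT
  refine ⟨Over.homMk g hg, ⟨fun m => ?_⟩⟩
  have hGM : Red.IsReductive (Red.bc M.hom G) := RedBcAny636.isReductive_bc M.hom hG
  obtain ⟨U, φ, hφ, hmφ, g₀, h1, h2⟩ := Groth.Agent.S5515.result hGM ((Over.pullback M.hom).map q) b
    (H648.TypeR.isBorelSub_of_isBorel hGM (H648.BorBc.isBorel_bc M.hom hG hq))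
    (H648.TypeR.isBorelSub_of_isBorel hGM hb) ((Over.pullback M.hom).map τ) t (by
      rw [← Functor.map_comp]
      exact MaxTorBc636.isMaximalTorus_bc M.hom hG hτ) hm m
  rw [← Functor.map_comp] at h2
  rw [Redsub.H649.ConjLoc.conjEq_bc_iff] at h1 h2
  let ε : Over.mk φ ⟶ (Over.map φ).obj (𝟙_ (Over U)) := Over.homMk (𝟙 _) (by
    change 𝟙 _ ≫ 𝟙 _ ≫ φ = φ
    rw [Category.id_comp, Category.id_comp])
  have h3 := Redsub.H649.ConjLoc.samePoints_of_conjEq φ _ (Redsub.H649.ConjLoc.conjEq_comp h1 ε)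
  have h4 := Redsub.H649.ConjLoc.samePoints_of_conjEq φ _ (Redsub.H649.ConjLoc.conjEq_comp h2 ε)
  generalize (show Over.mk (φ ≫ M.hom) ⟶ G from
    (bcEquiv M.hom (Over.mk φ) G).symm (ε ≫ (bcEquiv φ (𝟙_ (Over U)) (Red.bc M.hom G)).symm g₀)) = c at h3 h4
  have hcw : c.left ≫ G.hom = φ ≫ M.hom := Over.w c
  have hpt : ∀ {A : Over S} (a : A ⟶ G) {X : Scheme.{u}} (y : X ⟶ U) (gm : X ⟶ G.left),
      Pt (fam a (taut G)) (y ≫ c.left) gm ↔ Pt (fam a c) y gm := by
    intro A a X y gm
    by_cases w : gm ≫ G.hom = (y ≫ φ) ≫ M.hom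
    · let X' : Over S := Over.mk (gm ≫ G.hom)
      let gm' : X' ⟶ G := Over.homMk gm rfl
      let y' : X' ⟶ Over.mk (φ ≫ M.hom) := Over.homMk y (by
        change y ≫ φ ≫ M.hom = gm ≫ G.hom
        rw [w, Category.assoc])
      let yc : X' ⟶ Over.mk G.hom := Over.homMk (y ≫ c.left) (by
        change (y ≫ c.left) ≫ G.hom = gm ≫ G.hom
        rw [Category.assoc, hcw, w, Category.assoc])
      have e1 : Pt (fam a (taut G)) (y ≫ c.left) gm ↔ InC a (yc ≫ taut G) gm' :=
        Redsub.H649.ConjPts.pt_fam_iff a (taut G) yc gm'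
      have e2 : Pt (fam a c) y gm ↔ InC a (y' ≫ c) gm' := Redsub.H649.ConjPts.pt_fam_iff a c y' gm'
      have e3 : yc ≫ taut G = y' ≫ c := by
        ext1
        exact Category.comp_id _
      rw [e1, e2, e3]
    · constructor
      · intro H
        exact (w (by rw [← H.w, Category.assoc, hcw, Category.assoc])).elim
      · intro H
        exact (w (by rw [← H.w, Category.assoc])).elim
  obtain ⟨u, hu⟩ := hmφ
  have hcg : c.left ≫ g = φ := by
    have hun := hU U (φ ≫ M.hom) _ (fam q c) _ ((Over.pullback (φ ≫ M.hom)).map τ)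
      (hfB _ c) inferInstance (hfT _ c)
    refine hun.unique ⟨?_, ?_, ?_⟩ ⟨rfl, h3, ?_⟩
    · rw [Category.assoc, hg, hcw]
    · rw [samePoints_iff]
      intro X y gm
      rw [← hpt, hgB, Category.assoc]
    · rw [samePoints_iff]
      intro X y gm
      rw [hfamT, ← hpt, ← hfamT, hgT, Category.assoc]
    · rw [hfamT]
      exact h4
  refine ⟨c.left u, ?_⟩
  change g (c.left u) = m
  rw [← Scheme.Hom.comp_apply, hcg]
  exact hu

/-- **Integrality of the geometric fibres of the scheme of Killing pairs** -/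
theorem isIntegral_geomFibre (hG : Red.IsReductive G) {M : Over S} {B T : Over M.left} [GrpObj B] [GrpObj T]
    {b : B ⟶ Red.bc M.hom G} {t : T ⟶ B} (hb : Red.IsBorel b) (ht : IsMonHom t)
    (hm : Red.IsMaximalTorus (t ≫ b)) (hU : Univ G M b t) (hsm : Smooth M.hom) (s : S) :
    IsIntegral (Red.geomFibre s M).left := by
  refine H642.GeomInt.isIntegral_geomFibre G hG M hsm (fun s => ?_) s
  obtain ⟨V, v, hv, hs, ⟨D⟩⟩ := Groth.Agent.S2958.result G hG s
  have hne : Nonempty V := by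
    obtain ⟨y, -⟩ := hs
    exact ⟨y⟩
  have hred := SplitReduced415.isReduced (S := V) (G := Red.bc v G) D
  obtain ⟨β⟩ := Groth.Agent.Sga3B.BaseZ.nonempty_base D.P
  obtain ⟨mu, hmu, -⟩ := H634.BorelStd.exists_functional β
  obtain ⟨Q, _, q, -, hqB, τ, hτ⟩ := exists_dynBorel D mu.toAddMonoidHom hmu
  have hi : IsMonHom D.i := D.maximalTorus.1
  have hqm : IsMonHom q := hqB.1
  have hqcl : IsClosedImmersion q.left := hqB.2.1
  have hqmono : Mono q := by
    have : Mono q.left := inferInstance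
    exact Over.mono_of_mono_left q
  have hτm : IsMonHom τ := isMonHom_of_eq hτ
  obtain ⟨B', _, b', T', _, t', hb', ht', hm', hU'⟩ := univ_bc hG hb ht hm hU v
  obtain ⟨r, hr⟩ := exists_surjective (RedBcAny636.isReductive_bc v hG) hb' ht' hm' hU' q hqB τ
    (by rw [hτ]; exact D.maximalTorus)
  exact ⟨V, v, hv, hs, r, hr⟩

end K196.KilInt
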