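import Groth.Agent.SGA3x.K21.ClosedCond
import Groth.Agent.RedSub.H647.SubPt

/-!
# The locus where a torus is contained in a closed subgroup of a family
-/

set_option autoImplicit false
set_option linter.unusedSectionVars false
universe u

open CategoryTheory MonoidalCategory CartesianMonoidalCategory MonObj GrpObj AlgebraicGeometry Limits

namespace K196.KilLocus

open Groth.Agent.RedSub.H647.SubPt

variable {S : Scheme.{u}} {G T : Over S} [GrpObj G] [GrpObj T]

/-- `T ⊆ B_n` is a closed condition on `n ∈ N`. -/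
theorem exists_locus (hT : Red.IsTorus T) (i : T ⟶ G) (N : Over S) {B : Over N.left}
    (b : B ⟶ Red.bc N.hom G) [IsClosedImmersion b.left] :
    ∃ (Z₀ : Scheme.{u}) (z₀ : Z₀ ⟶ N.left), IsClosedImmersion z₀ ∧
      ∀ (S' : Scheme.{u}) (g : S' ⟶ N.left), (∃ g' : S' ⟶ Z₀, g' ≫ z₀ = g) ↔
        ∀ (X : Scheme.{u}) (y : X ⟶ S') (h : X ⟶ T.left), h ≫ T.hom = (y ≫ g) ≫ N.hom →
          Pt b (y ≫ g) (h ≫ i.left) := by
  have hQ : K21.MultLoc.IsMult T :=
    K21.MultLoc.isMult_of_isMultTypeFT (K21.MultLoc.isMultTypeFT_of_isTorus hT)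
  have hw : ((snd N T).left ≫ i.left) ≫ G.hom = (fst N T).left ≫ N.hom := by
    rw [Category.assoc, Over.w, Over.w, Over.w]
  let c : N ⊗ T ⟶ (Over.map N.hom).obj (Red.bc N.hom G) :=
    Over.homMk (pullback.lift ((snd N T).left ≫ i.left) (fst N T).left hw) (by
      change pullback.lift _ _ hw ≫ pullback.snd G.hom N.hom ≫ N.hom = _
      rw [pullback.lift_snd_assoc, Over.w])
  let j : (Over.map N.hom).obj B ⟶ (Over.map N.hom).obj (Red.bc N.hom G) := (Over.map N.hom).map b
  have hj : IsClosedImmersion j.left := inferInstanceAs (IsClosedImmersion b.left)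
  obtain ⟨Z, z, hz, huniv, -⟩ := K21.ClosedCond.exists_closed_map hQ c j
  refine ⟨Z.left, z.left, hz, fun S' g => ?_⟩
  have key : ∀ (T' : Over S) (a : T' ⟶ N) (h : T' ⟶ T),
      (∃ b' : T' ⟶ (Over.map N.hom).obj B, b' ≫ j = lift a h ≫ c) ↔ Pt b a.left (h.left ≫ i.left) := by
    intro T' a h
    have w : (h.left ≫ i.left) ≫ G.hom = a.left ≫ N.hom := by
      rw [Category.assoc, Over.w, Over.w, Over.w]
    rw [pt_iff_lift b a.left (h.left ≫ i.left) w]
    have e : (lift a h ≫ c).left = pullback.lift (h.left ≫ i.left) a.left w := by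
      apply pullback.hom_ext
      · rw [pullback.lift_fst, Over.comp_left, Category.assoc]
        change (lift a h).left ≫ pullback.lift _ _ hw ≫ pullback.fst _ _ = _
        rw [pullback.lift_fst, ← Category.assoc, ← Over.comp_left, lift_snd]
      · rw [pullback.lift_snd, Over.comp_left, Category.assoc]
        change (lift a h).left ≫ pullback.lift _ _ hw ≫ pullback.snd _ _ = _
        rw [pullback.lift_snd, ← Over.comp_left, lift_fst]
    constructor
    · rintro ⟨b', hb'⟩
      exact ⟨b'.left, by rw [← e, ← hb']; rfl⟩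
    · rintro ⟨p, hp⟩
      refine ⟨Over.homMk p ?_, ?_⟩
      · change p ≫ B.hom ≫ N.hom = _
        rw [← left_snd b, Category.assoc, reassoc_of% hp, pullback.lift_snd_assoc, Over.w]
      · apply Over.OverMorphism.ext
        rw [e]
        exact hp
  let T₁ : Over S := Over.mk (g ≫ N.hom)
  let g₁ : T₁ ⟶ N := Over.homMk g rfl
  have h1 : (∃ g' : S' ⟶ Z.left, g' ≫ z.left = g) ↔ ∃ a : T₁ ⟶ Z, a ≫ z = g₁ := by
    constructor
    · rintro ⟨g', hg'⟩
      refine ⟨Over.homMk g' ?_, ?_⟩
      · rw [← Over.w z, ← Category.assoc, hg']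
        rfl
      · apply Over.OverMorphism.ext
        exact hg'
    · rintro ⟨a, ha⟩
      exact ⟨a.left, congrArg (fun f => f.left) ha⟩
  rw [h1, huniv]
  constructor
  · intro H X y h hh
    let T' : Over S := Over.mk ((y ≫ g) ≫ N.hom)
    let x : T' ⟶ T₁ := Over.homMk y (by
      change y ≫ g ≫ N.hom = (y ≫ g) ≫ N.hom
      rw [Category.assoc])
    exact (key T' (x ≫ g₁) (Over.homMk h hh)).1 (H T' x (Over.homMk h hh))
  · intro H T' x h
    refine (key T' (x ≫ g₁) h).2 (H T'.left x.left h.left ?_)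
    rw [Over.w h, ← Over.w (x ≫ g₁)]
    rfl

end K196.KilLocus
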