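import Groth.Agent.RedSub.K196.KilEt
import Groth.Agent.S3964
import Groth.Agent.S3965
import Mathlib.AlgebraicGeometry.ZariskisMainTheorem

/-!
# The scheme of Killing pairs
-/

set_option autoImplicit false
set_option linter.unusedSectionVars false
universe u

open CategoryTheory MonoidalCategory CartesianMonoidalCategory MonObj GrpObj AlgebraicGeometry Limits

namespace K196.KilRep

open Groth.Agent.RedSub.H647.SubPt Groth.Agent.RedSub.H647.SubF Groth.Agent.RedSub.H647.SubF.SubClass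
  Groth.Agent.Sga3B Groth.Agent.Sga3B.MT Groth.Agent.Sga3B.Parab Groth.Agent.RedSub.H660.Classes
  Groth.Agent.RedSub Groth.Agent KilEt

variable {S : Scheme.{u}} (G : Over S) [GrpObj G]

/-- the universal property of a scheme of Killing pairs -/
def Univ (M : Over S) {B T : Over M.left} (b : B ⟶ Red.bc M.hom G) (t : T ⟶ B) : Prop :=
  ∀ (S' : Scheme.{u}) (f : S' ⟶ S) (B' : Over S') [GrpObj B'] (b' : B' ⟶ Red.bc f G) (T' : Over S') [GrpObj T']
    (t' : T' ⟶ B'), _root_.RedSub.IsBorelSub b' → IsMonHom t' → Red.IsMaximalTorus (t' ≫ b') →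
      ∃! g : S' ⟶ M.left, g ≫ M.hom = f ∧ _root_.RedSub.SamePoints G f b' M b g ∧
        _root_.RedSub.SamePoints G f (t' ≫ b') M (t ≫ b) g

/-- **The scheme of Killing pairs** -/
theorem exists_kil (hG : Red.IsReductive G) :
    ∃ (M : Over S) (B : Over M.left) (_ : GrpObj B) (b : B ⟶ Red.bc M.hom G) (T : Over M.left) (_ : GrpObj T)
      (t : T ⟶ B), _root_.RedSub.IsBorelSub b ∧ IsMonHom t ∧ Red.IsMaximalTorus (t ≫ b) ∧
      Univ G M b t ∧ Smooth M.hom ∧ IsAffineHom M.hom := by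
  obtain ⟨MT, HT, _, hT, hMT, hsm, haff, -⟩ := Groth.Agent.S3965.result G hG
  have hG₁ : Red.IsReductive (Red.bc MT.hom G) := RedBcAny636.isReductive_bc MT.hom hG
  obtain ⟨N, B, _, b, hN, hNsm, hNprop, -, -⟩ := Groth.Agent.S3964.result (Red.bc MT.hom G) hG₁
  have hbB : Red.IsBorel b := Groth.Agent.Redsub.H644.BorelClosed.isBorel_of_isBorelSub
    (RedBcAny636.isReductive_bc N.hom hG₁) hN.1
  have hbcl : IsClosedImmersion b.left := hbB.2.1
  obtain ⟨Z₀, z₀, hz, hZ⟩ := KilLocus.exists_locus hMT.1.2.2.1 hT N b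
  have hEt := KilEt.etale hG₁ hT hMT.1 N b hN z₀ inferInstance hZ
  have hlqf : LocallyQuasiFinite (z₀ ≫ N.hom) := Groth.Agent.Desc.LQF.of_etale _
  have hfin : IsFinite (z₀ ≫ N.hom) := IsFinite.of_isProper_of_locallyQuasiFinite _
  let M : Over S := Over.mk ((z₀ ≫ N.hom) ≫ MT.hom)
  let bM : Red.bc z₀ B ⟶ Red.bc ((z₀ ≫ N.hom) ≫ MT.hom) G := down MT.hom (bcSub z₀ b)
  let tM : Red.bc (z₀ ≫ N.hom) HT ⟶ Red.bc ((z₀ ≫ N.hom) ≫ MT.hom) G := bcSub (z₀ ≫ N.hom) hT
  have hbM : Red.IsBorel bM := by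
    refine (good_isBorel.down_iff MT.hom _).2 ?_
    exact (good_isBorel.bcSub_iff z₀ b).2
      (H648.BorBc.isBorel_bc z₀ (RedBcAny636.isReductive_bc N.hom hG₁) hbB)
  have hbMcl : IsClosedImmersion bM.left := hbM.2.1
  have hbMm : Mono bM := by
    have : Mono bM.left := inferInstance
    exact Over.mono_of_mono_left bM
  have hbMh : IsMonHom bM := hbM.1
  have htM : Red.IsMaximalTorus tM :=
    (H647.TorF.torBc_of_isReductive hG) (z₀ ≫ N.hom) hMT.1
  have htMh : IsMonHom tM := htM.1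
  have hptT : ∀ {X : Scheme.{u}} (y : X ⟶ Z₀) (gm : X ⟶ G.left),
      Pt tM y gm ↔ Pt hT (y ≫ z₀ ≫ N.hom) gm := fun y gm => pt_bcSub _ hT y gm
  obtain ⟨t, ht⟩ : ∃ t : Red.bc (z₀ ≫ N.hom) HT ⟶ Red.bc z₀ B, t ≫ bM = tM := by
    refine exists_lift_of_pt _ ?_
    have w : (tM.left ≫ pullback.fst G.hom ((z₀ ≫ N.hom) ≫ MT.hom)) ≫ G.hom =
        ((Red.bc (z₀ ≫ N.hom) HT).hom ≫ z₀ ≫ N.hom) ≫ MT.hom := by
      rw [Category.assoc, pullback.condition, ← Category.assoc]
      have := Over.w tM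
      exact (congrArg (· ≫ (z₀ ≫ N.hom) ≫ MT.hom) this).trans (by simp only [Category.assoc])
    rw [pt_down_iff]
    refine ⟨w, ?_⟩
    rw [pt_bcSub]
    have h1 := (hZ Z₀ z₀).1 ⟨𝟙 _, Category.id_comp _⟩ (Red.bc (z₀ ≫ N.hom) HT).left
      (Red.bc (z₀ ≫ N.hom) HT).hom (pullback.fst HT.hom (z₀ ≫ N.hom)) (by
        rw [pullback.condition, Category.assoc]
        rfl)
    have h2 : (pullback.fst HT.hom (z₀ ≫ N.hom) ≫ hT.left : _ ⟶ (Red.bc MT.hom G).left) =
        pullback.lift (tM.left ≫ pullback.fst G.hom ((z₀ ≫ N.hom) ≫ MT.hom))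
          ((Red.bc (z₀ ≫ N.hom) HT).hom ≫ z₀ ≫ N.hom) w := by
      apply pullback.hom_ext
      · rw [pullback.lift_fst, bcSub_fst, Category.assoc]
      · rw [pullback.lift_snd, Category.assoc]
        have h3 : hT.left ≫ pullback.snd G.hom MT.hom = HT.hom := left_snd hT
        rw [h3, pullback.condition]
        rfl
    rw [← h2]
    exact h1
  have htm : IsMonHom t := isMonHom_of_eq ht
  refine ⟨M, Red.bc z₀ B, inferInstance, bM, Red.bc (z₀ ≫ N.hom) HT, inferInstance, t,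
    H648.TypeR.isBorelSub_of_isBorel (RedBcAny636.isReductive_bc _ hG) hbM, htm, by rw [ht]; exact htM,
    ?_, ?_, ?_⟩
  · intro S' f B' _ b' T' _ t' hb' ht' hmax
    have hb'B : Red.IsBorel b' := Groth.Agent.Redsub.H644.BorelClosed.isBorel_of_isBorelSub
      (RedBcAny636.isReductive_bc f hG) hb'
    obtain ⟨g₁, ⟨hg₁, hg₁'⟩, hu₁⟩ := hMT.2 S' f T' (t' ≫ b') hmax
    subst hg₁
    rw [samePoints_iff] at hg₁'
    have hup : Red.IsBorel (upw MT.hom (q := g₁) b') :=
      (good_isBorel.down_iff MT.hom _).1 (by rw [down_upw]; exact hb'B)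
    obtain ⟨g₂, ⟨hg₂, hg₂'⟩, hu₂⟩ := hN.2 S' g₁ B' (upw MT.hom (q := g₁) b')
      (H648.TypeR.isBorelSub_of_isBorel (RedBcAny636.isReductive_bc g₁ hG₁) hup)
    rw [samePoints_iff] at hg₂'
    obtain ⟨g₃, hg₃⟩ := (hZ S' g₂).2 (by
      intro X y hh w
      rw [← hg₂', pt_iff_down, down_upw]
      have w' : hh ≫ HT.hom = y ≫ g₁ := by rw [w, Category.assoc, hg₂]
      have h3 : hT.left ≫ pullback.snd G.hom MT.hom = HT.hom := left_snd hT
      refine ⟨?_, ?_⟩
      · rw [Category.assoc, h3, w']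
      · have h4 : Pt (t' ≫ b') y (hh ≫ hT.left ≫ pullback.fst G.hom MT.hom) := by
          rw [hg₁']
          exact ⟨hh, w', rfl⟩
        rw [Category.assoc]
        exact pt_of_comp t' rfl h4)
    have key : ∀ g : S' ⟶ Z₀, g ≫ z₀ ≫ N.hom = g₁ →
        (_root_.RedSub.SamePoints G (g₁ ≫ MT.hom) b' M bM g ↔
          ∀ (X : Scheme.{u}) (y : X ⟶ S') (gm : X ⟶ (Red.bc MT.hom G).left),
            Pt (upw MT.hom (q := g₁) b') y gm ↔ Pt b (y ≫ g ≫ z₀) gm) := by
      intro g hg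
      rw [samePoints_iff]
      have h1 := same_iff_down MT.hom hg (upw MT.hom (q := g₁) b') (bcSub z₀ b)
      rw [down_upw] at h1
      refine h1.symm.trans ?_
      refine forall_congr' fun X => forall_congr' fun y => forall_congr' fun gm => ?_
      rw [pt_bcSub, Category.assoc]
    have hg₃' : g₃ ≫ z₀ ≫ N.hom = g₁ := by rw [← Category.assoc, hg₃, hg₂]
    refine ⟨g₃, ⟨?_, ?_, ?_⟩, ?_⟩
    · change g₃ ≫ (z₀ ≫ N.hom) ≫ MT.hom = _
      rw [← Category.assoc, hg₃']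
    · rw [key g₃ hg₃', hg₃]
      exact hg₂'
    · rw [ht, samePoints_iff]
      intro X y gm
      rw [hg₁', hptT, Category.assoc, hg₃']
    · rintro g ⟨h1, h2, h3⟩
      rw [ht, samePoints_iff] at h3
      have h4 : g ≫ z₀ ≫ N.hom = g₁ := by
        refine hu₁ _ ⟨?_, ?_⟩
        · rw [← h1]
          change _ = g ≫ (z₀ ≫ N.hom) ≫ MT.hom
          simp only [Category.assoc]
        · rw [samePoints_iff]
          intro X y gm
          rw [h3, hptT, Category.assoc]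
      rw [key g h4] at h2
      rw [← cancel_mono z₀, hg₃]
      refine hu₂ _ ⟨?_, ?_⟩
      · rw [Category.assoc, h4]
      · rw [samePoints_iff]
        exact h2
  · change Smooth ((z₀ ≫ N.hom) ≫ MT.hom)
    infer_instance
  · change IsAffineHom ((z₀ ≫ N.hom) ≫ MT.hom)
    infer_instance

end K196.KilRep
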