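import Groth.Agent.RedSub.H635.Uniq
import Groth.Agent.Sga3B.SplitBc264b
import Groth.Agent.RedSub.H641.TypeRBc
import Groth.Agent.RedSub.H657.FacLoc

/-!
# Comparison of subgroups containing the torus of a splitting over an arbitrary base

`E D i a` (H635.Uniq) is the set of points of the base at which the root `a` is tangent to the subgroup `i : H ⟶ G`.
* `E_bc` : its pullback along an open immersion;
* `exists_le_of_const` : comparison when all the sets `E` are empty or everything;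
* `exists_le` : over any base, `H ≤ H₂` as soon as `E D i a ⊆ E D i₂ a` for all roots.
-/

set_option autoImplicit false
set_option linter.unusedSectionVars false
universe u

open CategoryTheory MonoidalCategory CartesianMonoidalCategory MonObj GrpObj AlgebraicGeometry Limits

namespace K196.Le

open Groth.Agent.Sga3B.Cell Groth.Agent.Sga3B.Cell.Datum Groth.Agent.Sga3B Groth.Agent.Sga3B.PinMod
open Groth.Agent.RedSub Groth.Agent.RedSub.H635
open DSPts GaPts ConjCoact Wt Loc SchNbd Uniq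

section bc

variable {S S' : Scheme.{u}} (f : S' ⟶ S) {G H : Over S} [GrpObj G] [GrpObj H] (D : Red.SplitRed G)
  (i : H ⟶ G)

/-- the point of `𝔾_a` over the base change -/
lemma gaPt_bc {X : Over S'} (z : Γ(X.left, ⊤)) :
    gaPt X z ≫ (SplitBc264.gaBcIso f).inv.hom.hom =
      BcPts.bcEquiv f X (Red.Ga S) (gaPt ((Over.map f).obj X) z) := by
  apply (BcPts.bcEquiv f X (Red.Ga S)).symm.injective
  rw [Equiv.symm_apply_apply]
  apply gaFn_injective
  rw [gaFn_gaPt]
  have h1 := SplitBc264.gaFn_gaBcIso f (gaPt X z ≫ (SplitBc264.gaBcIso f).inv.hom.hom)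
  rw [Category.assoc, SplitBc264.map_inv_hom, Category.comp_id, gaFn_gaPt] at h1
  exact h1.symm

/-- the root group points over a base change -/
lemma gaPt_splitBc_u (a : D.idx) {X : Over S'} (z : Γ(X.left, ⊤)) :
    gaPt X z ≫ (SplitBc264.splitBc f D).u a =
      BcPts.bcEquiv f X G (gaPt ((Over.map f).obj X) z ≫ D.u a) := by
  rw [SplitBc264.splitBc_u]
  refine (Category.assoc _ _ _).symm.trans ?_
  rw [gaPt_bc, ← BcPts.bcEquiv_comp]


lemma lift_bc_iff {X : Over S'} (g : (Over.map f).obj X ⟶ G) :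
    (∃ v : X ⟶ Red.bc f H, v ≫ (Over.pullback f).map i = BcPts.bcEquiv f X G g) ↔
      ∃ v : (Over.map f).obj X ⟶ H, v ≫ i = g := by
  constructor
  · rintro ⟨v, hv⟩
    refine ⟨(BcPts.bcEquiv f X H).symm v, ?_⟩
    rw [← BcPts.bcEquiv_symm_comp, hv, Equiv.symm_apply_apply]
  · rintro ⟨v, rfl⟩
    exact ⟨BcPts.bcEquiv f X H v, (BcPts.bcEquiv_comp _ _ _).symm⟩

lemma tg_bc (a : D.idx) (K : Type u) [Field K] (x : Spec (CommRingCat.of K) ⟶ S') :
    Tg (SplitBc264.splitBc f D) ((Over.pullback f).map i) a K x ↔ Tg D i a K (x ≫ f) := by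
  unfold Tg
  rw [gaPt_splitBc_u, lift_bc_iff]
  refine ex_congr i (w := (Spec.map (CommRingCat.ofHom (algebraMap K (TrivSqZeroExt K K))) ≫ x) ≫ f)
    (w' := Spec.map (CommRingCat.ofHom (algebraMap K (TrivSqZeroExt K K))) ≫ x ≫ f) ?_ _ _
  rw [Category.assoc]

lemma E_bc [IsOpenImmersion f] (a : D.idx) :
    E (SplitBc264.splitBc f D) ((Over.pullback f).map i) a = f ⁻¹' (E D i a) := by
  ext σ
  constructor
  · rintro ⟨K, _, x, ⟨p, hp⟩, hx⟩
    refine ⟨K, inferInstance, x ≫ f, ⟨p, ?_⟩, (tg_bc f D i a K x).mp hx⟩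
    rw [Scheme.Hom.comp_apply, hp]
  · rintro ⟨K, _, x, ⟨p, hp⟩, hx⟩
    have hrange : Set.range x ⊆ Set.range f := by
      rintro _ ⟨q', rfl⟩
      have h1 : q' = p := Subsingleton.elim (α := PrimeSpectrum K) _ _
      rw [h1, hp]
      exact ⟨σ, rfl⟩
    let y := IsOpenImmersion.lift f x hrange
    have hy : y ≫ f = x := IsOpenImmersion.lift_fac f x hrange
    refine ⟨K, inferInstance, y, ⟨p, ?_⟩, ?_⟩
    · apply f.isOpenEmbedding.injective
      rw [← hp, ← hy]
      rfl
    · rw [tg_bc, hy]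
      exact hx

end bc

section le

variable {S : Scheme.{u}} {G H : Over S} [GrpObj G] [GrpObj H] (D : Red.SplitRed G) (i : H ⟶ G) [IsMonHom i]

/-- Comparison of subgroups when every root is tangent everywhere or nowhere. -/
theorem exists_le_of_const [Nonempty S] [IsImmersion i.left] [Smooth H.hom]
    (hconn : _root_.RedSub.HasConnectedFibres H) (t : D.T ⟶ H) (ht : t ≫ i = D.i)
    (hE : ∀ a, E D i a = ∅ ∨ E D i a = Set.univ)
    {H₂ : Over S} [GrpObj H₂] (i₂ : H₂ ⟶ G) [IsMonHom i₂] [Mono i₂] (t₂ : D.T ⟶ H₂) (ht₂ : t₂ ≫ i₂ = D.i)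
    (hu : ∀ a, E D i a = Set.univ → ∃ v : Red.Ga S ⟶ H₂, v ≫ i₂ = D.u a) :
    ∃ v : H ⟶ H₂, v ≫ i₂ = i := by
  let c := S.affineOpenCover
  let s : ∀ j : c.I₀, Spec (CommRingCat.of (c.X j)) ⟶ S := fun j => c.f j
  have hs : ∀ j, IsOpenImmersion (s j) := fun j => inferInstanceAs (IsOpenImmersion (c.f j))
  have hch := fun j : c.I₀ => exists_chart_nbd D i (s j)
  choose ch N m hm hm' using hch
  let Rs : D.idx → Prop := fun a => E D i a = Set.univ
  have hin : ∀ j, ∀ b, Rs b → ∀ {C : Type u} [CommRing C] [Algebra (c.X j) C] (x : C),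
      (sub (ch j) i).mem (((ch j).datum D).uu b C x) := by
    intro j b hb C _ _ x
    obtain ⟨v, hv⟩ := exists_lift_u D i t ht b hb
    rw [mem_sub, (ch j).pts_uu]
    exact ⟨gaPt _ _ ≫ v, by rw [Category.assoc, hv]⟩
  have hin₂ : ∀ j, ∀ b, Rs b → ∀ {C : Type u} [CommRing C] [Algebra (c.X j) C] (x : C),
      (sub (ch j) i₂).mem (((ch j).datum D).uu b C x) := by
    intro j b hb C _ _ x
    obtain ⟨v, hv⟩ := hu b hb
    rw [mem_sub, (ch j).pts_uu]
    exact ⟨gaPt _ _ ≫ v, by rw [Category.assoc, hv]⟩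
  have hout : ∀ j, ∀ b, ¬ Rs b → ∃ f ∈ (N j).J 1, IsW ((ch j).datum D) (((ch j).datum D).root b) f ∧
      lin ((ch j).datum D) b f = 1 := by
    intro j b hb
    have h1 : E D i b = ∅ := by
      rcases hE b with h1 | h1
      · exact h1
      · exact absurd h1 hb
    exact one_mem_aI_of_E D i t ht b h1 (s j) (ch j) (N j)
  have hgerm := fun j : c.I₀ => Germ.exists_germ (N j) ((ch j).good D)
    (fun y => hT_sub D i (ch j) t ht y) Rs (hin j) (hout j)
    (((ch j).datum D).signList fun _ => 0) (((ch j).datum D).signList_nodup fun _ => 0)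
    (((ch j).datum D).mem_signList fun _ => 0)
  choose E' hE1 hE2 l x y e hl hx hly he using hgerm
  have hmem : ∀ j, (sub (ch j) i₂).mem (((ch j).datum D).cell
      (((ch j).datum D).signList fun _ => 0) (x j) (y j)) := by
    intro j
    apply Germ.mem_cell (fun y => hT_sub D i₂ (ch j) t₂ ht₂ y)
    intro b
    by_cases hb : Rs b
    · exact hin₂ j b hb _
    · rw [hx j b hb, uu_zero]
      exact (sub (ch j) i₂).one_mem
  choose r hr using hmem
  refine exists_lift_of_local_germs i i₂ hconn (fun j => tB (s j) (E' j))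
    (fun j => tMap (s j) (l j) ≫ m j) (fun j => ?_) (fun j => ?_) ?_ r ?_
  · have h1 := hm' j (hs j)
    have h2 : Etale (tMap (s j) (l j)).left := by
      rw [tMap_left, HasRingHomProperty.Spec_iff (P := @Etale)]
      exact hl j
    rw [Over.comp_left]
    infer_instance
  · have h1 := hm' j (hs j)
    have h2 : Etale (tMap (s j) (l j)).left := by
      rw [tMap_left, HasRingHomProperty.Spec_iff (P := @Etale)]
      exact hl j
    rw [Over.comp_left]
    infer_instance
  · intro σ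
    obtain ⟨j, p, hp⟩ := c.openCover.exists_eq σ
    let j' : c.I₀ := j
    refine ⟨j', Spec.map (CommRingCat.ofHom (e j' : E' j' →+* c.X j')) p, ?_⟩
    have h1 : Spec.map (CommRingCat.ofHom (e j' : E' j' →+* c.X j')) ≫
        Spec.map (CommRingCat.ofHom (algebraMap (c.X j') (E' j'))) = 𝟙 _ := by
      rw [← Spec.map_comp, ← CommRingCat.ofHom_comp, AlgHom.comp_algebraMap]
      exact Spec.map_id _
    have h2 := congrArg (fun k : Spec (CommRingCat.of (c.X j')) ⟶ Spec (CommRingCat.of (c.X j')) =>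
      k p) h1
    change Spec.map (CommRingCat.ofHom (algebraMap (c.X j') (E' j')))
      (Spec.map (CommRingCat.ofHom (e j' : E' j' →+* c.X j')) p) = p at h2
    exact (congrArg (s j') h2).trans hp
  · intro j
    rw [hr j, Category.assoc, hm j, (ch j).pts_nat, hly j]

/-- around every point the sets `E` become constant -/
lemma exists_nhd_const [IsImmersion i.left] [Smooth H.hom] (t : D.T ⟶ H) (ht : t ≫ i = D.i) (σ : S) :
    ∃ V : S.Opens, σ ∈ V ∧ ∀ a, (V : Set S) ⊆ E D i a ∨ (V : Set S) ⊆ (E D i a)ᶜ := by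
  classical
  let F : D.idx → Set S := fun a => if σ ∈ E D i a then E D i a else (E D i a)ᶜ
  have hF : IsOpen (⋂ a, F a) := by
    apply isOpen_iInter_of_finite
    intro a
    have h1 := isClopen_E D i t ht a
    by_cases h : σ ∈ E D i a
    · simp only [F, h, if_true]
      exact h1.isOpen
    · simp only [F, h, if_false]
      exact h1.compl.isOpen
  refine ⟨⟨⋂ a, F a, hF⟩, ?_, ?_⟩
  · change σ ∈ ⋂ a, F a
    rw [Set.mem_iInter]
    intro a
    by_cases h : σ ∈ E D i a
    · simp only [F, h, if_true]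
    · simp only [F, h, if_false, Set.mem_compl_iff, not_false_eq_true]
  · intro a
    by_cases h : σ ∈ E D i a
    · left
      refine (Set.iInter_subset F a).trans ?_
      simp only [F, h, if_true]
      exact subset_rfl
    · right
      refine (Set.iInter_subset F a).trans ?_
      simp only [F, h, if_false]
      exact subset_rfl

/-- **Comparison over an arbitrary base.** -/
theorem exists_le [IsImmersion i.left] [Smooth H.hom]
    (hconn : _root_.RedSub.HasConnectedFibres H) (t : D.T ⟶ H) (ht : t ≫ i = D.i)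
    {H₂ : Over S} [GrpObj H₂] (i₂ : H₂ ⟶ G) [IsMonHom i₂] [IsImmersion i₂.left] [Smooth H₂.hom]
    (t₂ : D.T ⟶ H₂) (ht₂ : t₂ ≫ i₂ = D.i) (hu : ∀ a, E D i a ⊆ E D i₂ a) :
    ∃ v : H ⟶ H₂, v ≫ i₂ = i := by
  have hm₂ : Mono i₂ := Over.mono_of_mono_left i₂
  refine H657.FacLoc.inP_of_local i₂ i fun σ => ?_
  obtain ⟨V, hV, hVE⟩ := exists_nhd_const D i t ht σ
  refine ⟨V, V.ι, inferInstance, inferInstance, ?_, ?_⟩
  · rw [Scheme.Opens.range_ι]
    exact hV
  have hne : Nonempty (V : Scheme.{u}) := ⟨⟨σ, hV⟩⟩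
  have ha : ∀ a, E (SplitBc264.splitBc V.ι D) ((Over.pullback V.ι).map i) a = ∅ ∨
      E (SplitBc264.splitBc V.ι D) ((Over.pullback V.ι).map i) a = Set.univ := by
    intro a
    rw [E_bc]
    rcases hVE a with h | h
    · right
      rw [Set.eq_univ_iff_forall]
      intro x
      exact h x.2
    · left
      rw [Set.eq_empty_iff_forall_notMem]
      intro x hx
      exact h x.2 hx
  have k1 := H641.TypeRBc.isSubgrp_bc V.ι (i := i) ⟨inferInstance, inferInstance⟩
  have k2 := H641.TypeRBc.isSubgrp_bc V.ι (i := i₂) ⟨inferInstance, inferInstance⟩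
  have k3 : IsImmersion ((Over.pullback V.ι).map i).left := k1.2
  have k4 : IsImmersion ((Over.pullback V.ι).map i₂).left := k2.2
  have k5 : Smooth (Red.bc V.ι H).hom := inferInstanceAs (Smooth (pullback.snd _ _))
  have k6 : Smooth (Red.bc V.ι H₂).hom := inferInstanceAs (Smooth (pullback.snd _ _))
  have k7 : Mono ((Over.pullback V.ι).map i₂) := inferInstance
  have ht' : (Over.pullback V.ι).map t ≫ (Over.pullback V.ι).map i = (SplitBc264.splitBc V.ι D).i := by
    rw [← Functor.map_comp, ht]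
    rfl
  have ht₂' : (Over.pullback V.ι).map t₂ ≫ (Over.pullback V.ι).map i₂ = (SplitBc264.splitBc V.ι D).i := by
    rw [← Functor.map_comp, ht₂]
    rfl
  refine exists_le_of_const (SplitBc264.splitBc V.ι D) ((Over.pullback V.ι).map i)
    (H641.TypeRBc.hasConnectedFibres_bc V.ι hconn) ((Over.pullback V.ι).map t) ht' ha
    ((Over.pullback V.ι).map i₂) ((Over.pullback V.ι).map t₂) ht₂' ?_
  intro a hEa
  refine exists_lift_u (SplitBc264.splitBc V.ι D) ((Over.pullback V.ι).map i₂) ((Over.pullback V.ι).map t₂) ht₂' a ?_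
  rw [Set.eq_univ_iff_forall] at hEa ⊢
  intro x
  have h1 := hEa x
  rw [E_bc] at h1 ⊢
  exact hu a h1

/-- Two subgroups of type (R) containing the torus of a splitting, with the same tangent loci, coincide. -/
theorem exists_iso {H₁ H₂ : Over S} [GrpObj H₁] [GrpObj H₂] (h₁ : H₁ ⟶ G) (h₂ : H₂ ⟶ G)
    (t₁ : D.T ⟶ H₁) (t₂ : D.T ⟶ H₂) (hR₁ : _root_.RedSub.IsTypeR h₁) (hR₂ : _root_.RedSub.IsTypeR h₂)
    (ht₁ : t₁ ≫ h₁ = D.i) (ht₂ : t₂ ≫ h₂ = D.i)
    (h : ∀ a, E D h₁ a = E D h₂ a) :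
    ∃ e : H₁ ≅ H₂, e.hom ≫ h₂ = h₁ := by
  obtain ⟨⟨hm₁, hi₁⟩, hs₁, -, hc₁, -⟩ := hR₁
  obtain ⟨⟨hm₂, hi₂⟩, hs₂, -, hc₂, -⟩ := hR₂
  have hmono₁ : Mono h₁ := Over.mono_of_mono_left h₁
  have hmono₂ : Mono h₂ := Over.mono_of_mono_left h₂
  obtain ⟨v, hv⟩ := exists_le D h₁ hc₁ t₁ ht₁ h₂ t₂ ht₂ (fun a => (h a).le)
  obtain ⟨w, hw⟩ := exists_le D h₂ hc₂ t₂ ht₂ h₁ t₁ ht₁ (fun a => (h a).ge)
  refine ⟨⟨v, w, ?_, ?_⟩, hv⟩
  · rw [← cancel_mono h₁, Category.assoc, hw, hv, Category.id_comp]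
  · rw [← cancel_mono h₂, Category.assoc, hv, hw, Category.id_comp]

end le

end K196.Le
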