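import Groth.Agent.RedSub.K196.Le
import Groth.Prelude.Def_LieS

/-!
# Tangent roots and the functor Lie of `Def_LieS`
-/

set_option autoImplicit false
universe u

open CategoryTheory MonoidalCategory CartesianMonoidalCategory MonObj GrpObj AlgebraicGeometry Limits

namespace K196.LieTg

open Groth.Agent.Sga3B Groth.Agent.Sga3B.PinMod Groth.Agent.RedSub Groth.Agent.RedSub.H635 Uniq DSPts GaPts

variable {S : Scheme.{u}} {G H H' : Over S} [GrpObj G] [GrpObj H] [GrpObj H']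

/-- An infinitesimal point of `G` lying in `H` comes from `Lie H`. -/
lemma mem_range_iff (h : H ⟶ G) [IsMonHom h] [Mono h] (B : Type u) [CommRing B] (f : Spec (CommRingCat.of B) ⟶ S)
    (w : LieS.Lie G B f) : w ∈ (LieS.map B f h).range ↔ ∃ v : LieS.dpt B f ⟶ H, v ≫ h = w.1 := by
  constructor
  · rintro ⟨v, rfl⟩
    exact ⟨v.1, rfl⟩
  · rintro ⟨v, hv⟩
    have h1 : LieS.zeroSec B f ≫ v = 1 := by
      rw [← cancel_mono h, Category.assoc, hv, (LieS.mem_Lie_iff G B f w.1).1 w.2]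
      exact (MonObj.one_comp h).symm
    exact ⟨⟨v, h1⟩, Subtype.ext hv⟩

lemma range_le_of_le (h : H ⟶ G) (h' : H' ⟶ G) [IsMonHom h] [IsMonHom h'] [Mono h] [Mono h'] (e : H ⟶ H')
    (he : e ≫ h' = h) (B : Type u) [CommRing B] (f : Spec (CommRingCat.of B) ⟶ S) :
    (LieS.map B f h).range ≤ (LieS.map B f h').range := by
  intro w hw
  rw [mem_range_iff] at hw ⊢
  obtain ⟨v, hv⟩ := hw
  exact ⟨v ≫ e, by rw [Category.assoc, he, hv]⟩

/-- the points of `𝔾_a` with coordinate `ε` are infinitesimal -/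
lemma zeroSec_gaPt (B : Type u) [CommRing B] (f : Spec (CommRingCat.of B) ⟶ S)
    (z : Γ((LieS.dpt B f).left, ⊤)) (hz : (LieS.zeroSec B f).left.appTop z = 0) (u : Red.Ga S ⟶ G) [IsMonHom u] :
    gaPt (LieS.dpt B f) z ≫ u ∈ LieS.Lie G B f := by
  rw [LieS.mem_Lie_iff, ← Category.assoc, comp_gaPt, hz]
  have h1 : gaPt (LieS.pt B f) 0 = 1 := by
    apply gaFn_injective
    rw [gaFn_gaPt, gaFn_one]
  rw [h1]
  exact MonObj.one_comp u

/-- Equality of Lie algebras gives equality of tangent roots. -/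
theorem tg_of_range_le (h : H ⟶ G) (h' : H' ⟶ G) [IsMonHom h] [IsMonHom h'] [Mono h] [Mono h']
    {U : Scheme.{u}} (f : U ⟶ S) (D : Red.SplitRed (Red.bc f G)) (a : D.idx) (K : Type u) [Field K]
    (x : Spec (CommRingCat.of K) ⟶ U) (hL : (LieS.map K (x ≫ f) h).range ≤ (LieS.map K (x ≫ f) h').range)
    (hT : Tg D ((Over.pullback f).map h) a K x) : Tg D ((Over.pullback f).map h') a K x := by
  let X : Over U := tB x (TrivSqZeroExt K K)
  let g : X ⟶ Red.bc f G := gaPt X (fnOf x (TrivSqZeroExt.inr 1)) ≫ D.u a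
  let g' : (Over.map f).obj X ⟶ G := (BcPts.bcEquiv f X G).symm g
  have hg : BcPts.bcEquiv f X G g' = g := Equiv.apply_symm_apply _ _
  have h1 : (∃ v : (Over.map f).obj X ⟶ H, v ≫ h = g') := by
    rw [← K196.Le.lift_bc_iff f h g', hg]
    exact hT
  have h2 : (∃ v : (Over.map f).obj X ⟶ H', v ≫ h' = g') → Tg D ((Over.pullback f).map h') a K x := by
    intro h3
    rw [← K196.Le.lift_bc_iff f h' g', hg] at h3
    exact h3
  apply h2
  -- transport to `dpt`
  let ε : LieS.dpt K (x ≫ f) ≅ (Over.map f).obj X := Over.isoMk (Iso.refl _) (by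
    change 𝟙 _ ≫ (Spec.map (CommRingCat.ofHom (algebraMap K (TrivSqZeroExt K K))) ≫ x) ≫ f =
      Spec.map (CommRingCat.ofHom (algebraMap K (TrivSqZeroExt K K))) ≫ x ≫ f
    rw [Category.id_comp, Category.assoc])
  let w : LieS.dpt K (x ≫ f) ⟶ G := ε.hom ≫ g'
  have hw : w ∈ LieS.Lie G K (x ≫ f) := by
    rw [LieS.mem_Lie_iff]
    let X₀ : Over U := Over.mk x
    let z₀ : X₀ ⟶ X := Over.homMk (Spec.map (CommRingCat.ofHom (TrivSqZeroExt.fstHom K K K).toRingHom)) (by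
      change Spec.map _ ≫ Spec.map _ ≫ x = x
      rw [← Category.assoc, LieS.specMap_comp, LieS.fstHom_comp_algebraMap, CommRingCat.ofHom_id]
      erw [Spec.map_id]
      exact Category.id_comp x)
    let ε₀ : LieS.pt K (x ≫ f) ≅ (Over.map f).obj X₀ := Iso.refl _
    have h3 : LieS.zeroSec K (x ≫ f) ≫ ε.hom = ε₀.hom ≫ (Over.map f).map z₀ := by
      ext1
      change (LieS.zeroSec K (x ≫ f)).left ≫ 𝟙 _ = 𝟙 _ ≫ z₀.left
      rw [Category.comp_id, Category.id_comp]
      rfl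
    have h4 : z₀ ≫ g = 1 := by
      change z₀ ≫ gaPt X (fnOf x (TrivSqZeroExt.inr 1)) ≫ D.u a = 1
      rw [← Category.assoc, comp_gaPt]
      have h5 : z₀.left.appTop (fnOf x (TrivSqZeroExt.inr (1 : K) : TrivSqZeroExt K K)) = 0 := by
        have h6 := appTop_fnOf x ((TrivSqZeroExt.fstHom K K K) : TrivSqZeroExt K K →ₐ[K] K)
          (TrivSqZeroExt.inr (1 : K))
        have h7 : (TrivSqZeroExt.fstHom K K K) (TrivSqZeroExt.inr (1 : K)) = 0 := rfl
        rw [h7] at h6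
        have h8 : fnOf (B := K) x 0 = 0 := map_zero _
        rw [h8] at h6
        exact h6
      rw [h5]
      have h1 : gaPt X₀ 0 = 1 := by
        apply gaFn_injective
        rw [gaFn_gaPt, gaFn_one]
      rw [h1]
      exact MonObj.one_comp (D.u a)
    change LieS.zeroSec K (x ≫ f) ≫ ε.hom ≫ g' = 1
    rw [← Category.assoc, h3, Category.assoc]
    have h9 : (Over.map f).map z₀ ≫ g' = 1 := by
      apply (BcPts.bcEquiv f X₀ G).injective
      rw [BcPts.comp_bcEquiv, hg, h4, BcPts.bcEquiv_one]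
    rw [h9]
    exact MonObj.comp_one _
  have h5 : (⟨w, hw⟩ : LieS.Lie G K (x ≫ f)) ∈ (LieS.map K (x ≫ f) h).range := by
    rw [mem_range_iff]
    obtain ⟨v, hv⟩ := h1
    exact ⟨ε.hom ≫ v, by rw [Category.assoc, hv]⟩
  obtain ⟨v, hv⟩ := (mem_range_iff h' K (x ≫ f) _).1 (hL h5)
  refine ⟨ε.inv ≫ v, ?_⟩
  rw [Category.assoc, hv]
  exact ε.inv_hom_id_assoc g'

end K196.LieTg
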