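import Groth.Agent.RedSub.K196.Nrm
import Groth.Agent.RedSub.K196.Comb
import Groth.Agent.RedSub.K195.Germs
import Groth.Agent.Sga3B.RootUniq829
import Groth.Agent.Sga3B.SplitReduced415

/-!
# A subgroup containing the torus normalises the unipotent group of a set of roots stable under its roots
-/

set_option autoImplicit false
set_option linter.unusedSectionVars false
universe u

open CategoryTheory MonoidalCategory CartesianMonoidalCategory MonObj GrpObj AlgebraicGeometry Limits

namespace K196.NormU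

open Groth.Agent.Sga3B Groth.Agent.Sga3B.Cell Groth.Agent.Sga3B.Cell.Datum Groth.Agent.Sga3B.PinMod
  Groth.Agent.Sga3B.DSPts Groth.Agent.Sga3B.GaPts
  Groth.Agent.RedSub Groth.Agent.RedSub.H635 ConjCoact Uniq SchNbd Wt Loc

section datum

variable {R A : Type u} [CommRing R] [CommRing A] [Algebra R A] [PtGrp R A] {D : Datum R A} (V : Sub R A)
variable {B : Type u} [CommRing B] [Algebra R B]

/-- `h` normalises `V` -/
def Nm (h : Pt R A B) : Prop := ∀ g, V.mem g → V.mem (h * g * h⁻¹)

variable {V}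

lemma Nm.one : Nm V (1 : Pt R A B) := fun g hg => by
  rw [_root_.one_mul, inv_one, _root_.mul_one]
  exact hg

lemma Nm.mul {h h' : Pt R A B} (hh : Nm V h) (hh' : Nm V h') : Nm V (h * h') := fun g hg => by
  have h1 := hh _ (hh' g hg)
  have h2 : h * h' * g * (h * h')⁻¹ = h * (h' * g * h'⁻¹) * h⁻¹ := by group
  rw [h2]
  exact h1

lemma Nm.list_prod {l : List (Pt R A B)} (hl : ∀ g ∈ l, Nm V g) : Nm V l.prod := by
  induction l with
  | nil => exact Nm.one
  | cons a l ih =>
    rw [List.prod_cons]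
    exact (hl a List.mem_cons_self).mul (ih fun g hg => hl g (List.mem_cons_of_mem _ hg))

lemma mem_list_prod {l : List (Pt R A B)} (hl : ∀ g ∈ l, V.mem g) : V.mem l.prod := by
  induction l with
  | nil => exact V.one_mem
  | cons a l ih =>
    rw [List.prod_cons]
    exact V.mul_mem (hl a List.mem_cons_self) (ih fun g hg => hl g (List.mem_cons_of_mem _ hg))

/-- the points generated by the root groups of the roots in `R'` -/
def Gen (D : Datum R A) (R' : Set D.idx) (B : Type u) [CommRing B] [Algebra R B] : Submonoid (Pt R A B) :=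
  Submonoid.closure {g | ∃ a ∈ R', ∃ z : B, g = D.uu a B z}

lemma nm_of_gen {R' : Set D.idx} (hV : ∀ g : Pt R A B, V.mem g → g ∈ Gen D R' B) {h : Pt R A B}
    (hh : ∀ a ∈ R', ∀ z : B, V.mem (h * D.uu a B z * h⁻¹)) : Nm V h := by
  have key : ∀ g ∈ Gen D R' B, V.mem (h * g * h⁻¹) := by
    intro g hg
    induction hg using Submonoid.closure_induction with
    | mem g hg =>
      obtain ⟨a, ha, z, rfl⟩ := hg
      exact hh a ha z
    | one =>
      rw [_root_.mul_one, mul_inv_cancel]
      exact V.one_mem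
    | mul x y _ _ hx hy =>
      have h2 : h * (x * y) * h⁻¹ = (h * x * h⁻¹) * (h * y * h⁻¹) := by group
      rw [h2]
      exact V.mul_mem hx hy
  exact fun g hg => key g (hV g hg)

lemma nm_i {R' : Set D.idx} (hV : ∀ g : Pt R A B, V.mem g → g ∈ Gen D R' B)
    (hV' : ∀ a ∈ R', ∀ z : B, V.mem (D.uu a B z)) (t : TPt D.M B) : Nm V (D.i B t) :=
  nm_of_gen hV fun a ha z => by
    rw [D.rel]
    exact hV' a ha _

lemma nm_uu (hG : D.Good) (P : RootPairing D.idx ℤ D.M (Module.Dual ℤ D.M)) (hP : ∀ a, P.root a = D.root a)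
    {R' R'' : Set D.idx}
    (hcl : ∀ a b c : D.idx, a ∈ R' → b ∈ R' → P.root a + P.root b = P.root c → c ∈ R')
    (hmix : ∀ a b c : D.idx, a ∈ R' → b ∈ R'' → P.root a + P.root b = P.root c → c ∈ R')
    (hred : ∀ (c d : D.idx) (n : ℕ), P.root c = (n : ℤ) • P.root d → n = 1)
    (hli : ∀ a ∈ R', ∀ b ∈ R'', b = a ∨ LinearIndependent ℤ ![P.root b, P.root a])
    (hV : ∀ g : Pt R A B, V.mem g → g ∈ Gen D R' B)
    (hV' : ∀ a ∈ R', ∀ z : B, V.mem (D.uu a B z)) {b : D.idx} (hb : b ∈ R'') (x : B) : Nm V (D.uu b B x) := by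
  refine nm_of_gen hV fun a ha z => ?_
  rcases hli a ha b hb with rfl | hli
  · rw [← D.uu_add, ← uu_neg, ← D.uu_add, add_assoc, add_comm z, ← add_assoc, add_neg_cancel, zero_add]
    exact hV' _ ha z
  obtain ⟨lam, N, hN, hlam⟩ := PinComb.exists_functional_of_linearIndependent ![P.root b, P.root a] hli
    (fun _ => 1)
  have h0 := hlam 0
  have h1 := hlam 1
  simp only [Matrix.cons_val_zero, Matrix.cons_val_one, _root_.mul_one] at h0 h1
  let L : List D.idx := Finset.univ.toList
  obtain ⟨δ, hδ, hδ0⟩ := hG L (Finset.nodup_toList _) (fun a => by simp [L])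
  obtain ⟨p, hp, hcomm⟩ := exists_commutator (D := D) hδ hδ0 b a lam (by rw [← hP, h0]; exact hN)
    (by rw [← hP, h1]; exact hN)
  have h2 := hcomm B ![x, z]
  simp only [Matrix.cons_val_zero, Matrix.cons_val_one] at h2
  rw [mul_inv_eq_iff_eq_mul] at h2
  rw [h2]
  refine V.mul_mem ?_ (hV' a ha z)
  unfold cell
  rw [map_one, _root_.mul_one]
  apply mem_list_prod
  intro g hg
  obtain ⟨c, -, rfl⟩ := List.mem_map.mp hg
  by_cases hpc : p c = 0
  · have h3 : D.uu c B ((fun b => (MvPolynomial.aeval ![x, z]) (p b)) c) = 1 := by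
      simp only [hpc, map_zero, uu_zero]
    rw [h3]
    exact V.one_mem
  · obtain ⟨n, hn⟩ := MvPolynomial.ne_zero_iff.mp hpc
    obtain ⟨h3, h4, h5⟩ := hp c n hn
    rw [← hP, ← hP, ← hP] at h5
    exact hV' c (Comb.mem_of_comb P hcl hmix ha hb hli hred _ _ _ rfl h3 h4 c h5) _

end datum

section scheme

variable {S : Scheme.{u}} {G H U : Over S} [GrpObj G] [GrpObj H] [GrpObj U] (D : Red.SplitRed G)
  (i : H ⟶ G) [IsMonHom i] (j : U ⟶ G) [IsMonHom j]

theorem nrm_of_roots [Nonempty S] [IsImmersion i.left] [Smooth H.hom] [Mono j.left]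
    (hconn : _root_.RedSub.HasConnectedFibres H) (t : D.T ⟶ H) (ht : t ≫ i = D.i) (hd : K195.Germs.Dich D i)
    (R' R'' : Set D.idx)
    (hcl : ∀ a b c : D.idx, a ∈ R' → b ∈ R' → D.P.root a + D.P.root b = D.P.root c → c ∈ R')
    (hmix : ∀ a b c : D.idx, a ∈ R' → b ∈ R'' → D.P.root a + D.P.root b = D.P.root c → c ∈ R')
    (hopp : ∀ a ∈ R', ∀ b ∈ R'', D.P.root b ≠ -D.P.root a)
    (hR'' : ∀ b, E D i b = ∅ ∨ b ∈ R'')
    (hU' : ∀ a ∈ R', ∃ v : Red.Ga S ⟶ U, v ≫ j = D.u a)
    (hU : ∀ {R : Type u} [CommRing R] {s : Spec (CommRingCat.of R) ⟶ S} (c : Chart G s) {B : Type u}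
      [CommRing B] [Algebra R B] (g : Pt R c.A B), (sub c j).mem g → g ∈ Gen (c.datum D) R' B)
    {X : Over S} (y : X ⟶ H) : Nrm j i X y := by
  have hmono : Mono j := Over.mono_of_mono_left j
  have hPred : D.P.IsReduced := SplitReduced415.isReduced D
  have hrefl : Module.IsReflexive ℤ D.M := .of_isPerfPair D.P.toLinearMap
  have htf : IsAddTorsionFree D.M := .of_isTorsionFree ℤ D.M
  have hred : ∀ (c d : D.idx) (n : ℕ), D.P.root c = (n : ℤ) • D.P.root d → n = 1 := by
    intro c d n h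
    have h0 : n ≠ 0 := by
      rintro rfl
      exact D.P.ne_zero c (by rw [h, Nat.cast_zero, zero_smul])
    by_contra hn
    have : n.AtLeastTwo := ⟨by omega⟩
    refine D.P.nsmul_notMem_range_root (n := n) (i := d) ⟨c, ?_⟩
    rw [h, natCast_zsmul]
  have hli : ∀ a ∈ R', ∀ b ∈ R'', b = a ∨ LinearIndependent ℤ ![D.P.root b, D.P.root a] := by
    intro a ha b hb
    by_cases h : LinearIndependent ℤ ![D.P.root b, D.P.root a]
    · exact Or.inr h
    · left
      rcases RootPairing.IsReduced.eq_or_eq_neg b a h with h1 | h1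
      · exact D.P.root.injective h1
      · exact absurd h1 (hopp a ha b hb)
  let L : List D.idx := Finset.univ.toList
  obtain ⟨ξ, R, _, s, c, E', _, _, w, x, τ, hw, hσ, hx, hwi⟩ := K195.Germs.exists_germs D i t ht hd L
    (Finset.nodup_toList _) (fun a => by simp [L])
  refine Nrm.of_germs hconn (fun k => tB (s k) (E' k)) w (fun k => ?_) (fun k => ?_) hσ (fun k => ?_) y
  · have := hw k
    infer_instance
  · have := hw k
    infer_instance
  · intro X' f z
    obtain ⟨v, hv⟩ := OverAff.exists_fac_over j ((f ≫ w k ≫ i) * (z ≫ j) * (f ≫ w k ≫ i)⁻¹) f (by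
      intro B _ _ ψ φ hψ
      let h : Pt (R k) (c k).A B := ((c k).datum D).cell L (fun a => φ (x k a)) (TPt.map φ (τ k))
      have hh : (c k).pts B h = ψ ≫ f ≫ w k ≫ i := by
        rw [hwi k, ← Category.assoc, hψ, (c k).pts_nat, cell_nat]
      let g : Pt (R k) (c k).A B := ((c k).pts B).symm (ψ ≫ z ≫ j)
      have hg : (c k).pts B g = ψ ≫ z ≫ j := MulEquiv.apply_symm_apply _ _
      have hgV : (sub (c k) j).mem g := ⟨ψ ≫ z, by rw [hg, Category.assoc]⟩
      have hV' : ∀ a ∈ R', ∀ z : B, (sub (c k) j).mem (((c k).datum D).uu a B z) := by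
        intro a ha z
        obtain ⟨v, hv⟩ := hU' a ha
        rw [mem_sub, (c k).pts_uu]
        exact ⟨gaPt _ _ ≫ v, by rw [Category.assoc, hv]⟩
      have hnm : Nm (sub (c k) j) h := by
        change Nm (sub (c k) j) ((L.map (fun a => ((c k).datum D).uu a B (φ (x k a)))).prod * _)
        refine (Nm.list_prod ?_).mul (nm_i (D := (c k).datum D) (hU (c k)) hV' _)
        intro g hg
        obtain ⟨b, -, rfl⟩ := List.mem_map.mp hg
        rcases hR'' b with hb | hb
        · have h1 : ((c k).datum D).uu b B (φ (x k b)) = 1 := by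
            rw [hx k b hb, map_zero]
            exact uu_zero ((c k).datum D) b
          rw [h1]
          exact Nm.one
        · exact nm_uu (D := (c k).datum D) ((c k).good D) D.P (fun a => rfl) hcl hmix hred hli (hU (c k)) hV' hb _
      obtain ⟨v, hv⟩ := hnm g hgV
      refine ⟨v, ?_⟩
      rw [hv, map_mul, map_mul, map_inv, hh, hg, MonObj.comp_mul, MonObj.comp_mul, GrpObj.comp_inv])
    exact ⟨v, hv.symm⟩

end scheme

end K196.NormU
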