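import Groth.Agent.RedSub.H657.FacLoc
import Groth.Agent.Sga3B.PinModel

/-!
# Affine pieces of a scheme over `tB s E`
-/

set_option autoImplicit false
universe u

open CategoryTheory MonoidalCategory CartesianMonoidalCategory MonObj GrpObj AlgebraicGeometry Limits

namespace K196.OverAff

open Groth.Agent.Sga3B Groth.Agent.Sga3B.PinMod Groth.Agent.RedSub

variable {S : Scheme.{u}} {R : Type u} [CommRing R] {s : Spec (CommRingCat.of R) ⟶ S}
  {E : Type u} [CommRing E] [Algebra R E]

/-- every point of a scheme over `tB s E` has an affine open neighbourhood of the form `tB s B` -/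
theorem exists_affine_over {X : Over S} (f : X ⟶ tB s E) (p : X.left) :
    ∃ (B : Type u) (_ : CommRing B) (_ : Algebra R B) (ψ : tB s B ⟶ X) (φ : E →ₐ[R] B),
      IsOpenImmersion ψ.left ∧ p ∈ Set.range ψ.left ∧ ψ ≫ f = tMap s φ := by
  let d := X.left.affineOpenCover
  obtain ⟨k, r, hr⟩ := d.openCover.exists_eq p
  let g : Spec (CommRingCat.of (d.X k)) ⟶ X.left := d.f k
  have hg : IsOpenImmersion g := inferInstanceAs (IsOpenImmersion (d.f k))
  obtain ⟨φ₀, hφ₀⟩ := Spec.map_surjective (g ≫ f.left)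
  let _ : Algebra R (d.X k) := (φ₀.hom.comp (algebraMap R E)).toAlgebra
  let φ : E →ₐ[R] (d.X k) := { φ₀.hom with commutes' := fun _ => rfl }
  have h1 : CommRingCat.ofHom (algebraMap R (d.X k)) = CommRingCat.ofHom (algebraMap R E) ≫ φ₀ := rfl
  refine ⟨d.X k, inferInstance, inferInstance, Over.homMk g ?_, φ, hg, ⟨r, hr⟩, ?_⟩
  · change g ≫ X.hom = Spec.map (CommRingCat.ofHom (algebraMap R (d.X k))) ≫ s
    rw [h1, Spec.map_comp, hφ₀, ← Over.w f]
    simp only [Category.assoc]
    rfl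
  · apply Over.OverMorphism.ext
    rw [Over.comp_left, tMap_left]
    exact hφ₀.symm

/-- Factoring through a monomorphism may be checked on such pieces. -/
theorem exists_fac_over {X K G : Over S} (k : K ⟶ G) [Mono k.left] (g : X ⟶ G) (f : X ⟶ tB s E)
    (h : ∀ {B : Type u} [CommRing B] [Algebra R B] (ψ : tB s B ⟶ X) (φ : E →ₐ[R] B), ψ ≫ f = tMap s φ →
      ∃ v : tB s B ⟶ K, v ≫ k = ψ ≫ g) :
    ∃ v : X ⟶ K, v ≫ k = g := by
  obtain ⟨z, hz⟩ := H657.FacLoc.exists_fac_of_local g.left k.left fun p => by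
    obtain ⟨B, _, _, ψ, φ, hψ, hp, hψf⟩ := exists_affine_over f p
    obtain ⟨v, hv⟩ := h ψ φ hψf
    refine ⟨_, ψ.left, inferInstance, inferInstance, hp, v.left, ?_⟩
    rw [← Over.comp_left, hv, Over.comp_left]
  refine ⟨Over.homMk z ?_, ?_⟩
  · rw [← Over.w k, ← Category.assoc, hz, Over.w g]
  · ext1
    exact hz

end K196.OverAff
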