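import Groth.Agent.RedSub.K196.GermProd
import Groth.Agent.RedSub.K196.OverAff

/-!
# Points normalising a subgroup functor

`Nrm j i X y` : the point `y` of `H` conjugates `U` into itself (after every base change).
-/

set_option autoImplicit false
universe u

open CategoryTheory MonoidalCategory CartesianMonoidalCategory MonObj GrpObj AlgebraicGeometry Limits

namespace K196

open Groth.Agent Groth.Agent.RedSub

variable {S : Scheme.{u}} {G H U : Over S} [GrpObj G] [GrpObj H] [GrpObj U] (j : U ⟶ G) (i : H ⟶ G)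

/-- `y` conjugates `U` into itself -/
def Nrm (X : Over S) (y : X ⟶ H) : Prop := ∀ (X' : Over S) (f : X' ⟶ X) (x : X' ⟶ U),
  ∃ x' : X' ⟶ U, (f ≫ y ≫ i) * (x ≫ j) * (f ≫ y ≫ i)⁻¹ = x' ≫ j

variable {j i}

omit [GrpObj H] [GrpObj U] in
lemma Nrm.bc {X Y : Over S} (f : Y ⟶ X) (y : X ⟶ H) (h : Nrm j i X y) : Nrm j i Y (f ≫ y) := by
  intro X' g x
  obtain ⟨x', hx'⟩ := h X' (g ≫ f) x
  exact ⟨x', by rw [← hx']; simp only [Category.assoc]⟩

omit [GrpObj U] in
lemma Nrm.mul [IsMonHom i] {X : Over S} (y y' : X ⟶ H) (h : Nrm j i X y) (h' : Nrm j i X y') :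
    Nrm j i X (y * y') := by
  intro X' f x
  obtain ⟨x', hx'⟩ := h' X' f x
  obtain ⟨x'', hx''⟩ := h X' f x'
  refine ⟨x'', ?_⟩
  rw [← hx'', ← hx', MonObj.mul_comp, MonObj.comp_mul]
  simp only [_root_.mul_assoc, _root_.mul_inv_rev]

omit [GrpObj H] [GrpObj U] in
lemma Nrm.loc [Mono j] {X Y : Over S} (f : Y ⟶ X) (y : X ⟶ H) (h1 : Surjective f.left) (h2 : Flat f.left)
    (h3 : LocallyOfFinitePresentation f.left) (h : Nrm j i Y (f ≫ y)) : Nrm j i X y := by
  intro X' g x
  let Z := pullback g f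
  let p : Z ⟶ X' := pullback.fst g f
  let q : Z ⟶ Y := pullback.snd g f
  have hpq : p ≫ g = q ≫ f := pullback.condition
  have hP : IsPullback p.left q.left g.left f.left := (IsPullback.of_hasPullback g f).map (Over.forget S)
  have k1 : Surjective p.left := MorphismProperty.of_isPullback (P := @Surjective) hP.flip h1
  have k2 : Flat p.left := MorphismProperty.of_isPullback (P := @Flat) hP.flip h2
  have k3 : LocallyOfFinitePresentation p.left :=
    MorphismProperty.of_isPullback (P := @LocallyOfFinitePresentation) hP.flip h3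
  obtain ⟨x', hx'⟩ := h Z q (p ≫ x)
  obtain ⟨z, hz⟩ := Sga3C.CWGroup.exists_lift_of_fppf j ((g ≫ y ≫ i) * (x ≫ j) * (g ≫ y ≫ i)⁻¹) p x' (by
    have e1 : q ≫ (f ≫ y) ≫ i = p ≫ g ≫ y ≫ i := by
      rw [← Category.assoc p, hpq]
      simp only [Category.assoc]
    rw [← hx', MonObj.comp_mul, MonObj.comp_mul, GrpObj.comp_inv, e1, Category.assoc])
  exact ⟨z, hz.symm⟩

omit [GrpObj H] [GrpObj U] in
/-- compatibility with coproducts -/
lemma Nrm.sigma [Mono j.left] {ξ : Type u} (W : ξ → Over S) (q : ∀ k, W k ⟶ H) (h : ∀ k, Nrm j i (W k) (q k))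
    (Y : Over S) (hY : Y.left = ∐ fun k => (W k).left) (Q : Y ⟶ H)
    (incl : ∀ k, W k ⟶ Y) (hι : ∀ k, incl k ≫ Q = q k) (hι' : ∀ k, IsOpenImmersion (incl k).left)
    (hcov : ∀ z : Y.left, ∃ k, z ∈ Set.range (incl k).left) : Nrm j i Y Q := by
  intro X' f x
  obtain ⟨z, hz⟩ := H657.FacLoc.exists_fac_of_local ((f ≫ Q ≫ i) * (x ≫ j) * (f ≫ Q ≫ i)⁻¹).left j.left fun p => by
    obtain ⟨k, y, hy⟩ := hcov (f.left p)
    let Z := pullback f (incl k)
    let a : Z ⟶ X' := pullback.fst f (incl k)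
    let b : Z ⟶ W k := pullback.snd f (incl k)
    have hab : a ≫ f = b ≫ incl k := pullback.condition
    have hP : IsPullback a.left b.left f.left (incl k).left := (IsPullback.of_hasPullback f (incl k)).map (Over.forget S)
    have k1 : IsOpenImmersion a.left := MorphismProperty.of_isPullback (P := @IsOpenImmersion) hP.flip (hι' k)
    have hmem : p ∈ Set.range a.left := by
      obtain ⟨w, hw1, -⟩ := Scheme.Pullback.exists_preimage_pullback (f := f.left) (g := (incl k).left) p y hy.symm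
      refine ⟨hP.isoPullback.inv w, ?_⟩
      rw [← Scheme.Hom.comp_apply, hP.isoPullback_inv_fst]
      exact hw1
    obtain ⟨x', hx'⟩ := h k Z b (a ≫ x)
    refine ⟨_, a.left, inferInstance, inferInstance, hmem, x'.left, ?_⟩
    rw [← Over.comp_left, ← hx', ← Over.comp_left, MonObj.comp_mul, MonObj.comp_mul, GrpObj.comp_inv, ← hι k]
    have e1 : b ≫ (incl k ≫ Q) ≫ i = a ≫ f ≫ Q ≫ i := by
      rw [Category.assoc, ← Category.assoc b, ← hab, Category.assoc]
    rw [e1, Category.assoc]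
  refine ⟨Over.homMk z ?_, ?_⟩
  · rw [← Over.w j, ← Category.assoc, hz]
    exact Over.w _
  · ext1
    exact hz.symm

omit [GrpObj U] in
/-- a point is in the normaliser as soon as it is on a family of germs meeting the fibres -/
theorem Nrm.of_germs [IsMonHom i] [Mono j.left] [Mono j] [Smooth H.hom] (hH : _root_.RedSub.HasConnectedFibres H)
    {ξ : Type u} (W : ξ → Over S) (q : ∀ k, W k ⟶ H) (hq : ∀ k, Flat (q k).left)
    (hq' : ∀ k, LocallyOfFinitePresentation (q k).left) (hW : ∀ s : S, ∃ k, ∃ z : (W k).left, (W k).hom z = s)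
    (h : ∀ k, Nrm j i (W k) (q k)) {X : Over S} (y : X ⟶ H) : Nrm j i X y := by
  let Y : Over S := Over.mk (Sigma.desc fun k => (W k).hom)
  let Q : Y ⟶ H := Over.homMk (Sigma.desc fun k => (q k).left) (by
    apply Sigma.hom_ext
    intro k
    simp [Y])
  let incl : ∀ k, W k ⟶ Y := fun k => Over.homMk (Sigma.ι (fun k => (W k).left) k) (by simp [Y])
  have hι : ∀ k, incl k ≫ Q = q k := by
    intro k
    apply Over.OverMorphism.ext
    simp [incl, Q]
  have hι' : ∀ k, IsOpenImmersion (incl k).left := fun k =>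
    inferInstanceAs (IsOpenImmersion (Sigma.ι (fun k => (W k).left) k))
  have hcov : ∀ z : Y.left, ∃ k, z ∈ Set.range (incl k).left := by
    intro z
    obtain ⟨k, w, hw⟩ := (sigmaOpenCover fun k => (W k).left).exists_eq z
    exact ⟨k, w, hw⟩
  have hQ1 : Flat Q.left := IsZariskiLocalAtSource.sigmaDesc hq
  have hQ2 : LocallyOfFinitePresentation Q.left := IsZariskiLocalAtSource.sigmaDesc hq'
  refine GermProd.forall_of_germ hH (Nrm j i) Nrm.bc Nrm.loc Nrm.mul Q ?_ ?_ y
  · intro s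
    obtain ⟨k, z, hz⟩ := hW s
    refine ⟨(incl k).left z, ?_⟩
    have h1 : (incl k).left ≫ Y.hom = (W k).hom := Over.w _
    rw [← hz, ← h1]
    rfl
  · exact Nrm.sigma W q h Y rfl Q incl hι hι' hcov

end K196
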