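import Groth.Agent.RedSub.K196.Le
import Groth.Agent.RedSub.H634.BorelStd
import Groth.Agent.RedSub.H633.CellPtsR
import Groth.Agent.RedSub.H633.SortedCell
import Groth.Agent.RedSub.H637.PosRoots

/-!
# Subgroups of type (R) with positive roots are contained in the standard Borel subgroup
-/

set_option autoImplicit false
set_option linter.unusedSectionVars false
universe u

open CategoryTheory MonoidalCategory CartesianMonoidalCategory MonObj GrpObj AlgebraicGeometry Limits

namespace K196.PosLe

open Groth.Agent.Sga3B Groth.Agent.Sga3B.Cell Groth.Agent.Sga3B.Cell.Datum Groth.Agent.Sga3B.Parab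
  Groth.Agent.Sga3B.Par Groth.Agent.RedSub Groth.Agent.RedSub.H635 Uniq SchNbd Wt Loc
  Groth.Agent.RedSub.H634 Groth.Agent.RedSub.H634.TorusCent Groth.Agent.RedSub.H634.BorelCoord
  Groth.Agent.RedSub.H633

variable {S : Scheme.{u}} {G H : Over S} [GrpObj G] [GrpObj H] (D : Red.SplitRed G) (i : H ⟶ G) [IsMonHom i]

/-- A smooth immersed subgroup with connected fibres containing the torus, all of whose tangent roots are positive,
is contained in the standard Borel subgroup. -/
theorem exists_le_borelMap [IsImmersion i.left] [Smooth H.hom]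
    (hconn : _root_.RedSub.HasConnectedFibres H) (t : D.T ⟶ H) (ht : t ≫ i = D.i) (b : D.P.Base)
    (hE : ∀ a, (E D i a).Nonempty → a ∈ _root_.RedSub.posRoots D.P b) {m : ℕ} (epos : Fin m → D.idx)
    (hpos : _root_.RedSub.Enumerates (_root_.RedSub.posRoots D.P b) epos) :
    ∃ v : H ⟶ D.T ⊗ _root_.RedSub.pow (Red.Ga S) m, v ≫ _root_.RedSub.borelMap D epos = i := by
  have hGa : IsAffineHom G.hom := D.reductive.1
  obtain ⟨x, hx, hxpos⟩ := BorelStd.exists_functional b
  obtain ⟨P, _, p, hP, -⟩ := DynExist998.exists_isDynP (lam := coch D x)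
  have hB := BorelStd.isBorel_of_isDynP D x hx hP
  obtain ⟨f, hf⟩ := exists_iso D x hx hP epos hpos.1 (fun a => by rw [hpos.2]; exact hxpos a)
  have h0 : coch D x = BorRP478.coch D x.toAddMonoidHom := by
    rw [coch, cochT, Category.assoc]
  have hp1 : IsMonHom p := hB.1
  have hp2 : IsClosedImmersion p.left := hB.2.1
  have hp3 : Smooth P.hom := hB.2.2.1
  obtain ⟨tP, htP⟩ := (hP.iff_ptP _ D.i).2 (fun C _ c y => (orbConst_torus D x y).limEx)
  have hu : ∀ a, E D i a ⊆ E D p a := by
    intro a σ hσ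
    have h1 : a ∈ _root_.RedSub.posRoots D.P b := hE a ⟨σ, hσ⟩
    have h2 : 0 ≤ x (D.P.root a) := ((hxpos a).mp h1).le
    obtain ⟨v, hv⟩ := (hP.iff_ptP _ (D.u a)).2 (by
      have h3 := BorRP478.ptP_u D x.toAddMonoidHom (𝟙 (Red.Ga S)) a h2
      rw [Category.id_comp] at h3
      rw [h0]
      exact h3)
    exact mem_E_of_lift D p a ⟨v, hv⟩ σ
  obtain ⟨v, hv⟩ := Le.exists_le D i hconn t ht p tP htP hu
  refine ⟨v ≫ f.inv, ?_⟩
  rw [Category.assoc, ← hf, Iso.inv_hom_id_assoc, hv]

/-- **Points of a subgroup with positive roots are products of positive root group elements and a torus element.** -/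
theorem exists_cell_of_pos [IsImmersion i.left] [Smooth H.hom]
    (hconn : _root_.RedSub.HasConnectedFibres H) (t : D.T ⟶ H) (ht : t ≫ i = D.i) (b : D.P.Base)
    (hE : ∀ a, (E D i a).Nonempty → a ∈ _root_.RedSub.posRoots D.P b)
    {R : Type u} [CommRing R] {s : Spec (CommRingCat.of R) ⟶ S} (c : Chart G s)
    {L : List D.idx} (hL : L.Nodup) (hL' : ∀ a, a ∈ L)
    {B : Type u} [CommRing B] [Algebra R B] {g : Pt R c.A B} (hg : (sub c i).mem g) :
    ∃ (y : D.idx → B) (τ : TPt D.M B), (∀ a, a ∉ _root_.RedSub.posRoots D.P b → y a = 0) ∧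
      g = (c.datum D).cell L y τ := by
  obtain ⟨m, epos, hpos⟩ := H637.PosRoots.exists_enumerates (_root_.RedSub.posRoots D.P b)
  obtain ⟨v, hv⟩ := exists_le_borelMap D i hconn t ht b hE epos hpos
  obtain ⟨w, hw⟩ := hg
  obtain ⟨τ, z, hz⟩ := CellPtsR.exists_srcPtB D s (w ≫ v)
  have h1 : g = (c.datum D).i B τ * (List.ofFn fun l => (c.datum D).uu (epos l) B (z l)).prod := by
    apply (c.pts B).injective
    rw [← hw, ← hv, ← CellPtsR.srcPt_borelMap, ← hz, Category.assoc]
  obtain ⟨x, hx, hxpos⟩ := BorelStd.exists_functional b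
  let lam : D.M →+ ℤ := x.toAddMonoidHom
  have hr : ∀ a, a ∉ Set.range epos ↔ lam (D.P.root a) ≤ 0 := by
    intro a
    rw [hpos.2, hxpos a, not_lt]
    rfl
  have hcell : (List.ofFn fun l => (c.datum D).uu (epos l) B (z l)).prod =
      (c.datum D).cell (full (D := c.datum D) epos) (ext0 (D := c.datum D) epos z) 1 := by
    rw [cell_full (D := c.datum D) epos (fun a ha => ext0_of_not (D := c.datum D) z ha)]
    congr 2
    funext k
    rw [ext0_apply (D := c.datum D) hpos.1]
  have hUP : (List.ofFn fun l => (c.datum D).uu (epos l) B (z l)).prod ∈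
      (c.datum D).UP L (fun a => lam ((c.datum D).root a)) B := by
    have hc := SortedCell.UP_congr_of_good (D := c.datum D) (B := B) (c.good D) lam hL hL'
      (full_nodup (D := c.datum D) hpos.1) (mem_full (D := c.datum D) epos)
    rw [Set.ext_iff] at hc
    refine (hc _).mpr ⟨ext0 (D := c.datum D) epos z, ?_, hcell⟩
    intro a ha
    exact ext0_of_not (D := c.datum D) z ((hr a).mpr ha)
  obtain ⟨y, hy, hyp⟩ := hUP
  -- move the torus element to the right
  refine ⟨fun a => TPt.ch ((c.datum D).root a) τ * y a, τ, ?_, ?_⟩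
  · intro a ha
    have h2 : lam ((c.datum D).root a) ≤ 0 := by
      rw [← hpos.2] at ha
      exact (hr a).mp ha
    simp only [hy a h2, mul_zero]
  · have h4 := i_mul_cell (c.datum D) L y 1 τ
    rw [h1, hyp, h4]
    exact congrArg (fun σ : TPt D.M B => (c.datum D).cell L (fun a => TPt.ch ((c.datum D).root a) τ * y a) σ)
      (_root_.mul_one τ)

end K196.PosLe
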