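import Groth.Agent.RedSub.K196.PosLe
import Groth.Agent.RedSub.K196.Inter
import Groth.Agent.RedSub.K196.Dict

/-!
# Points of a subgroup of type (R) whose roots are positive

Over a connected base, `H` smooth immersed with connected fibres containing the torus of a splitting, all roots of `H`
positive: the points of `H` in a chart are the products of root group elements with coordinates supported on the roots
of `H` and a torus element (roots in any order).
-/

set_option autoImplicit false
set_option linter.unusedSectionVars false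
universe u

open CategoryTheory MonoidalCategory CartesianMonoidalCategory MonObj GrpObj AlgebraicGeometry Limits

namespace K196.PtsPos

open Groth.Agent.Sga3B Groth.Agent.Sga3B.Cell Groth.Agent.Sga3B.Cell.Datum Groth.Agent.Sga3B.PinMod
  Groth.Agent.RedSub Groth.Agent.RedSub.H635 Uniq SchNbd Wt Loc Groth.Agent.RedSub.H634

variable {S : Scheme.{u}} {G H : Over S} [GrpObj G] [GrpObj H] (D : Red.SplitRed G) (i : H ⟶ G) [IsMonHom i]

/-- **Points of a subgroup of type (R) with positive roots.** -/
theorem mem_iff_cell [ConnectedSpace S] [IsImmersion i.left] [Smooth H.hom]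
    (hconn : _root_.RedSub.HasConnectedFibres H) (t : D.T ⟶ H) (ht : t ≫ i = D.i) (b : D.P.Base) (R' : Set D.idx)
    (hR' : ∀ a : D.idx, (∃ v : Red.Ga S ⟶ H, v ≫ i = D.u a) ↔ a ∈ R') (hb : R' ⊆ _root_.RedSub.posRoots D.P b)
    {R : Type u} [CommRing R] {s : Spec (CommRingCat.of R) ⟶ S} [IsOpenImmersion s] (c : Chart G s)
    {L : List D.idx} (hL : L.Nodup) (hL' : ∀ a, a ∈ L)
    {B : Type u} [CommRing B] [Algebra R B] (g : Pt R c.A B) :
    (sub c i).mem g ↔ ∃ (y : D.idx → B) (τ : TPt D.M B), (∀ a, a ∉ R' → y a = 0) ∧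
      g = (c.datum D).cell L y τ := by
  constructor
  · intro hg
    obtain ⟨N, -, -, -⟩ := exists_nbd c i
    obtain ⟨y, τ, hy, hgy⟩ := PosLe.exists_cell_of_pos D i hconn t ht b
      (fun a ha => hb ((hR' a).mp (Dict.exists_of_nonempty D i t ht ha))) c hL hL' hg
    obtain ⟨lam, hlam, hlampos⟩ := BorelStd.exists_functional b
    have hy0 : ∀ a, lam.toAddMonoidHom ((c.datum D).root a) ≤ 0 → y a = 0 := by
      intro a ha
      apply hy
      intro h1
      exact absurd ((hlampos a).mp h1) (not_lt.mpr ha)
    refine ⟨y, τ, ?_, hgy⟩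
    refine Inter.coord_eq_zero (D := c.datum D) N (c.good D) lam.toAddMonoidHom hlam hL hL'
      (fun y => hT_sub D i c t ht y) (fun a => a ∈ R') ?_ ?_ hy0 τ (by rw [← hgy]; exact hg)
    · intro a ha C _ _ z
      exact Dict.mem_uu D i ((hR' a).mpr ha) c z
    · intro a ha
      exact Dict.exists_lin D i t ht (fun h2 => ha ((hR' a).mp h2)) s c N
  · rintro ⟨y, τ, hy, rfl⟩
    apply Dict.mem_cell D i t ht c L y τ
    intro a ha
    rw [hR']
    by_contra h
    exact ha (hy a h)

end K196.PtsPos
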