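import Groth.Agent.RedSub.K197.SecKer
import Groth.Agent.Sga3.H816.TorusDim
import Groth.Agent.CycA.ProdDim
import Groth.Agent.Sga3B.SplitBc264

/-!
# Split extensions: `G ≅ K × C` as schemes, and the dimension of the fibres of `K`
-/

set_option autoImplicit false
set_option linter.unusedSectionVars false
universe u

open CategoryTheory MonoidalCategory CartesianMonoidalCategory MonObj GrpObj AlgebraicGeometry Limits

namespace K196.SecProd

open K197.SecKer Groth.Agent.Sga3B

section iso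

variable {S : Scheme.{u}} {G C K : Over S} [GrpObj G] [GrpObj C]

theorem exists_iso (f : G ⟶ C) [IsMonHom f] (σ : C ⟶ G) (hσ : σ ≫ f = 𝟙 C)
    {k : K ⟶ G} (hk : AlgGrp.IsKernel k f) : Nonempty (G ≅ K ⊗ C) := by
  have hm := mono_of_isKernel hk
  have h2 : k ≫ f = 1 := comp_eq_one_of_isKernel hk
  have h1 : (𝟙 G * (f ≫ σ)⁻¹) ≫ f = 1 := by
    rw [MonObj.mul_comp, GrpObj.inv_comp, Category.assoc, hσ, Category.comp_id, Category.id_comp,
      mul_inv_cancel]
  obtain ⟨r, hr⟩ := exists_lift_of_isKernel hk _ h1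
  let p : K ⊗ C ⟶ G := (fst K C ≫ k) * (snd K C ≫ σ)
  have hpf : p ≫ f = snd K C := by
    rw [MonObj.mul_comp, Category.assoc, Category.assoc, h2, hσ, MonObj.comp_one, _root_.one_mul,
      Category.comp_id]
  have hpr : p ≫ r = fst K C := by
    rw [← cancel_mono k, Category.assoc, hr, MonObj.comp_mul, GrpObj.comp_inv, Category.comp_id,
      ← Category.assoc, hpf]
    exact mul_inv_cancel_right _ _
  refine ⟨⟨lift r f, p, ?_, ?_⟩⟩
  · change lift r f ≫ ((fst K C ≫ k) * (snd K C ≫ σ)) = _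
    rw [MonObj.comp_mul, ← Category.assoc, lift_fst, ← Category.assoc, lift_snd, hr]
    exact inv_mul_cancel_right _ _
  · apply CartesianMonoidalCategory.hom_ext
    · rw [Category.assoc, lift_fst, hpr, Category.id_comp]
    · rw [Category.assoc, lift_snd, hpf, Category.id_comp]

end iso

section dim

lemma dim_congr {X Y : Scheme.{u}} (e : X ≅ Y) : topologicalKrullDim ↥X = topologicalKrullDim ↥Y :=
  IsHomeomorph.topologicalKrullDim_eq _ (Scheme.homeoOfIso e).isHomeomorph

variable {K : Type u} [Field K]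

/-- dimension of a product of affine schemes of finite type -/
theorem exists_dim_prod (X Y : Over (Spec (CommRingCat.of K))) [IsAffine X.left] [IsAffine Y.left]
    [LocallyOfFiniteType X.hom] [LocallyOfFiniteType Y.hom] [Nonempty X.left] [Nonempty Y.left] :
    ∃ n m : ℕ, topologicalKrullDim ↥X.left = n ∧ topologicalKrullDim ↥Y.left = m ∧
      topologicalKrullDim ↥(X ⊗ Y).left = ((n + m : ℕ) : WithBot ℕ∞) := by
  let eX := X.left.isoSpec
  let eY := Y.left.isoSpec
  have hX : Nonempty (Spec Γ(X.left, ⊤)) := ⟨eX.hom (Classical.arbitrary _)⟩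
  have hY : Nonempty (Spec Γ(Y.left, ⊤)) := ⟨eY.hom (Classical.arbitrary _)⟩
  obtain ⟨n, m, hn, hm, hnm, -⟩ := Groth.Agent.CycA.ProdDim.exists_dim_pullback_Spec
    Γ(X.left, ⊤) Γ(Y.left, ⊤) (eX.inv ≫ X.hom) (eY.inv ≫ Y.hom)
  refine ⟨n, m, (dim_congr eX).trans hn, (dim_congr eY).trans hm, ?_⟩
  rw [← hnm]
  have hiso : IsIso (pullback.map X.hom Y.hom (eX.inv ≫ X.hom) (eY.inv ≫ Y.hom) eX.hom eY.hom (𝟙 _)
      (by rw [Category.comp_id, Iso.hom_inv_id_assoc]) (by rw [Category.comp_id, Iso.hom_inv_id_assoc])) :=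
    pullback.map_isIso ..
  exact dim_congr (@asIso _ _ _ _ _ hiso)

/-- dimension of a split torus -/
theorem dim_DS (M : Type) [AddCommGroup M] [Module.Free ℤ M] [Module.Finite ℤ M] :
    topologicalKrullDim ↥(Red.DS (Spec (CommRingCat.of K)) M).left =
      ((Module.finrank ℤ M : ℕ) : WithBot ℕ∞) := by
  let b := Module.finBasis ℤ M
  let e : M ≃+ (Fin (Module.finrank ℤ M) → ℤ) := b.equivFun.toAddEquiv
  rw [← Groth.Agent.Sga3.H816.TorusDim.topologicalKrullDim_DS K (Module.finrank ℤ M)]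
  obtain ⟨f, hf⟩ : ∃ f : Red.DS (Spec (CommRingCat.of K)) M ≅
      Red.DS (Spec (CommRingCat.of K)) (Fin (Module.finrank ℤ M) → ℤ), True :=
    ⟨⟨Red.DSmap _ e.symm.toAddMonoidHom, Red.DSmap _ e.toAddMonoidHom, by
      rw [BorSpan613.DSmap_comp_DSmap]
      have h4 : (e.symm.toAddMonoidHom).comp e.toAddMonoidHom = AddMonoidHom.id _ := by
        ext n
        simp
      rw [h4, BorSpan613.DSmap_id], by
      rw [BorSpan613.DSmap_comp_DSmap]
      have h4 : (e.toAddMonoidHom).comp e.symm.toAddMonoidHom = AddMonoidHom.id _ := by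
        ext n
        simp
      rw [h4, BorSpan613.DSmap_id]⟩, trivial⟩
  exact dim_congr ((Over.forget _).mapIso f)

theorem dim_geomFibre_DS {S : Scheme.{u}} (s : S) (M : Type) [AddCommGroup M] [Module.Free ℤ M]
    [Module.Finite ℤ M] :
    topologicalKrullDim ↥(Red.geomFibre s (Red.DS S M)).left =
      ((Module.finrank ℤ M : ℕ) : WithBot ℕ∞) := by
  rw [← dim_DS (K := AlgebraicClosure (S.residueField s)) M]
  have e := TorusAlgClosed.dsBcIso (Red.geomPt s) M
  exact dim_congr ((Over.forget _).mapIso ((Grp.forget _).mapIso e))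

end dim

section fibre

variable {S : Scheme.{u}} {G C K : Over S} [GrpObj G] [GrpObj C]

lemma surjective_of_sec {K : Over S} (x : 𝟙_ (Over S) ⟶ K) : Surjective K.hom := by
  have h1 : x.left ≫ K.hom = 𝟙 S := Over.w x
  refine ⟨fun s => ⟨x.left s, ?_⟩⟩
  rw [← Scheme.Hom.comp_apply, h1]
  rfl

lemma nonempty_geomFibre {K : Over S} (x : 𝟙_ (Over S) ⟶ K) (s : S) :
    Nonempty ((Over.pullback (Red.geomPt s)).obj K).left := by
  have h1 := surjective_of_sec x
  have h2 : Surjective ((Over.pullback (Red.geomPt s)).obj K).hom :=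
    inferInstanceAs (Surjective (pullback.snd _ _))
  obtain ⟨y, -⟩ := h2.surj (IsLocalRing.closedPoint (AlgebraicClosure (S.residueField s)))
  exact ⟨y⟩

/-- fibre dimension of the kernel of a split homomorphism -/
theorem dim_ker (f : G ⟶ C) [IsMonHom f] (σ : C ⟶ G) (hσ : σ ≫ f = 𝟙 C)
    {k : K ⟶ G} (hk : AlgGrp.IsKernel k f) [IsAffineHom K.hom] [IsAffineHom C.hom]
    [LocallyOfFiniteType K.hom] [LocallyOfFiniteType C.hom] (hK : Nonempty (𝟙_ (Over S) ⟶ K))
    (s : S) (n c : ℕ)
    (hn : topologicalKrullDim ↥(Red.geomFibre s G).left = (((n + c : ℕ) : ℕ) : WithBot ℕ∞))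
    (hc : topologicalKrullDim ↥(Red.geomFibre s C).left = ((c : ℕ) : WithBot ℕ∞)) :
    topologicalKrullDim ↥(Red.geomFibre s K).left = ((n : ℕ) : WithBot ℕ∞) := by
  obtain ⟨e⟩ := exists_iso f σ hσ hk
  let F := Over.pullback (Red.geomPt s)
  let e1 : F.obj G ≅ F.obj K ⊗ F.obj C := F.mapIso e ≪≫ (Functor.Monoidal.μIso F K C).symm
  have h1 : IsAffine (F.obj K).left := by
    have h : IsAffineHom (F.obj K).hom := inferInstanceAs (IsAffineHom (pullback.snd _ _))
    exact isAffine_of_isAffineHom (F.obj K).hom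
  have h2 : IsAffine (F.obj C).left := by
    have h : IsAffineHom (F.obj C).hom := inferInstanceAs (IsAffineHom (pullback.snd _ _))
    exact isAffine_of_isAffineHom (F.obj C).hom
  have h3 : LocallyOfFiniteType (F.obj K).hom := inferInstanceAs (LocallyOfFiniteType (pullback.snd _ _))
  have h4 : LocallyOfFiniteType (F.obj C).hom := inferInstanceAs (LocallyOfFiniteType (pullback.snd _ _))
  obtain ⟨x⟩ := hK
  have h5 : Nonempty (F.obj K).left := nonempty_geomFibre x s
  have h6 : Nonempty (F.obj C).left := nonempty_geomFibre η[C] s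
  obtain ⟨a, b, ha, hb, hab⟩ := exists_dim_prod (F.obj K) (F.obj C)
  have h7 : topologicalKrullDim ↥(F.obj G).left = topologicalKrullDim ↥(F.obj K ⊗ F.obj C).left :=
    dim_congr ((Over.forget _).mapIso e1)
  have h8 : ((n + c : ℕ) : WithBot ℕ∞) = ((a + b : ℕ) : WithBot ℕ∞) := (hn.symm.trans h7).trans hab
  have h9 : ((c : ℕ) : WithBot ℕ∞) = ((b : ℕ) : WithBot ℕ∞) := hc.symm.trans hb
  have h10 : n + c = a + b := by exact_mod_cast h8
  have h11 : c = b := by exact_mod_cast h9
  have h12 : n = a := by omega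
  rw [h12]
  exact ha

end fibre

end K196.SecProd
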