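import Groth.Agent.Sga3B.PinComb829

/-!
# A functional vanishing on a simple root and positive on the other positive roots
-/

set_option autoImplicit false

namespace K196.SimpleFn

open Groth.Agent.Sga3B Module

variable {ι M N : Type*} [Finite ι] [AddCommGroup M] [AddCommGroup N] [Module.Free ℤ M] [Module.Finite ℤ M]
  {P : RootPairing ι ℤ M N} (b : P.Base)

theorem exists_functional_simple {a : ι} (ha : a ∈ b.support) : ∃ lam : M →+ ℤ, lam (P.root a) = 0 ∧
    ∀ c, b.IsPos c → c ≠ a → 0 < lam (P.root c) := by
  classical
  obtain ⟨lam, n, hn, h⟩ := PinComb.exists_functional_of_linearIndependent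
    (fun i : b.support => P.root i) (b.linearIndepOn_root.restrict_scalars' ℤ)
    (fun i => if (i : ι) = a then 0 else 1)
  refine ⟨lam, ?_, ?_⟩
  · rw [h ⟨a, ha⟩, if_pos rfl, mul_zero]
  · intro c hc hca
    obtain ⟨f, hf0, hf1, hf2⟩ := b.exists_root_eq_sum_int c
    have hfpos : 0 < f := by
      refine hf1.resolve_right fun h => ?_
      rw [RootPairing.Base.isPos_iff, RootPairing.Base.height_eq_sum hf2] at hc
      exact absurd hc (not_lt.mpr (Finset.sum_nonpos fun j _ => h.le j))
    have h1 : lam (P.root c) = ∑ j ∈ b.support, f j * (n * (if j = a then 0 else 1)) := by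
      rw [hf2, map_sum]
      refine Finset.sum_congr rfl fun j hj => ?_
      rw [map_zsmul, h ⟨j, hj⟩, smul_eq_mul]
    rw [h1]
    apply Finset.sum_pos'
    · intro j _
      split_ifs
      · simp
      · rw [mul_one]
        exact mul_nonneg (hfpos.le j) hn.le
    · by_contra hcon
      push Not at hcon
      have h2 : ∀ j ∈ b.support, j ≠ a → f j = 0 := by
        intro j hj hja
        have h3 := hcon j hj
        rw [if_neg hja, mul_one] at h3
        have h4 : 0 ≤ f j := hfpos.le j
        nlinarith
      have h3 : P.root c = f a • P.root a := by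
        rw [hf2]
        refine Finset.sum_eq_single_of_mem a ha fun j hj hja => ?_
        rw [h2 j hj hja, zero_smul]
      obtain ⟨m, hm⟩ := Int.eq_ofNat_of_zero_le (hfpos.le a)
      have h4 : P.root c = (m : ℤ) • P.root a := by rw [h3, hm]
      have h5 := PinComb.eq_one_of_root_eq_nsmul b h4
      rw [h5, Nat.cast_one, one_smul] at h4
      exact hca (P.root.injective h4)

end K196.SimpleFn
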