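import Groth.Agent.RedSub.K196.Le
import Groth.Agent.RedSub.H643.TypeRTorus
import Groth.Agent.Sga3B.TorClosed636

/-!
# Maximal tori as subgroups of type (R); local splittings relative to a maximal torus;
comparison of subgroups of type (R) containing a common maximal torus
-/

set_option autoImplicit false
universe u

open CategoryTheory MonoidalCategory CartesianMonoidalCategory MonObj GrpObj AlgebraicGeometry Limits

namespace K196.TorLoc

open Groth.Agent.Sga3B Groth.Agent.RedSub Groth.Agent.RedSub.H635 Uniq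

variable {S : Scheme.{u}} {G T : Over S} [GrpObj G] [GrpObj T]

/-- A maximal torus of a reductive group is a subgroup of type (R). -/
theorem isTypeR_of_isMaximalTorus (hG : Red.IsReductive G) {i : T ⟶ G} (hi : Red.IsMaximalTorus i) :
    _root_.RedSub.IsTypeR i := by
  have h1 := TorClosed636.isClosedImmersion_of_isMaximalTorus hG hi
  have h2 : IsMonHom i := hi.1
  have h3 := TorusAlgClosed.smooth_of_isTorus hi.2.2.1
  have h4 := TorusAlgClosed.isAffineHom_of_isTorus hi.2.2.1
  have h5 := TorusIrr.geometricallyIrreducible_of_isTorus hi.2.2.1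
  refine H641.TypeRBc.isTypeR_of_torus hG ⟨h2, inferInstance⟩ h3 inferInstance
    (H641.TypeRBc.hasConnectedFibres_of_geomIrr) (𝟙 T) ?_
  rw [Category.id_comp]
  exact hi

/-- Étale-locally a maximal torus contains the torus of a splitting. -/
theorem exists_splitRed_rel (hG : Red.IsReductive G) {i : T ⟶ G} (hi : Red.IsMaximalTorus i) (s : S) :
    ∃ (U : Scheme.{u}) (f : U ⟶ S), Etale f ∧ s ∈ Set.range f.base ∧
      ∃ (D : Red.SplitRed (Red.bc f G)) (t : D.T ⟶ Red.bc f T), t ≫ (Over.pullback f).map i = D.i :=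
  H643.TypeRTorus.exists_splitRed_into hG i (isTypeR_of_isMaximalTorus hG hi) s

variable {H H' : Over S} [GrpObj H] [GrpObj H']

/-- Comparison of two subgroups of type (R) containing a common maximal torus: it is enough that, for every
étale-local splitting with torus contained in `T`, tangent roots of `H` are tangent roots of `H'`. -/
theorem exists_le (hG : Red.IsReductive G) {i : T ⟶ G} (hi : Red.IsMaximalTorus i) (h : H ⟶ G) (h' : H' ⟶ G)
    (hH : _root_.RedSub.IsTypeR h) (hH' : _root_.RedSub.IsTypeR h') (t : T ⟶ H) (t' : T ⟶ H')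
    (ht : t ≫ h = i) (ht' : t' ≫ h' = i)
    (hE : ∀ (U : Scheme.{u}) (f : U ⟶ S) (_ : Etale f) (D : Red.SplitRed (Red.bc f G))
      (t₀ : D.T ⟶ Red.bc f T), t₀ ≫ (Over.pullback f).map i = D.i →
      ∀ (a : D.idx) (K : Type u) [Field K] (x : Spec (CommRingCat.of K) ⟶ U),
        Tg D ((Over.pullback f).map h) a K x → Tg D ((Over.pullback f).map h') a K x) :
    ∃ v : H ⟶ H', v ≫ h' = h := by
  have hi' : IsImmersion h'.left := hH'.1.2
  refine H657.FacLoc.inP_of_local h' h fun σ => ?_
  obtain ⟨U, f, hf, hs, D, t₀, ht₀⟩ := exists_splitRed_rel hG hi σ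
  refine ⟨U, f, inferInstance, inferInstance, hs, ?_⟩
  have k0 := H641.TypeRBc.isR0_bc f (H641.TypeRBc.isR0_of_isTypeR hH)
  have k0' := H641.TypeRBc.isR0_bc f (H641.TypeRBc.isR0_of_isTypeR hH')
  have k1 : IsMonHom ((Over.pullback f).map h) := k0.1.1
  have k1' : IsMonHom ((Over.pullback f).map h') := k0'.1.1
  have k2 : IsImmersion ((Over.pullback f).map h).left := k0.1.2
  have k2' : IsImmersion ((Over.pullback f).map h').left := k0'.1.2
  have k3 : Smooth (Red.bc f H).hom := k0.2.1
  have k3' : Smooth (Red.bc f H').hom := k0'.2.1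
  refine K196.Le.exists_le D ((Over.pullback f).map h) k0.2.2.2 (t₀ ≫ (Over.pullback f).map t) ?_
    ((Over.pullback f).map h') (t₀ ≫ (Over.pullback f).map t') ?_ ?_
  · rw [Category.assoc, ← Functor.map_comp, ht, ht₀]
  · rw [Category.assoc, ← Functor.map_comp, ht', ht₀]
  · rintro a σ ⟨K, _, x, hx, hT⟩
    exact ⟨K, inferInstance, x, hx, hE U f hf D t₀ ht₀ a K x hT⟩

end K196.TorLoc
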