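import Groth.Agent.S5546
import Groth.Agent.RedSub.K196.NormU
import Groth.Agent.RedSub.K196.Dict
import Groth.Agent.RedSub.H633.CellPtsR
import Groth.Agent.RedSub.H637.PosRoots

/-!
# The unipotent radical of a subgroup of type (R) with positive roots, and subgroups normalising it
-/

set_option autoImplicit false
set_option linter.unusedSectionVars false
universe u

open CategoryTheory MonoidalCategory CartesianMonoidalCategory MonObj GrpObj AlgebraicGeometry Limits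

namespace K196.URad

open Groth.Agent.Sga3B Groth.Agent.Sga3B.Cell Groth.Agent.Sga3B.Cell.Datum Groth.Agent.Sga3B.PinMod
  Groth.Agent.Sga3B.DSPts Groth.Agent.Sga3B.GaPts
  Groth.Agent.RedSub Groth.Agent.RedSub.H635 ConjCoact Uniq SchNbd Wt Loc NormU

lemma prod_ofFn_single {𝒢 : Type*} [Monoid 𝒢] : ∀ {m : ℕ} (f : Fin m → 𝒢) (k : Fin m),
    (∀ l, l ≠ k → f l = 1) → (List.ofFn f).prod = f k
  | 0, _, k, _ => k.elim0
  | m + 1, f, k, h => by
    rw [List.ofFn_succ, List.prod_cons]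
    refine Fin.cases (motive := fun k => (∀ l, l ≠ k → f l = 1) →
      f 0 * (List.ofFn fun i => f i.succ).prod = f k) ?_ ?_ k h
    · intro h
      have h1 : (List.ofFn fun i => f (Fin.succ i)).prod = 1 := by
        apply List.prod_eq_one
        intro g hg
        obtain ⟨l, rfl⟩ := List.mem_ofFn.mp hg
        exact h _ (Fin.succ_ne_zero l)
      rw [h1, _root_.mul_one]
    · intro k h
      rw [h 0 (Fin.succ_ne_zero k).symm, _root_.one_mul]
      exact prod_ofFn_single (fun i => f i.succ) k fun l hl => h _ fun h' => hl (Fin.succ_injective _ h')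

variable {S : Scheme.{u}} [ConnectedSpace S] {G H : Over S} [GrpObj G] [GrpObj H] (D : Red.SplitRed G)

/-- the points of the unipotent radical of a subgroup of type (R) with positive roots -/
theorem radical_points (h : H ⟶ G) (hH : _root_.RedSub.IsTypeR h) (t : D.T ⟶ H) (ht : t ≫ h = D.i) (R' : Set D.idx)
    (hR' : ∀ a : D.idx, (∃ v : Red.Ga S ⟶ H, v ≫ h = D.u a) ↔ a ∈ R')
    (hpos : ∃ b : D.P.Base, R' ⊆ _root_.RedSub.posRoots D.P b) {U : Over S} [GrpObj U] (u : U ⟶ H)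
    (hU : Par.IsUnipotentRadical u) :
    (∀ a ∈ R', ∃ v : Red.Ga S ⟶ U, v ≫ u ≫ h = D.u a) ∧
      ∀ {R : Type u} [CommRing R] {s : Spec (CommRingCat.of R) ⟶ S} (c : Chart G s) {B : Type u}
        [CommRing B] [Algebra R B] (g : Pt R c.A B), (∃ v : tB s B ⟶ U, v ≫ u ≫ h = c.pts B g) →
          g ∈ Gen (c.datum D) R' B := by
  obtain ⟨U₁, _, u₁, hm₁, -, -, hU₁, -, hψ⟩ := Groth.Agent.S5546.result D h hH t ht R' hR' hpos
  obtain ⟨m, e, he⟩ := H637.PosRoots.exists_enumerates R'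
  obtain ⟨ψ, hψ⟩ := hψ e he
  have hmu : IsMonHom u := hU.1
  obtain ⟨f, hf⟩ := hU₁.2.2.2.2.2.2 U u hU.2.1 hU.2.2.1 hU.2.2.2.1 hU.2.2.2.2.1 hU.2.2.2.2.2.1
  obtain ⟨f', hf'⟩ := hU.2.2.2.2.2.2 U₁ u₁ hU₁.2.1 hU₁.2.2.1 hU₁.2.2.2.1 hU₁.2.2.2.2.1 hU₁.2.2.2.2.2.1
  constructor
  · intro a ha
    rw [← he.2] at ha
    obtain ⟨k, rfl⟩ := ha
    classical
    let p : Red.Ga S ⟶ _root_.RedSub.pow (Red.Ga S) m :=
      H633.PowPts.mkPt (fun l => if l = k then 𝟙 (Red.Ga S) else 1)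
    refine ⟨p ≫ ψ.hom ≫ f', ?_⟩
    have h1 : (p ≫ ψ.hom ≫ f') ≫ u ≫ h = p ≫ ψ.hom ≫ u₁ ≫ h := by
      rw [← hf']
      simp only [Category.assoc]
    rw [h1, hψ, H633.PowPts.comp_prodMap, prod_ofFn_single _ k]
    · rw [H633.PowPts.coord_mkPt, if_pos rfl, Category.id_comp]
    · intro l hl
      have hu : IsMonHom (D.u (e l)) := (D.rootHom (e l)).1
      rw [H633.PowPts.coord_mkPt, if_neg hl, MonObj.one_comp]
  · intro R _ s c B _ _ g hg
    obtain ⟨v, hv⟩ := hg
    choose x hx using fun l => (H633.CellPtsR.gaB_bijective s (B := B)).2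
      (H633.PowPts.coord (v ≫ f ≫ ψ.inv) l)
    have h1 : g = (List.ofFn fun k => (c.datum D).uu (e k) B (x k)).prod := by
      apply (c.pts B).injective
      have h2 : (v ≫ f ≫ ψ.inv) ≫ ψ.hom ≫ u₁ ≫ h = v ≫ u ≫ h := by
        rw [← hf]
        simp only [Category.assoc, Iso.inv_hom_id_assoc]
      rw [H633.CellPtsR.pts_prod, ← hv, ← h2, hψ, H633.PowPts.comp_prodMap]
      congr 2
      funext k
      rw [hx k]
    rw [h1]
    apply Submonoid.list_prod_mem
    intro g hg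
    obtain ⟨k, rfl⟩ := List.mem_ofFn.mp hg
    refine Submonoid.subset_closure ⟨e k, ?_, x k, rfl⟩
    rw [← he.2]
    exact ⟨k, rfl⟩

/-- **A subgroup of type (R) normalises the unipotent radical of another one**, if its roots are not opposite to those of
the radical and the sum of a root of the radical and a root of it, if it is a root, is a root of the radical. -/
theorem normalizes (h : H ⟶ G) (hH : _root_.RedSub.IsTypeR h) (t : D.T ⟶ H) (ht : t ≫ h = D.i) (R' : Set D.idx)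
    (hR' : ∀ a : D.idx, (∃ v : Red.Ga S ⟶ H, v ≫ h = D.u a) ↔ a ∈ R')
    (hcl : ∀ a b c : D.idx, a ∈ R' → b ∈ R' → D.P.root a + D.P.root b = D.P.root c → c ∈ R')
    (hpos : ∃ b : D.P.Base, R' ⊆ _root_.RedSub.posRoots D.P b) {U : Over S} [GrpObj U] (u : U ⟶ H)
    (hU : Par.IsUnipotentRadical u)
    {H'' : Over S} [GrpObj H''] (h'' : H'' ⟶ G) (hH'' : _root_.RedSub.IsTypeR h'') (t'' : D.T ⟶ H'')
    (ht'' : t'' ≫ h'' = D.i)
    (R'' : Set D.idx) (hR'' : ∀ a : D.idx, (∃ v : Red.Ga S ⟶ H'', v ≫ h'' = D.u a) ↔ a ∈ R'')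
    (hmix : ∀ a b c : D.idx, a ∈ R' → b ∈ R'' → D.P.root a + D.P.root b = D.P.root c → c ∈ R')
    (hopp : ∀ a ∈ R', D.P.reflectionPerm a a ∉ R'') {X : Over S} (y : X ⟶ H'') (x : X ⟶ U) :
    ∃ x' : X ⟶ U, (y ≫ h'') * (x ≫ u ≫ h) * (y ≫ h'')⁻¹ = x' ≫ u ≫ h := by
  obtain ⟨h1, h2⟩ := radical_points D h hH t ht R' hR' hpos u hU
  obtain ⟨⟨hm, hi⟩, hs, -, hc, -⟩ := hH
  obtain ⟨⟨hm'', hi''⟩, hs'', -, hc'', -⟩ := hH''
  have hmu : IsMonHom u := hU.1
  have hcu : IsClosedImmersion u.left := hU.2.1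
  have hmono : Mono (u ≫ h).left := by
    rw [Over.comp_left]
    infer_instance
  have key := nrm_of_roots D h'' (u ≫ h) hc'' t'' ht'' (fun a => E_eq D h'' t'' ht'' a) R' R'' hcl hmix (by
      intro a ha b hb hab
      refine hopp a ha ?_
      have h3 : D.P.reflectionPerm a a = b := by
        apply D.P.root.injective
        rw [hab]
        simp
      rw [h3]
      exact hb) (by
      intro b
      by_cases hb : b ∈ R''
      · exact Or.inr hb
      · exact Or.inl (Dict.E_eq_empty D h'' t'' ht'' (fun h => hb ((hR'' b).mp h)))) h1 h2 y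
  obtain ⟨x', hx'⟩ := key X (𝟙 X) x
  rw [Category.id_comp] at hx'
  exact ⟨x', hx'⟩

end K196.URad
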